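import Cfsg.Agent.Lib.J4Ten.Defs

/-!
# Checks: the involutions with fixed points are conjugate into the octad fixers
-/

set_option autoImplicit false
set_option maxRecDepth 8000

namespace Cfsg.Agent.Lib.J4Ten

open Cfsg.Agent.Lib.Computation Cfsg.Agent.Lib.Golay

/-- The number of fixed points of a code. -/
def fixN (c : ℕ) : ℕ := ((List.range 24).filter fun i => Nat.beq (getW 5 c i) i).length

theorem conj_len : Data.conjT.length = Data.invC.length := by decide +kernel

theorem conj_ok : ((Data.invC.zip Data.conjT).all fun q => Nat.ble (fixN q.1) 8 &&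
    (Nat.beq (fixN q.1) 0 || (inM24 q.2.1 && Nat.blt 0 q.2.2 && Nat.blt q.2.2 16 &&
      Nat.beq (cm q.2.1 q.1) (cm (rC q.2.2) q.2.1)))) = true := by
  decide +kernel

end Cfsg.Agent.Lib.J4Ten
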