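import Cfsg.Agent.Lib.J4Ten.StdDefs

/-!
# Checks: pairs added to a vector that is not a pair
-/

set_option autoImplicit false
set_option maxRecDepth 20000

namespace Cfsg.Agent.Lib.J4Ten

open Cfsg.Agent.Lib.Computation Cfsg.Agent.Lib.Golay Cfsg.Agent.Lib.J4Big.Cocode

/-- The condition on a vector. -/
def coverAt (v : ℕ) : Bool :=
  Nat.beq v 0 || dGood.testBit v ||
    (Nat.beq (pairIdx.filter fun q => dGood.testBit (pairVal q ^^^ v)).length 36 &&
      (List.range 24).all fun a => (List.range 24).any fun b =>
        !Nat.beq a b && dGood.testBit (duo a b ^^^ v))

theorem cover_part0 : ((List.range 256).all fun d => coverAt (0 + d)) = true := by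
  decide +kernel

theorem cover_part1 : ((List.range 256).all fun d => coverAt (256 + d)) = true := by
  decide +kernel

theorem cover_part2 : ((List.range 256).all fun d => coverAt (512 + d)) = true := by
  decide +kernel

theorem cover_part3 : ((List.range 256).all fun d => coverAt (768 + d)) = true := by
  decide +kernel

theorem cover_part4 : ((List.range 256).all fun d => coverAt (1024 + d)) = true := by
  decide +kernel

theorem cover_part5 : ((List.range 256).all fun d => coverAt (1280 + d)) = true := by
  decide +kernel

theorem cover_part6 : ((List.range 256).all fun d => coverAt (1536 + d)) = true := by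
  decide +kernel

theorem cover_part7 : ((List.range 256).all fun d => coverAt (1792 + d)) = true := by
  decide +kernel

/-- For a vector that is neither zero nor a pair: 36 pairs of points whose value added to it is
again a pair, covering every point. -/
theorem cover_ok {v : ℕ} (hv : v < 2048) : coverAt v = true := by
  have key : ∀ o, ((List.range 256).all fun d => coverAt (o + d)) = true → o ≤ v → v < o + 256 →
      coverAt v = true := by
    intro o h h1 h2
    have := List.all_eq_true.mp h (v - o) (List.mem_range.mpr (by omega))
    rwa [Nat.add_sub_cancel' h1] at this
  by_cases h0 : v < 256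
  · exact key _ cover_part0 (by omega) (by omega)
  by_cases h1 : v < 512
  · exact key _ cover_part1 (by omega) (by omega)
  by_cases h2 : v < 768
  · exact key _ cover_part2 (by omega) (by omega)
  by_cases h3 : v < 1024
  · exact key _ cover_part3 (by omega) (by omega)
  by_cases h4 : v < 1280
  · exact key _ cover_part4 (by omega) (by omega)
  by_cases h5 : v < 1536
  · exact key _ cover_part5 (by omega) (by omega)
  by_cases h6 : v < 1792
  · exact key _ cover_part6 (by omega) (by omega)
  by_cases h7 : v < 2048
  · exact key _ cover_part7 (by omega) (by omega)
  omega

end Cfsg.Agent.Lib.J4Ten
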