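import Cfsg.Agent.Lib.J4Ten.NormV
import Cfsg.Agent.Lib.J4Big.Orbit

/-!
# The orbits and the order of the normaliser of the standard `2^10`

The elements conjugate into the 276 are split into blocks of 28 by the conjugate of `V` they
determine; so they number 868, and the normaliser is transitive on them and on the other 155.
-/

set_option autoImplicit false
set_option linter.unusedSectionVars false
set_option maxRecDepth 10000

namespace Cfsg.Agent.Lib.J4Ten

open Cfsg Cfsg.Agent.Lib.Computation Cfsg.Agent.Lib.Golay Cfsg.Agent.Lib.J4Big.Cocode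
open scoped Pointwise
open Cfsg.Agent.Lib.J4Big.Orbit (orb self_mem_orb orb_eq ncard_orb_mul)

attribute [local irreducible] Data.s28 Data.s35 Data.s120 Data.s840

variable {G : Type*} [Group G] [Finite G]

theorem cj_mul (g h x : G) : cj (g * h) x = cj g (cj h x) := by
  simp only [cj_apply]; group

theorem cj_inv_cancel (g x : G) : cj g⁻¹ (cj g x) = x := by
  simp only [cj_apply]; group

theorem cj_cancel_inv (g x : G) : cj g (cj g⁻¹ x) = x := by
  simp only [cj_apply]; group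

namespace Model

variable {z : G} (M : Model z)

/-- The coordinates of the elements conjugate into the 276. -/
def IsW (a : ℕ) : Prop := ∃ g : G, cj g (M.chi a) ∈ duadSet z M.V

/-- Some element of the standard group outside `V` is conjugate into the 276. -/
def Outer : Prop := ∃ a, 64 ≤ a ∧ a < 1024 ∧ M.IsW a

theorem isW_s28 {a : ℕ} (ha : a ∈ Data.s28) : M.IsW a :=
  ⟨1, by rw [show cj (1 : G) (M.chi a) = M.chi a by simp [cj]]
         exact (M.chi_duad_iff (coord_lt (Or.inl ha)).1).mpr ha⟩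

theorem not_isW_s35 {a : ℕ} (ha : a ∈ Data.s35) : ¬ M.IsW a := fun ⟨g, h⟩ =>
  h.2.2 (isConj_conj.mpr (M.isConj_of_s35 ha))

theorem isW_of_conj {a b : ℕ} {m : G} (h : cj m (M.chi a) = M.chi b) (hb : M.IsW b) : M.IsW a := by
  obtain ⟨g, hg⟩ := hb
  exact ⟨g * m, by rw [cj_mul, h]; exact hg⟩

theorem isW_conj_iff {a b : ℕ} {m : G} (h : cj m (M.chi a) = M.chi b) : M.IsW a ↔ M.IsW b :=
  ⟨fun ha => M.isW_of_conj (m := m⁻¹) (by rw [← h, cj_inv_cancel]) ha, M.isW_of_conj h⟩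

/-- An elementary `2^11` containing a member of the 276 of `V` is `V`. -/
theorem eq_V {W : Subgroup G} (hW : Cfsg.IsElementaryAbelian 2 W) (hc : Nat.card ↥W = 2 ^ 11) {t : G}
    (ht : t ∈ duadSet z M.V) (htW : t ∈ W) : W = M.V := by
  have := Fact.mk Nat.prime_two
  have hWN : W ≤ Subgroup.normalizer (M.V : Set G) := fun w hw => by
    refine M.cz_le t ht (Subgroup.mem_centralizer_iff.mpr fun y hy => ?_)
    rw [Set.mem_singleton_iff.mp hy]
    exact congrArg Subtype.val (hW.1.1.1 ⟨t, htW⟩ ⟨w, hw⟩)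
  have hp : IsPGroup 2 ↥(W ⊔ M.V) :=
    (IsPGroup.of_card (n := 11) hc).to_sup_of_normal_right' M.isPGroup_V hWN
  obtain ⟨T, hT⟩ := hp.exists_le_sylow
  exact (M.unique T).unique ⟨le_sup_left.trans hT, hW, hc⟩
    ⟨le_sup_right.trans hT, M.V_elementary, M.card_V⟩

/-- An element conjugated into the 276 can be carried to one of the 28 inside the normaliser. -/
theorem exists_to_s28 {a : ℕ} (ha : a < 1024) {g : G} (hg : cj g (M.chi a) ∈ duadSet z M.V) :
    ∃ m ∈ Subgroup.normalizer (M.stdA : Set G), ∃ n ∈ Subgroup.normalizer (M.V : Set G),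
      m = n * g ∧ ∃ b ∈ Data.s28, cj m (M.chi a) = M.chi b := by
  have hA : IsTen (M.stdA.map (cj g)) := M.isTen_stdA.map g
  have hle : M.stdA.map (cj g) ≤ Subgroup.normalizer (M.V : Set G) := fun x hx => by
    refine M.cz_le _ hg (Subgroup.mem_centralizer_iff.mpr fun y hy => ?_)
    rw [Set.mem_singleton_iff.mp hy]
    exact hA.comm ⟨_, M.chi_mem ha, rfl⟩ hx
  obtain ⟨n, hn, hne⟩ := M.exists_norm_std hA hle
  rw [map_cj_map] at hne
  have hm := mem_normalizer_of_map_eq hne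
  obtain ⟨b, hb, hbe⟩ := M.mem_stdA.mp ((Subgroup.mem_normalizer_iff.mp hm _).mp (M.chi_mem ha))
  refine ⟨n * g, hm, n, hn, rfl, b, ?_, by rw [cj_apply, hbe]⟩
  refine (M.chi_duad_iff hb).mp ?_
  rw [hbe, ← cj_apply, cj_mul]
  exact (M.cj_duad_iff hn).mpr hg

open Classical in
/-- The conjugate of `V` determined by a coordinate. -/
noncomputable def blockV (a : ℕ) : Subgroup G :=
  if h : M.IsW a then M.V.map (cj (Classical.choose h)⁻¹) else ⊥

/-- The coordinates conjugate into the 276. -/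
noncomputable def wSet : Finset ℕ :=
  open Classical in (Finset.range 1024).filter M.IsW

theorem mem_wSet {a : ℕ} : a ∈ M.wSet ↔ a < 1024 ∧ M.IsW a := by
  classical
  simp [wSet]

theorem block_eq {a : ℕ} {g : G} (hg : cj g (M.chi a) ∈ duadSet z M.V) :
    M.blockV a = M.V.map (cj g⁻¹) := by
  have hW : M.IsW a := ⟨g, hg⟩
  rw [blockV, dif_pos hW]
  set c := Classical.choose hW with hc
  have hcs : cj c (M.chi a) ∈ duadSet z M.V := Classical.choose_spec hW
  have e : (M.V.map (cj c⁻¹)).map (cj g) = M.V := by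
    refine M.eq_V (elementary_map (elementary_map M.V_elementary _) _)
      (by rw [card_map_cj, card_map_cj, M.card_V]) hg ?_
    exact ⟨M.chi a, ⟨cj c (M.chi a), hcs.1, cj_inv_cancel c _⟩, rfl⟩
  calc M.V.map (cj c⁻¹) = ((M.V.map (cj c⁻¹)).map (cj g)).map (cj g⁻¹) := by
        rw [map_cj_map _ g⁻¹ g, inv_mul_cancel, map_cj_one]
    _ = _ := by rw [e]

theorem wSet_card_dvd : 28 ∣ M.wSet.card := by
  classical
  rw [Finset.card_eq_sum_card_image M.blockV]
  refine Finset.dvd_sum fun W hW => ?_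
  obtain ⟨a, ha, rfl⟩ := Finset.mem_image.mp hW
  obtain ⟨ha', g, hg⟩ := M.mem_wSet.mp ha
  obtain ⟨m, hm, n, hn, rfl, b, hb, hmb⟩ := M.exists_to_s28 ha' hg
  refine dvd_of_eq (Eq.symm ?_)
  rw [← s_card.2.2.2.2.1, ← List.toFinset_card_of_nodup s_card.1, M.block_eq hg]
  -- the block is carried onto the 28
  have himg : ∀ c < 1024, ∃ d < 1024, cj (n * g) (M.chi c) = M.chi d := fun c hc => by
    obtain ⟨d, hd, he⟩ := M.mem_stdA.mp ((Subgroup.mem_normalizer_iff.mp hm _).mp (M.chi_mem hc))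
    exact ⟨d, hd, he.symm⟩
  have himg' : ∀ d < 1024, ∃ c < 1024, cj (n * g) (M.chi c) = M.chi d := fun d hd => by
    obtain ⟨c, hc, he⟩ := M.mem_stdA.mp
      ((Subgroup.mem_normalizer_iff.mp (inv_mem hm) _).mp (M.chi_mem hd))
    exact ⟨c, hc, by rw [he, cj_apply]; group⟩
  have hmem : ∀ c, c ∈ M.wSet.filter (fun x => M.blockV x = M.V.map (cj g⁻¹)) ↔
      c < 1024 ∧ cj (n * g) (M.chi c) ∈ duadSet z M.V := by
    intro c
    rw [Finset.mem_filter, M.mem_wSet, cj_mul, M.cj_duad_iff hn]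
    constructor
    · rintro ⟨⟨hc, g', hg'⟩, hb'⟩
      refine ⟨hc, ?_⟩
      rw [M.block_eq hg'] at hb'
      have hin : cj g (M.chi c) ∈ M.V := by
        have h1 : M.chi c ∈ M.V.map (cj g⁻¹) := hb' ▸ ⟨_, hg'.1, cj_inv_cancel g' _⟩
        obtain ⟨v, hv, hve⟩ := h1
        rw [← hve, cj_cancel_inv]
        exact hv
      refine ⟨hin, fun h1 => hg'.2.1 ?_, fun hc' => hg'.2.2 (isConj_conj.mpr (isConj_conj.mp hc'))⟩
      rw [cj_apply, conj_eq_one_iff] at h1
      rw [h1, map_one]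
    · rintro ⟨hc, hd⟩
      exact ⟨⟨hc, g, hd⟩, M.block_eq hd⟩
  choose d hd hde using himg
  refine Finset.card_bij (fun c hc => d c ((hmem c).mp hc).1) ?_ ?_ ?_
  · intro c hc
    obtain ⟨hc', hD⟩ := (hmem c).mp hc
    rw [hde c hc'] at hD
    exact List.mem_toFinset.mpr ((M.chi_duad_iff (hd c hc')).mp hD)
  · intro c hc c' hc' he
    have h1 := hde c ((hmem c).mp hc).1
    have h2 := hde c' ((hmem c').mp hc').1
    rw [he, ← h2] at h1
    have := congrArg (cj (n * g)⁻¹) h1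
    rw [cj_inv_cancel, cj_inv_cancel] at this
    exact M.chi_inj ((hmem c).mp hc).1 ((hmem c').mp hc').1 this
  · intro e he
    rw [List.mem_toFinset] at he
    have he' := (coord_lt (Or.inl he)).1
    obtain ⟨c, hc, hce⟩ := himg' e he'
    have hcm := (hmem c).mpr ⟨hc, hce ▸ (M.chi_duad_iff he').mpr he⟩
    exact ⟨c, hcm, M.chi_inj (hd c hc) he' ((hde c hc).symm.trans hce)⟩

theorem isW_const {s : List ℕ} {P : List (ℕ × ℕ)} (h : orbCert Data.gCols s P = true)
    (hs : ∀ a ∈ s, a < 1024) {a b : ℕ} (ha : a ∈ s) (hb : b ∈ s) (hW : M.IsW a) : M.IsW b := by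
  obtain ⟨n, -, he⟩ := M.orbit_of_cert h hs ha hb
  exact (M.isW_conj_iff he).mp hW

theorem isW_iff (hO : M.Outer) {a : ℕ} (ha : a < 1024) :
    M.IsW a ↔ a ∈ Data.s28 ∨ a ∈ Data.s840 := by
  classical
  have hc := orbits_ok
  simp only [Bool.and_eq_true] at hc
  obtain ⟨⟨⟨-, -⟩, c120⟩, c840⟩ := hc
  have l120 : ∀ x ∈ Data.s120, x < 1024 := fun x hx => (big_facts (Or.inl hx)).2
  have l840 : ∀ x ∈ Data.s840, x < 1024 := fun x hx => (big_facts (Or.inr hx)).2
  have h0 : ¬ M.IsW 0 := fun ⟨g, hg⟩ => hg.2.1 (by rw [M.chi_zero, map_one])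
  have cases' : ∀ x < 1024, M.IsW x → x ∈ Data.s28 ∨ x ∈ Data.s120 ∨ x ∈ Data.s840 := by
    intro x hx hW
    rcases coord_cases hx (fun e => h0 (e ▸ hW)) with h | h | h
    · exact Or.inl h
    · exact absurd hW (M.not_isW_s35 h)
    · exact Or.inr h
  -- which of the two big orbits are inside
  obtain ⟨n28, n35, n120, n840, e28, e35, e120, e840⟩ := s_card
  have no120 : ∀ x ∈ Data.s120, ¬ M.IsW x := by
    intro x hx hW
    have hdvd := M.wSet_card_dvd
    by_cases h840 : ∃ y ∈ Data.s840, M.IsW y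
    · obtain ⟨y, hy, hyW⟩ := h840
      have heq : M.wSet = (Data.s28 ++ Data.s120 ++ Data.s840).toFinset := by
        ext w
        simp only [M.mem_wSet, List.mem_toFinset, List.mem_append]
        constructor
        · rintro ⟨hw, hwW⟩
          rcases cases' w hw hwW with h | h | h <;> simp [h]
        · rintro ((h | h) | h)
          · exact ⟨(coord_lt (Or.inl h)).1, M.isW_s28 h⟩
          · exact ⟨l120 w h, M.isW_const c120 l120 hx h hW⟩
          · exact ⟨l840 w h, M.isW_const c840 l840 hy h hyW⟩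
      rw [heq, List.toFinset_card_of_nodup] at hdvd
      · simp only [List.length_append, e28, e120, e840] at hdvd
        omega
      · rw [List.nodup_append, List.nodup_append]
        exact ⟨⟨n28, n120, fun p hp q hq e => (s_disjoint.1 hp).2.1 (e ▸ hq)⟩, n840, fun p hp q hq e => by
          rcases List.mem_append.mp hp with h | h
          · exact (s_disjoint.1 h).2.2 (e ▸ hq)
          · exact s_disjoint.2.2 h (e ▸ hq)⟩
    · push Not at h840
      have heq : M.wSet = (Data.s28 ++ Data.s120).toFinset := by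
        ext w
        simp only [M.mem_wSet, List.mem_toFinset, List.mem_append]
        constructor
        · rintro ⟨hw, hwW⟩
          rcases cases' w hw hwW with h | h | h
          · exact Or.inl h
          · exact Or.inr h
          · exact absurd hwW (h840 w h)
        · rintro (h | h)
          · exact ⟨(coord_lt (Or.inl h)).1, M.isW_s28 h⟩
          · exact ⟨l120 w h, M.isW_const c120 l120 hx h hW⟩
      rw [heq, List.toFinset_card_of_nodup] at hdvd
      · simp only [List.length_append, e28, e120] at hdvd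
        omega
      · rw [List.nodup_append]
        exact ⟨n28, n120, fun p hp q hq e => (s_disjoint.1 hp).2.1 (e ▸ hq)⟩
  obtain ⟨y, hy64, hy, hyW⟩ := hO
  have hy840 : y ∈ Data.s840 := by
    rcases cases' y hy hyW with h | h | h
    · have := (s28_facts h).1; omega
    · exact absurd hyW (no120 y h)
    · exact h
  constructor
  · intro hW
    rcases cases' a ha hW with h | h | h
    · exact Or.inl h
    · exact absurd hW (no120 a h)
    · exact Or.inr h
  · rintro (h | h)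
    · exact M.isW_s28 h
    · exact M.isW_const c840 l840 hy840 h hyW

theorem not_isW_iff (hO : M.Outer) {a : ℕ} (ha : a < 1024) :
    (a ≠ 0 ∧ ¬ M.IsW a) ↔ a ∈ Data.s35 ∨ a ∈ Data.s120 := by
  rw [M.isW_iff hO ha]
  constructor
  · rintro ⟨h0, hW⟩
    rcases coord_cases ha h0 with h | h | h | h
    · exact absurd (Or.inl h) hW
    · exact Or.inl h
    · exact Or.inr h
    · exact absurd (Or.inr h) hW
  · intro h
    refine ⟨(coord_lt (h.elim (fun h => Or.inr (Or.inl h)) fun h => Or.inr (Or.inr (Or.inl h)))).2, ?_⟩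
    rintro (h' | h') <;> rcases h with h | h
    · exact (s_disjoint.1 h').1 h
    · exact (s_disjoint.1 h').2.1 h
    · exact (s_disjoint.2.1 h).2 h'
    · exact s_disjoint.2.2 h h'

theorem normalizer_preserves (hO : M.Outer) {m : G} (hm : m ∈ Subgroup.normalizer (M.stdA : Set G))
    {a b : ℕ} (ha : a < 1024) (hb : b < 1024) (h : cj m (M.chi a) = M.chi b) :
    (a ∈ Data.s28 ∨ a ∈ Data.s840 ↔ b ∈ Data.s28 ∨ b ∈ Data.s840) ∧
      (a ∈ Data.s35 ∨ a ∈ Data.s120 ↔ b ∈ Data.s35 ∨ b ∈ Data.s120) := by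
  rw [← M.isW_iff hO ha, ← M.isW_iff hO hb, ← M.not_isW_iff hO ha, ← M.not_isW_iff hO hb,
    M.isW_conj_iff h]
  refine ⟨Iff.rfl, and_congr_left fun _ => not_congr ⟨fun e => ?_, fun e => ?_⟩⟩
  · refine M.chi_eq_one hb ?_
    rw [← h, e, M.chi_zero, map_one]
  · refine M.chi_eq_one ha ?_
    rw [e, M.chi_zero, cj_apply, conj_eq_one_iff] at h
    exact h

theorem trans_W (hO : M.Outer) {a b : ℕ} (ha : a ∈ Data.s28 ∨ a ∈ Data.s840)
    (hb : b ∈ Data.s28 ∨ b ∈ Data.s840) :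
    ∃ m ∈ Subgroup.normalizer (M.stdA : Set G), cj m (M.chi a) = M.chi b := by
  have hc := orbits_ok
  simp only [Bool.and_eq_true] at hc
  have key : ∀ x, (x ∈ Data.s28 ∨ x ∈ Data.s840) → ∃ y ∈ Data.s28,
      ∃ m ∈ Subgroup.normalizer (M.stdA : Set G), cj m (M.chi x) = M.chi y := by
    intro x hx
    have hx' := (coord_lt (hx.elim Or.inl fun h => Or.inr (Or.inr (Or.inr h)))).1
    obtain ⟨g, hg⟩ := (M.isW_iff hO hx').mpr hx
    obtain ⟨m, hm, -, -, -, y, hy, he⟩ := M.exists_to_s28 hx' hg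
    exact ⟨y, hy, m, hm, he⟩
  obtain ⟨p, hp, m, hm, hme⟩ := key a ha
  obtain ⟨q, hq, m', hm', hme'⟩ := key b hb
  obtain ⟨u, hu, hue⟩ := M.orbit_of_cert hc.1.1.1 (fun x hx => (coord_lt (Or.inl hx)).1) hp hq
  refine ⟨m'⁻¹ * (u * m), mul_mem (inv_mem hm') (mul_mem hu.1 hm), ?_⟩
  rw [cj_mul, cj_mul, hme, hue, ← hme', cj_inv_cancel]

theorem trans_nonW (hO : M.Outer) {a b : ℕ} (ha : a ∈ Data.s35 ∨ a ∈ Data.s120)
    (hb : b ∈ Data.s35 ∨ b ∈ Data.s120) :
    ∃ m ∈ Subgroup.normalizer (M.stdA : Set G), cj m (M.chi a) = M.chi b := by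
  have hc := orbits_ok
  simp only [Bool.and_eq_true] at hc
  have l35 : ∀ x ∈ Data.s35, x < 1024 := fun x hx => (coord_lt (Or.inr (Or.inl hx))).1
  have l120 : ∀ x ∈ Data.s120, x < 1024 := fun x hx => (big_facts (Or.inl hx)).2
  -- some element of the 35 is moved into the 120
  obtain ⟨p, hp, q, hq, m0, hm0, hpq⟩ : ∃ p ∈ Data.s35, ∃ q ∈ Data.s120,
      ∃ m ∈ Subgroup.normalizer (M.stdA : Set G), cj m (M.chi p) = M.chi q := by
    by_contra hcon
    push Not at hcon
    -- otherwise the span of the 35 is invariant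
    have hsmall : ∀ m ∈ Subgroup.normalizer (M.stdA : Set G), ∀ k < 64,
        ∃ k' < 64, cj m (M.chi k) = M.chi k' := by
      intro m hm k hk
      have h := small_ok
      simp only [Bool.and_eq_true, List.all_eq_true, List.mem_range] at h
      refine (spanL_induction (Q := fun k => k < 64 ∧ ∃ k' < 64, cj m (M.chi k) = M.chi k')
        ⟨by norm_num, 0, by norm_num, by rw [M.chi_zero, map_one]⟩ ?_ ?_ k (memN_iff.mp (h.2 k hk))).2
      · rintro x y ⟨hx, x', hx', hxe⟩ ⟨hy, y', hy', hye⟩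
        refine ⟨Nat.xor_lt_two_pow (n := 6) hx hy, x' ^^^ y', Nat.xor_lt_two_pow (n := 6) hx' hy', ?_⟩
        rw [M.chi_mul (by omega) (by omega), map_mul, hxe, hye, ← M.chi_mul (by omega) (by omega)]
      · intro x hx
        have hx64 := (s35_facts hx).1
        obtain ⟨x', hx', hxe⟩ := M.mem_stdA.mp
          ((Subgroup.mem_normalizer_iff.mp hm _).mp (M.chi_mem (show x < 1024 by omega)))
        have hxe' : cj m (M.chi x) = M.chi x' := hxe.symm
        refine ⟨hx64, x', ?_, hxe'⟩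
        rcases ((M.normalizer_preserves hO hm (by omega) hx' hxe').2).mp (Or.inl hx) with h' | h'
        · exact (s35_facts h').1
        · exact absurd hxe' (hcon x hx x' h' m hm)
    obtain ⟨y, hy64, hy, hyW⟩ := hO
    obtain ⟨g, hg⟩ := hyW
    obtain ⟨m, hm, -, -, -, c, hc28, hme⟩ := M.exists_to_s28 hy hg
    obtain ⟨k', hk', hke⟩ := hsmall m⁻¹ (inv_mem hm) c (s28_facts hc28).1
    rw [← hme, cj_inv_cancel] at hke
    have := M.chi_inj hy (by omega) hke
    omega
  have key : ∀ x, (x ∈ Data.s35 ∨ x ∈ Data.s120) →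
      ∃ m ∈ Subgroup.normalizer (M.stdA : Set G), cj m (M.chi x) = M.chi q := by
    rintro x (hx | hx)
    · obtain ⟨u, hu, hue⟩ := M.orbit_of_cert hc.1.1.2 l35 hx hp
      exact ⟨m0 * u, mul_mem hm0 hu.1, by rw [cj_mul, hue, hpq]⟩
    · obtain ⟨u, hu, hue⟩ := M.orbit_of_cert hc.1.2 l120 hx hq
      exact ⟨u, hu.1, hue⟩
  obtain ⟨m, hm, hme⟩ := key a ha
  obtain ⟨m', hm', hme'⟩ := key b hb
  refine ⟨m'⁻¹ * m, mul_mem (inv_mem hm') hm, ?_⟩
  rw [cj_mul, hme, ← hme', cj_inv_cancel]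

theorem orbit_eq (hO : M.Outer) {a : ℕ} {s t : List ℕ}
    (hst : (s = Data.s28 ∧ t = Data.s840) ∨ (s = Data.s35 ∧ t = Data.s120)) (ha : a ∈ s) :
    orb (Subgroup.normalizer (M.stdA : Set G)) (M.chi a) = M.chi '' {b | b ∈ s ∨ b ∈ t} := by
  have hlt : ∀ b, (b ∈ s ∨ b ∈ t) → b < 1024 := by
    rcases hst with ⟨rfl, rfl⟩ | ⟨rfl, rfl⟩ <;> rintro b (h | h)
    · exact (coord_lt (Or.inl h)).1
    · exact (coord_lt (Or.inr (Or.inr (Or.inr h)))).1
    · exact (coord_lt (Or.inr (Or.inl h))).1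
    · exact (coord_lt (Or.inr (Or.inr (Or.inl h)))).1
  ext v
  constructor
  · rintro ⟨m, hm, rfl⟩
    obtain ⟨b, hb, hbe⟩ := M.mem_stdA.mp
      ((Subgroup.mem_normalizer_iff.mp hm _).mp (M.chi_mem (hlt a (Or.inl ha))))
    have hp := M.normalizer_preserves hO hm (hlt a (Or.inl ha)) hb (hbe.symm)
    refine ⟨b, ?_, hbe⟩
    rcases hst with ⟨rfl, rfl⟩ | ⟨rfl, rfl⟩
    · exact hp.1.mp (Or.inl ha)
    · exact hp.2.mp (Or.inl ha)
  · rintro ⟨b, hb, rfl⟩
    rcases hst with ⟨rfl, rfl⟩ | ⟨rfl, rfl⟩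
    · obtain ⟨m, hm, he⟩ := M.trans_W hO (Or.inl ha) hb
      exact ⟨m, hm, he⟩
    · obtain ⟨m, hm, he⟩ := M.trans_nonW hO (Or.inl ha) hb
      exact ⟨m, hm, he⟩

theorem ncard_image_lists {s t : List ℕ} (hs : ∀ b, (b ∈ s ∨ b ∈ t) → b < 1024) (h1 : s.Nodup)
    (h2 : t.Nodup) (hd : ∀ b ∈ s, b ∉ t) :
    (M.chi '' {b | b ∈ s ∨ b ∈ t}).ncard = s.length + t.length := by
  have e : {b | b ∈ s ∨ b ∈ t} = ((s ++ t).toFinset : Set ℕ) := by
    ext b; simp
  have hinj : Set.InjOn M.chi {b | b ∈ s ∨ b ∈ t} := fun p hp q hq h =>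
    M.chi_inj (hs p hp) (hs q hq) h
  rw [hinj.ncard_image, e, Set.ncard_coe_finset, List.toFinset_card_of_nodup
    (List.nodup_append.mpr ⟨h1, h2, fun p hp q hq e => hd p hp (e ▸ hq)⟩), List.length_append]

/-- The two orbits. -/
theorem orbits_two (hO : M.Outer) : ∃ a b, a ∈ Data.s35 ∧ b ∈ Data.s28 ∧
    (orb (Subgroup.normalizer (M.stdA : Set G)) (M.chi a)).ncard = 155 ∧
    (orb (Subgroup.normalizer (M.stdA : Set G)) (M.chi b)).ncard = 868 := by
  obtain ⟨n28, n35, n120, n840, e28, e35, e120, e840⟩ := s_card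
  obtain ⟨a, ha⟩ : ∃ a, a ∈ Data.s35 := ⟨_, List.getElem_mem (show 0 < Data.s35.length by omega)⟩
  obtain ⟨b, hb⟩ : ∃ b, b ∈ Data.s28 := ⟨_, List.getElem_mem (show 0 < Data.s28.length by omega)⟩
  refine ⟨a, b, ha, hb, ?_, ?_⟩
  · rw [M.orbit_eq hO (Or.inr ⟨rfl, rfl⟩) ha, M.ncard_image_lists
      (fun x hx => (coord_lt (hx.elim (fun h => Or.inr (Or.inl h)) fun h => Or.inr (Or.inr (Or.inl h)))).1) n35 n120 (fun x hx => (s_disjoint.2.1 hx).1), e35, e120]
  · rw [M.orbit_eq hO (Or.inl ⟨rfl, rfl⟩) hb, M.ncard_image_lists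
      (fun x hx => (coord_lt (hx.elim Or.inl fun h => Or.inr (Or.inr (Or.inr h)))).1) n28 n840 (fun x hx => (s_disjoint.1 hx).2.2), e28, e840]

theorem card_normalizer (hO : M.Outer) :
    Nat.card ↥(Subgroup.normalizer (M.stdA : Set G)) = 1024 * 9999360 := by
  obtain ⟨n28, n35, n120, n840, e28, e35, e120, e840⟩ := s_card
  obtain ⟨b, hb⟩ : ∃ b, b ∈ Data.s28 := ⟨_, List.getElem_mem (show 0 < Data.s28.length by omega)⟩
  have hD := (M.chi_duad_iff (coord_lt (Or.inl hb)).1).mpr hb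
  set C := Subgroup.centralizer ({M.chi b} : Set G)
  have hCeq : M.uSub ⊓ C = Subgroup.normalizer (M.stdA : Set G) ⊓ C :=
    le_antisymm (inf_le_inf_right _ inf_le_left) fun x hx => ⟨⟨hx.1, M.cz_le _ hD hx.2⟩, hx.2⟩
  have hU : orb M.uSub (M.chi b) = M.chi '' {x | x ∈ Data.s28} := by
    ext v
    constructor
    · rintro ⟨u, hu, rfl⟩
      obtain ⟨d, hd, hde⟩ := M.mem_stdA.mp
        ((Subgroup.mem_normalizer_iff.mp hu.1 _).mp (M.chi_mem (coord_lt (Or.inl hb)).1))
      refine ⟨d, (M.chi_duad_iff hd).mp ?_, hde⟩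
      rw [hde, ← cj_apply]
      exact (M.cj_duad_iff hu.2).mpr hD
    · rintro ⟨d, hd, rfl⟩
      have hc := orbits_ok
      simp only [Bool.and_eq_true] at hc
      obtain ⟨u, hu, he⟩ := M.orbit_of_cert hc.1.1.1 (fun x hx => (coord_lt (Or.inl hx)).1) hb hd
      exact ⟨u, hu, he⟩
  have h1 := ncard_orb_mul M.uSub (M.chi b)
  have h2 := ncard_orb_mul (Subgroup.normalizer (M.stdA : Set G)) (M.chi b)
  rw [hU, show M.uSub ⊓ Subgroup.centralizer ({M.chi b} : Set G) = _ from hCeq, M.card_uSub] at h1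
  have h868 : (orb (Subgroup.normalizer (M.stdA : Set G)) (M.chi b)).ncard = 868 := by
    rw [M.orbit_eq hO (Or.inl ⟨rfl, rfl⟩) hb, M.ncard_image_lists
      (fun x hx => (coord_lt (hx.elim Or.inl fun h => Or.inr (Or.inr (Or.inr h)))).1) n28 n840 (fun x hx => (s_disjoint.1 hx).2.2), e28, e840]
  have h28 : (M.chi '' {x | x ∈ Data.s28}).ncard = 28 := by
    have hinj : Set.InjOn M.chi {x | x ∈ Data.s28} := fun p hp q hq h =>
      M.chi_inj (coord_lt (Or.inl hp)).1 (coord_lt (Or.inl hq)).1 h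
    rw [hinj.ncard_image, show {x | x ∈ Data.s28} = (Data.s28.toFinset : Set ℕ) by ext x; simp,
      Set.ncard_coe_finset, List.toFinset_card_of_nodup n28, e28]
  rw [h28] at h1
  rw [h868] at h2
  change _ * Nat.card ↥(_ ⊓ Subgroup.centralizer _) = _ at h1
  rw [← h2]
  omega

/-- No proper non-trivial subgroup is invariant. -/
theorem irreducible (hO : M.Outer) {W : Subgroup G} (hW : W ≤ M.stdA)
    (hinv : Subgroup.normalizer (M.stdA : Set G) ≤ Subgroup.normalizer (W : Set G)) :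
    W = ⊥ ∨ W = M.stdA := by
  obtain ⟨a, b, ha, hb, h155, h868⟩ := M.orbits_two hO
  set N := Subgroup.normalizer (M.stdA : Set G)
  have horb : ∀ x ∈ W, orb N x ⊆ (W : Set G) := by
    rintro x hx _ ⟨m, hm, rfl⟩
    exact (Subgroup.mem_normalizer_iff.mp (hinv hm) x).mp hx
  have hcov : ∀ x ∈ M.stdA, x ≠ 1 → x ∈ orb N (M.chi a) ∨ x ∈ orb N (M.chi b) := by
    intro x hx hx1
    obtain ⟨c, hc, rfl⟩ := M.mem_stdA.mp hx
    rcases coord_cases hc (fun e => hx1 (by rw [e, M.chi_zero])) with h | h | h | h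
    · exact Or.inr ((M.orbit_eq hO (Or.inl ⟨rfl, rfl⟩) hb).symm ▸ ⟨c, Or.inl h, rfl⟩)
    · exact Or.inl ((M.orbit_eq hO (Or.inr ⟨rfl, rfl⟩) ha).symm ▸ ⟨c, Or.inl h, rfl⟩)
    · exact Or.inl ((M.orbit_eq hO (Or.inr ⟨rfl, rfl⟩) ha).symm ▸ ⟨c, Or.inr h, rfl⟩)
    · exact Or.inr ((M.orbit_eq hO (Or.inl ⟨rfl, rfl⟩) hb).symm ▸ ⟨c, Or.inr h, rfl⟩)
  have hA : (M.stdA : Set G).ncard = 1024 := by
    rw [← Nat.card_coe_set_eq, SetLike.coe_sort_coe, M.card_stdA]
    norm_num
  obtain ⟨k, hk, hWc⟩ : ∃ k ≤ 10, (W : Set G).ncard = 2 ^ k := by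
    have hd := Subgroup.card_dvd_of_le hW
    rw [M.card_stdA] at hd
    obtain ⟨k, hk, he⟩ := (Nat.dvd_prime_pow Nat.prime_two).mp hd
    exact ⟨k, hk, by rw [← Nat.card_coe_set_eq, SetLike.coe_sort_coe, he]⟩
  by_cases hA' : ∀ x ∈ M.stdA, x ≠ 1 → x ∈ W
  · refine Or.inr (le_antisymm hW fun x hx => ?_)
    by_cases h : x = 1
    · exact h ▸ one_mem W
    · exact hA' x hx h
  left
  push Not at hA'
  obtain ⟨y, hy, hy1, hyW⟩ := hA'
  by_contra hbot
  obtain ⟨x, hxW, hx1⟩ : ∃ x ∈ W, x ≠ 1 := by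
    by_contra h
    push Not at h
    exact hbot ((Subgroup.eq_bot_iff_forall W).mpr h)
  -- `W` is one orbit and the identity
  have key : ∀ u v : G, u ∈ M.stdA → (∀ q ∈ M.stdA, q ≠ 1 → q ∈ orb N u ∨ q ∈ orb N v) →
      1 ∉ orb N u → x ∈ orb N u → False := by
    intro u v hu hcov' h1u hxu
    have huW : orb N u ⊆ (W : Set G) := by
      rw [← orb_eq hxu]
      exact horb x hxW
    have hyv : y ∈ orb N v := (hcov' y hy hy1).resolve_left fun h => hyW (huW h)
    have hv : ∀ q ∈ orb N v, q ∉ W := fun q hq hqW => hyW (horb q hqW (by rw [orb_eq hq]; exact hyv))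
    have hWeq : (W : Set G) = insert 1 (orb N u) := by
      refine Set.Subset.antisymm (fun q hq => ?_) (Set.insert_subset (one_mem W) huW)
      by_cases hq1 : q = 1
      · exact Or.inl hq1
      · exact Or.inr ((hcov' q (hW hq) hq1).resolve_right fun h => hv q h hq)
    have hn : (W : Set G).ncard = 156 ∨ (W : Set G).ncard = 869 := by
      rw [hWeq, Set.ncard_insert_of_notMem h1u]
      rcases hcov u hu (fun e => h1u (e ▸ self_mem_orb N u)) with h | h
      · left; rw [orb_eq h, h155]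
      · right; rw [orb_eq h, h868]
    rw [hWc] at hn
    interval_cases k <;> norm_num at hn
  have hone : ∀ c : ℕ, c < 1024 → c ≠ 0 → (1 : G) ∉ orb N (M.chi c) := by
    rintro c hc h0 ⟨m, -, he⟩
    exact h0 (M.chi_eq_one hc (conj_eq_one_iff.mp he))
  have la := coord_lt (Or.inr (Or.inl ha))
  have lb := coord_lt (Or.inl hb)
  rcases hcov x (hW hxW) hx1 with h | h
  · exact key _ _ (M.chi_mem la.1) hcov (hone a la.1 la.2) h
  · exact key _ _ (M.chi_mem lb.1) (fun q hq h1 => (hcov q hq h1).symm) (hone b lb.1 lb.2) h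

end Model

end Cfsg.Agent.Lib.J4Ten
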