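import Cfsg.Agent.Lib.J4Ten.Unique
import Cfsg.Agent.Lib.J4Ten.Global
import Cfsg.Agent.Lib.J4Ten.ChecksConj
import Cfsg.Agent.Lib.J4Ten.ChecksCover

/-!
# An element outside `V` conjugate into the 276 inside the standard `2^10`

Each point is fixed by a quarter of the 2-subgroup `R` around `z`, so at most 2304 of its elements
move every point; so one of the many elements of `R` conjugate into the 276 acts as an involution
with fixed points, and those are conjugate into the octad fixers.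
-/

set_option autoImplicit false
set_option linter.unusedSectionVars false
set_option maxRecDepth 10000

namespace Cfsg.Agent.Lib.J4Ten

open Cfsg Cfsg.Agent.Lib.Computation Cfsg.Agent.Lib.Golay Cfsg.Agent.Lib.J4Big.Cocode
open scoped Pointwise

theorem fixN_eq {c : ℕ} (hc : okCode c = true) :
    (Finset.univ.filter fun a : GolayPt => gperm c a = a).card = fixN c := by
  classical
  rw [fixN, ← List.toFinset_card_of_nodup (List.nodup_range.filter _)]
  refine Finset.card_bij' (fun a _ => idx a) (fun i _ => pt i) ?_ ?_ (fun a _ => pt_idx a) ?_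
  · intro a ha
    rw [Finset.mem_filter] at ha
    simp only [List.mem_toFinset, List.mem_filter, List.mem_range, Nat.beq_eq]
    exact ⟨idx_lt a, by rw [← idx_gperm hc, ha.2]⟩
  · intro i hi
    simp only [List.mem_toFinset, List.mem_filter, List.mem_range, Nat.beq_eq] at hi
    refine Finset.mem_filter.mpr ⟨Finset.mem_univ _, idx_injective ?_⟩
    rw [idx_gperm hc, idx_pt hi.1, hi.2]
  · intro i hi
    simp only [List.mem_toFinset, List.mem_filter, List.mem_range] at hi
    exact idx_pt hi.1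

/-- An involution fixes at most eight points, and with a fixed point it is conjugate to one of the
octad fixers. -/
theorem involution_facts {σ : ↥Cfsg.M24} (h2 : σ * σ = 1) (h1 : σ ≠ 1) :
    (Finset.univ.filter fun a : GolayPt => (σ : Equiv.Perm GolayPt) a = a).card ≤ 8 ∧
    ∀ a, (σ : Equiv.Perm GolayPt) a = a →
      ∃ τ : ↥Cfsg.M24, ∃ j, 0 < j ∧ j < 16 ∧ τ * σ * τ⁻¹ = rM j := by
  classical
  have := Fact.mk Nat.prime_two
  obtain ⟨P, hPM, hPc, hPi⟩ := exists_sylow
  have hc : Nat.card ↥(P.subgroupOf Cfsg.M24) = 2 ^ (Nat.card ↥Cfsg.M24).factorization 2 := by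
    rw [Nat.card_congr (Subgroup.subgroupOfEquivOfLe hPM).toEquiv, hPc, card_M24,
      show (244823040 : ℕ) = 2 ^ 10 * 239085 by norm_num,
      Nat.factorization_mul (by norm_num) (by norm_num), Finsupp.add_apply,
      Nat.Prime.factorization_pow Nat.prime_two,
      Nat.factorization_eq_zero_of_not_dvd (by norm_num : ¬ 2 ∣ 239085)]
    simp
  let Ps : Sylow 2 ↥Cfsg.M24 := Sylow.ofCard (P.subgroupOf Cfsg.M24) hc
  have hp : IsPGroup 2 ↥(Subgroup.zpowers σ) := IsPGroup.of_card (n := 1) (by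
    rw [Nat.card_zpowers, orderOf_eq_prime (by rw [pow_two]; exact h2) h1, pow_one])
  obtain ⟨S, hS⟩ := hp.exists_le_sylow
  obtain ⟨τ, hτ⟩ := MulAction.exists_smul_eq ↥Cfsg.M24 S Ps
  have hmem : τ * σ * τ⁻¹ ∈ (Ps : Subgroup ↥Cfsg.M24) := by
    rw [← hτ]
    exact ⟨σ, hS (Subgroup.mem_zpowers σ), rfl⟩
  have hsq : τ * σ * τ⁻¹ * (τ * σ * τ⁻¹) = 1 := by
    rw [show τ * σ * τ⁻¹ * (τ * σ * τ⁻¹) = τ * (σ * σ) * τ⁻¹ by group, h2]; group
  obtain ⟨c, hc', hce⟩ := hPi ((τ * σ * τ⁻¹ : ↥Cfsg.M24) : Equiv.Perm GolayPt) hmem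
    (by rw [← Subgroup.coe_mul, hsq]; rfl)
    (fun e => h1 (conj_eq_one_iff.mp (Subtype.ext e : τ * σ * τ⁻¹ = 1)))
  obtain ⟨i, hi, hie⟩ := List.getElem_of_mem hc'
  have hij : (c, Data.conjT[i]'(conj_len ▸ hi)) ∈ Data.invC.zip Data.conjT := by
    have hz : i < (Data.invC.zip Data.conjT).length := by
      simp only [List.length_zip, conj_len]; omega
    have := List.getElem_mem hz
    rwa [List.getElem_zip, hie] at this
  have hok := conj_ok
  simp only [List.all_eq_true, Bool.and_eq_true, Bool.or_eq_true, Nat.ble_eq, Nat.blt,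
    Nat.beq_eq] at hok
  obtain ⟨h8, hcase⟩ := hok _ hij
  simp only at h8 hcase
  have hinv := inv_ok
  simp only [List.all_eq_true, Bool.and_eq_true] at hinv
  have hcok := (hinv c hc').1
  -- the two fixed sets
  have hmap : (Finset.univ.filter fun a : GolayPt => (σ : Equiv.Perm GolayPt) a = a).card =
      fixN c := by
    rw [← fixN_eq hcok, hce]
    refine Finset.card_bij' (fun a _ => (τ : Equiv.Perm GolayPt) a)
      (fun a _ => (τ : Equiv.Perm GolayPt).symm a) ?_ ?_ (fun a _ => Equiv.symm_apply_apply _ a)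
      (fun a _ => Equiv.apply_symm_apply _ a)
    · intro a ha
      refine Finset.mem_filter.mpr ⟨Finset.mem_univ _, ?_⟩
      have ha' := (Finset.mem_filter.mp ha).2
      simp only [Subgroup.coe_mul, Subgroup.coe_inv, Equiv.Perm.mul_apply, Equiv.Perm.coe_inv,
        Equiv.symm_apply_apply]
      rw [ha']
    · intro a ha
      refine Finset.mem_filter.mpr ⟨Finset.mem_univ _, ?_⟩
      have ha' := (Finset.mem_filter.mp ha).2
      simp only [Subgroup.coe_mul, Subgroup.coe_inv, Equiv.Perm.mul_apply, Equiv.Perm.coe_inv] at ha'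
      exact (Equiv.eq_symm_apply _).mpr ha'
  refine ⟨hmap ▸ h8, fun a ha => ?_⟩
  have h0 : fixN c ≠ 0 := by
    rw [← hmap]
    exact Finset.card_ne_zero.mpr ⟨a, Finset.mem_filter.mpr ⟨Finset.mem_univ _, ha⟩⟩
  obtain ⟨⟨⟨hg, hj0⟩, hj⟩, hcm⟩ := hcase.resolve_left h0
  set g := (Data.conjT[i]'(conj_len ▸ hi)).1
  set j := (Data.conjT[i]'(conj_len ▸ hi)).2
  have hgok := okCode_of_inM24 hg
  refine ⟨⟨gperm g, gperm_mem_M24 hg⟩ * τ, j, hj0, hj, ?_⟩
  have he : gperm g * gperm c = gperm (rC j) * gperm g := by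
    rw [← gperm_cm hgok hcok, hcm, gperm_cm (rC_spec hj).1 hgok]
  have : (⟨gperm g, gperm_mem_M24 hg⟩ : ↥Cfsg.M24) * (τ * σ * τ⁻¹) =
      rM j * ⟨gperm g, gperm_mem_M24 hg⟩ := by
    refine Subtype.ext ?_
    show gperm g * ((τ * σ * τ⁻¹ : ↥Cfsg.M24) : Equiv.Perm GolayPt) = (rM j : Equiv.Perm GolayPt) * gperm g
    rw [← hce, rM_val hj, he]
  calc ⟨gperm g, gperm_mem_M24 hg⟩ * τ * σ * (⟨gperm g, gperm_mem_M24 hg⟩ * τ)⁻¹
      = ⟨gperm g, gperm_mem_M24 hg⟩ * (τ * σ * τ⁻¹) * (⟨gperm g, gperm_mem_M24 hg⟩)⁻¹ := by group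
    _ = rM j := by rw [this, mul_inv_cancel_right]

variable {G : Type*} [Group G] [Finite G]

namespace Model

variable {z : G} (M : Model z)

/-- An element conjugate into the 276 over an involution with a fixed point gives `Outer`. -/
theorem outer_of_element {x g : G} (hxN : x ∈ Subgroup.normalizer (M.V : Set G)) (hx2 : x * x = 1)
    (hg : cj g x ∈ duadSet z M.V) {σ : ↥Cfsg.M24} (hr : Rel M.ψ x (σ : Equiv.Perm GolayPt))
    (h1 : σ ≠ 1) {a : GolayPt} (ha : (σ : Equiv.Perm GolayPt) a = a) : M.Outer := by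
  have h2 : σ * σ = 1 := Subtype.ext (M.frame.rel_unique (hx2 ▸ IsFrame.rel_mul hr hr) IsFrame.rel_one)
  obtain ⟨τ, j, hj0, hj, hτ⟩ := (involution_facts h2 h1).2 a ha
  set y := cj (M.lift τ) x with hy
  have hyN : y ∈ Subgroup.normalizer (M.V : Set G) :=
    mul_mem (mul_mem (M.lift_mem τ) hxN) (inv_mem (M.lift_mem τ))
  have hyr : Rel M.ψ y (gperm (rC j)) := by
    have := IsFrame.rel_mul (IsFrame.rel_mul (M.lift_rel τ) hr) (M.lift_rel τ⁻¹)
    rw [← Subgroup.coe_mul, ← Subgroup.coe_mul, hτ, rM_val hj, map_inv] at this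
    exact this
  have hy2 : y * y = 1 := by rw [hy, ← map_mul, hx2, map_one]
  have hr2 : M.rhat j * M.rhat j = 1 := by
    rw [rhat, ← map_mul, ← rM_xor hj hj, Nat.xor_self, rM_zero, map_one]
  have hri : (M.rhat j)⁻¹ = M.rhat j := inv_eq_of_mul_eq_one_right hr2
  obtain ⟨v, hv, hve⟩ := M.frame.surj ((M.rhat j)⁻¹ * y) (by
    refine M.mem_V_of_rel (mul_mem (inv_mem (M.lift_mem _)) hyN) ?_
    have h3 := IsFrame.rel_mul (M.rel_rhat hj) hyr
    rw [← gperm_cm (rC_spec hj).1 (rC_spec hj).1] at h3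
    rw [hri]
    have h4 : gperm (cm (rC j) (rC j)) = 1 := by
      rw [gperm_cm (rC_spec hj).1 (rC_spec hj).1, ← rM_val hj, ← Subgroup.coe_mul, ← rM_xor hj hj,
        Nat.xor_self, rM_zero]
      rfl
    rw [h4] at h3
    exact h3)
  have hye : y = M.rhat j * M.ψ v := by rw [hve, mul_inv_cancel_left]
  have hfix : actC (rC j) v = v := by
    refine (M.commute_psi_iff (rC_spec hj).1 (M.rel_rhat hj) hv).mp ?_
    show _ = _
    calc M.rhat j * M.ψ v = (M.rhat j * M.ψ v)⁻¹ :=
          (inv_eq_of_mul_eq_one_right (by rw [← hye]; exact hy2)).symm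
      _ = _ := by rw [mul_inv_rev, M.psi_inv, hri]
  obtain ⟨w, hw, k, hk, hvk⟩ := Model.eq_std_of_image.fixed_split.{0} (i := j) hj (by omega) hv hfix
  have hact : M.rhat j * M.ψ w * M.rhat j = M.ψ (actC (rC j) w) := by
    rw [← M.conj_psi (rC_spec hj).1 (M.rel_rhat hj) hw, hri]
  have e : cj (M.ψ w) y = M.chi (k + 64 * j) := by
    rw [hye, cj_apply, M.psi_inv]
    calc M.ψ w * (M.rhat j * M.ψ v) * M.ψ w
        = M.rhat j * ((M.rhat j * M.ψ w * M.rhat j) * (M.ψ v * M.ψ w)) := by
          rw [← mul_assoc (M.rhat j) (M.rhat j * M.ψ w * M.rhat j), ← mul_assoc (M.rhat j),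
            ← mul_assoc (M.rhat j), hr2, one_mul]
          simp only [mul_assoc]
      _ = M.rhat j * M.ψ (cV k) := by
          rw [hact, M.psi_mul hv hw, M.psi_mul (actC_lt _ _) (Nat.xor_lt_two_pow (n := 11) hv hw)]
          congr 2
          rw [hvk]
          apply Nat.eq_of_testBit_eq
          intro b
          simp only [Nat.testBit_xor]
          cases (actC (rC j) w).testBit b <;> cases w.testBit b <;> cases (cV k).testBit b <;> rfl
      _ = _ := by
          rw [chi, (split64 hk).1, (split64 hk).2]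
          exact M.rhat_comm_cV hj k
  refine ⟨k + 64 * j, by omega, by omega, g * (M.ψ w * M.lift τ)⁻¹, ?_⟩
  rw [← e, hy, ← cj_mul, ← cj_mul]
  simpa [mul_assoc] using hg

/-- Enough elements conjugate into the 276 in a 2-subgroup around `z` give `Outer`. -/
theorem outer_of {R : Subgroup G} (hzV : z ∈ M.V) (hz1 : z ≠ 1)
    (hle : R ≤ Subgroup.normalizer (M.V : Set G)) (hsq : ∀ q ∈ R, q * q ∈ M.V)
    (hcard : Nat.card ↥R = 8192) (hVR : Nat.card ↥(R ⊓ M.V) = 128)
    (hcov : ∀ d ∈ duadSet z M.V, d * z ∈ duadSet z M.V → d ∈ R)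
    (hmove : ∀ q ∈ R, ∀ e ∈ R, q * e * q⁻¹ = e ∨ q * e * q⁻¹ = e * z)
    (hmany : 2736 ≤ {x | x ∈ R ∧ x ∉ M.V ∧ x * x = 1 ∧ ∃ g, cj g x ∈ duadSet z M.V}.ncard) :
    M.Outer := by
  classical
  have := Fintype.ofFinite G
  choose σ hσV hσR using fun q : ↥R => M.decomp_rel (hle q.2)
  obtain ⟨v0, hv0, hv0e⟩ := M.frame.surj z hzV
  have hgood : dGood.testBit v0 = false := by
    rw [Bool.eq_false_iff]
    intro h
    exact ((M.frame.mem_D v0 hv0).mpr h).2.2 (by rw [hv0e])
  have hne0 : v0 ≠ 0 := fun h => hz1 (by rw [← hv0e, h, M.frame.psi_zero])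
  let f : ↥R → GolayPt → GolayPt := fun q => (σ q : Equiv.Perm GolayPt)
  -- a point is fixed by a quarter
  have hstab : ∀ a : GolayPt, 2048 ≤ (Finset.univ.filter fun q : ↥R => f q a = a).card := by
    intro a
    have hc := cover_ok hv0
    simp only [coverAt, Bool.or_eq_true, Bool.and_eq_true, Nat.beq_eq, List.all_eq_true,
      List.any_eq_true, List.mem_range, Bool.not_eq_true', ← Bool.not_eq_true] at hc
    obtain ⟨j, hj, hja, hjg⟩ := (hc.resolve_left (by
      rintro (h | h)
      · exact hne0 h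
      · rw [hgood] at h; exact Bool.false_ne_true h)).2 (idx a) (idx_lt a)
    obtain ⟨b, rfl⟩ : ∃ b, idx b = j := ⟨pt j, idx_pt hj⟩
    have hab : a ≠ b := fun h => hja (by rw [h])
    set d := Pt M.ψ a * Pt M.ψ b with hd
    have hdD : d ∈ duadSet z M.V := M.frame.pair_mem hab
    have hdz : d * z ∈ duadSet z M.V := by
      have e : d * z = M.ψ (piV a ^^^ piV b ^^^ v0) := by
        rw [← M.psi_mul (Nat.xor_lt_two_pow (n := 11) (piV_lt _) (piV_lt _)) hv0,
          ← M.psi_mul (piV_lt _) (piV_lt _), hv0e]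
        rfl
      rw [e]
      refine (M.frame.mem_D _ (Nat.xor_lt_two_pow (n := 11)
        (Nat.xor_lt_two_pow (n := 11) (piV_lt _) (piV_lt _)) hv0)).mpr ?_
      rw [← duo_idx]
      exact hjg
    obtain ⟨c, e, hce, hcee⟩ := M.frame.exists_pair hdz
    have hdR := hcov d hdD hdz
    have himg : ∀ q : ↥R, f q a ∈ ({a, b, c, e} : Finset GolayPt) := by
      intro q
      have hr := hσR q a b
      rw [← hd] at hr
      simp only [Finset.mem_insert, Finset.mem_singleton]
      have hne : f q a ≠ f q b := (σ q : Equiv.Perm GolayPt).injective.ne hab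
      rcases hmove q q.2 d hdR with h | h
      · rcases M.frame.pair_unique hne hab (hr.symm.trans h) with ⟨h1, -⟩ | ⟨h1, -⟩
        · exact Or.inl h1
        · exact Or.inr (Or.inl h1)
      · rcases M.frame.pair_unique hne hce ((hr.symm.trans h).trans hcee.symm) with ⟨h1, -⟩ | ⟨h1, -⟩
        · exact Or.inr (Or.inr (Or.inl h1))
        · exact Or.inr (Or.inr (Or.inr h1))
    set t := Finset.univ.filter fun q : ↥R => f q a = a
    have hf : ∀ p ∈ ({a, b, c, e} : Finset GolayPt),
        (Finset.univ.filter fun q : ↥R => f q a = p).card ≤ t.card := by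
      intro p _
      rcases (Finset.univ.filter fun q : ↥R => f q a = p).eq_empty_or_nonempty with h | ⟨q0, hq0⟩
      · rw [h, Finset.card_empty]; exact Nat.zero_le _
      rw [Finset.mem_filter] at hq0
      refine Finset.card_le_card_of_injOn (fun q => q0⁻¹ * q) ?_ fun _ _ _ _ h => mul_left_cancel h
      intro q hq
      rw [Finset.mem_coe, Finset.mem_filter] at hq
      rw [Finset.mem_coe, Finset.mem_filter]
      refine ⟨Finset.mem_univ _, ?_⟩
      have hmul : (σ q : Equiv.Perm GolayPt) = (σ q0 : Equiv.Perm GolayPt) * σ (q0⁻¹ * q) := by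
        refine M.frame.rel_unique (hσR q) ?_
        have := IsFrame.rel_mul (hσR q0) (hσR (q0⁻¹ * q))
        rwa [← Subgroup.coe_mul, mul_inv_cancel_left] at this
      refine (σ q0 : Equiv.Perm GolayPt).injective ?_
      show (σ q0 : Equiv.Perm GolayPt) (f (q0⁻¹ * q) a) = f q0 a
      rw [hq0.2, ← hq.2]
      exact (Equiv.ext_iff.mp hmul a).symm
    have := Finset.card_le_mul_card_image_of_maps_to (s := (Finset.univ : Finset ↥R))
      (f := fun q => f q a) (t := ({a, b, c, e} : Finset GolayPt)) (fun q _ => himg q) t.card hf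
    rw [Finset.card_univ, ← Nat.card_eq_fintype_card, hcard] at this
    have h4 : ({a, b, c, e} : Finset GolayPt).card ≤ 4 := Finset.card_le_four
    nlinarith
  -- count the fixed points
  set inV := Finset.univ.filter fun q : ↥R => (q : G) ∈ M.V with hinV
  set withFix := Finset.univ.filter fun q : ↥R => (q : G) ∉ M.V ∧ ∃ a, f q a = a with hwith
  have hsig : ∀ q : ↥R, (σ q * σ q = 1) ∧ ((q : G) ∈ M.V ↔ σ q = 1) := by
    intro q
    refine ⟨Subtype.ext (M.frame.rel_unique (IsFrame.rel_mul (hσR q) (hσR q))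
      (M.rel_of_mem (hsq q q.2))), fun h => Subtype.ext (M.frame.rel_unique (hσR q) (M.rel_of_mem h)),
      fun h => M.mem_V_of_rel (hle q.2) (by have := hσR q; rwa [h] at this)⟩
  have hinVc : inV.card = 128 := by
    rw [← hVR, Nat.card_eq_fintype_card, ← Finset.card_univ]
    exact Finset.card_bij' (fun q hq => ⟨q, q.2, (Finset.mem_filter.mp hq).2⟩)
      (fun q _ => ⟨q, q.2.1⟩) (fun _ _ => Finset.mem_univ _)
      (fun q _ => Finset.mem_filter.mpr ⟨Finset.mem_univ _, q.2.2⟩) (fun _ _ => rfl) (fun _ _ => rfl)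
  have hsum : 24 * 2048 ≤ ∑ q : ↥R, (Finset.univ.filter fun a => f q a = a).card := by
    have hflip : ∑ q : ↥R, (Finset.univ.filter fun a => f q a = a).card =
        ∑ a : GolayPt, (Finset.univ.filter fun q : ↥R => f q a = a).card := by
      simp only [Finset.card_filter]
      exact Finset.sum_comm
    rw [hflip]
    refine le_trans (le_of_eq ?_) (Finset.card_nsmul_le_sum _ _ _ fun a _ => hstab a)
    rw [Finset.card_univ, card_golayPt, smul_eq_mul]
  have hbound : ∑ q : ↥R, (Finset.univ.filter fun a => f q a = a).card ≤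
      24 * inV.card + 8 * withFix.card := by
    rw [hinV, hwith, Finset.card_filter, Finset.card_filter, Finset.mul_sum, Finset.mul_sum,
      ← Finset.sum_add_distrib]
    refine Finset.sum_le_sum fun q _ => ?_
    by_cases hq : (q : G) ∈ M.V
    · rw [if_pos hq, if_neg (fun h => h.1 hq), mul_one, mul_zero, add_zero]
      exact (Finset.card_le_univ _).trans_eq card_golayPt
    · rw [if_neg hq, mul_zero, zero_add]
      by_cases he : ∃ a, f q a = a
      · rw [if_pos ⟨hq, he⟩, mul_one]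
        exact (involution_facts (hsig q).1 fun h => hq ((hsig q).2.mpr h)).1
      · rw [if_neg (fun h => he h.2), mul_zero, Nat.le_zero, Finset.card_eq_zero,
          Finset.filter_eq_empty_iff]
        exact fun a _ h => he ⟨a, h⟩
  set X := {x | x ∈ R ∧ x ∉ M.V ∧ x * x = 1 ∧ ∃ g, cj g x ∈ duadSet z M.V}
  by_contra hcon
  set Y := Finset.univ.filter fun q : ↥R => (q : G) ∈ X with hY
  have hXY : X.ncard = Y.card := by
    rw [Set.ncard_eq_toFinset_card']
    exact Finset.card_bij' (fun x hx => ⟨x, (Set.mem_toFinset.mp hx).1⟩) (fun q _ => (q : G))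
      (fun x hx => Finset.mem_filter.mpr ⟨Finset.mem_univ _, Set.mem_toFinset.mp hx⟩)
      (fun q hq => Set.mem_toFinset.mpr (Finset.mem_filter.mp hq).2) (fun _ _ => rfl) (fun _ _ => rfl)
  have hd1 : Disjoint inV withFix := Finset.disjoint_filter.mpr fun q _ h h' => h'.1 h
  have hd2 : Disjoint (inV ∪ withFix) Y := by
    rw [Finset.disjoint_left]
    intro q hq hqY
    obtain ⟨-, -, hnV, hx2, g, hg⟩ := Finset.mem_filter.mp hqY
    rcases Finset.mem_union.mp hq with h | h
    · exact hnV (Finset.mem_filter.mp h).2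
    · obtain ⟨-, -, a, ha⟩ := Finset.mem_filter.mp h
      exact hcon (M.outer_of_element (hle q.2) hx2 hg (hσR q)
        (fun e => hnV ((hsig q).2.mpr e)) ha)
  have htot := Finset.card_le_univ (inV ∪ withFix ∪ Y)
  rw [Finset.card_union_of_disjoint hd2, Finset.card_union_of_disjoint hd1,
    ← Nat.card_eq_fintype_card, hcard] at htot
  omega

end Model

end Cfsg.Agent.Lib.J4Ten
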