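import Cfsg.Agent.Lib.J4Ten.Split
import Cfsg.Agent.Lib.J4Ten.Local
import Cfsg.Agent.Lib.J4Big.RowS5567
import Cfsg.Agent.Lib.J4Big.Invol
import Cfsg.Agent.Lib.J4Big.ClassQV

/-!
# The model from a group of the Janko-four type
-/

set_option autoImplicit false
set_option linter.unusedSectionVars false

namespace Cfsg.Agent.Lib.J4Ten

open Cfsg Cfsg.Agent.Lib.LargeExtraspecial.Basic Cfsg.Agent.Lib.J4Local Cfsg.Agent.Lib.J4Big
open Cfsg.Agent.Lib.J4Big.Cocode Cfsg.Agent.Lib.Golay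
open scoped Pointwise

variable {G : Type*} [Group G] [Finite G] {z p : G}
variable {T₀ Uh U0 : Subgroup AutM22}

/-- The model on the standard `2^11`. -/
theorem exists_model (S : Setting z p) (F : AutFacts) (B : NormConfig T₀ Uh U0)
    (Me : MeetConfig Uh U0) (Sp : SplitConfig Uh U0)
    (hE : ∃ e ∈ Q z, IsConj z e ∧ e ≠ z) :
    ∃ M : Model z, M.V = vv S B.toBigConfig := by
  classical
  obtain ⟨t, ht⟩ := dV_nonempty S F B hE
  obtain ⟨ψ, H, -⟩ := exists_frame_vv S F B hE ht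
  obtain ⟨K, hKN, hKi, hKs, -, -⟩ := exists_complement_vv S F B Me hE Sp
  set V := vv S B.toBigConfig with hV
  set φ := phiM24 S F B.toBigConfig H with hφ
  have hker : ∀ (n : ↥(Subgroup.normalizer (V : Set G))), φ n = 1 ↔ (n : G) ∈ V := fun n => by
    rw [← MonoidHom.mem_ker, hφ, phiM24_ker S F B H, Subgroup.mem_subgroupOf]
  have hdec : ∀ n ∈ Subgroup.normalizer (V : Set G), ∃ k ∈ K, ∃ v ∈ V, n = k * v := by
    intro n hn
    rw [← hKs, ← SetLike.mem_coe, Subgroup.coe_mul_of_left_le_normalizer_right K V hKN] at hn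
    obtain ⟨k, hk, v, hv, rfl⟩ := hn
    exact ⟨k, hk, v, hv, rfl⟩
  let f : ↥K →* ↥Cfsg.M24 := φ.comp (Subgroup.inclusion hKN)
  have hinj : Function.Injective f := (injective_iff_map_eq_one f).mpr fun k hk => by
    have : (k : G) ∈ K ⊓ V := ⟨k.2, (hker _).mp hk⟩
    rw [hKi, Subgroup.mem_bot] at this
    exact Subtype.ext this
  have hsurj : Function.Surjective f := fun σ => by
    obtain ⟨⟨n, hn⟩, rfl⟩ := phiM24_surjective S F B hE H σ
    obtain ⟨k, hk, v, hv, rfl⟩ := hdec n hn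
    refine ⟨⟨k, hk⟩, ?_⟩
    rw [show (⟨k * v, hn⟩ : ↥(Subgroup.normalizer (V : Set G))) =
      ⟨k, hKN hk⟩ * ⟨v, Subgroup.le_normalizer hv⟩ from rfl]
    show φ _ = φ _
    rw [map_mul, (hker ⟨v, Subgroup.le_normalizer hv⟩).mpr hv, mul_one]
    rfl
  let e : ↥K ≃* ↥Cfsg.M24 := MulEquiv.ofBijective f ⟨hinj, hsurj⟩
  have hrel : ∀ σ : ↥Cfsg.M24, Rel ψ (e.symm σ : G) (σ : Equiv.Perm GolayPt) := fun σ => by
    have h : f (e.symm σ) = σ := e.apply_symm_apply σ
    have := phiM24_rel S F B.toBigConfig H (Subgroup.inclusion hKN (e.symm σ))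
    rw [show phiM24 S F B.toBigConfig H (Subgroup.inclusion hKN (e.symm σ)) = σ from h] at this
    exact this
  refine ⟨{
    V := V
    ψ := ψ
    frame := H
    lift := K.subtype.comp e.symm.toMonoidHom
    lift_mem := fun σ => hKN (e.symm σ).2
    lift_rel := hrel
    decomp := fun n hn => ?_
    cz_le := fun d hd => ?_
    unique := fun T => unique_in_sylow S F B.toBigConfig T }, rfl⟩
  · refine ⟨φ ⟨n, hn⟩, ?_⟩
    set σ := φ ⟨n, hn⟩
    have h : f (e.symm σ) = σ := e.apply_symm_apply σ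
    have := (hker ((Subgroup.inclusion hKN (e.symm σ))⁻¹ * ⟨n, hn⟩)).mp (by
      rw [map_mul, map_inv, show φ (Subgroup.inclusion hKN (e.symm σ)) = σ from h, inv_mul_cancel])
    exact this
  · obtain ⟨χ, Hd, hd1⟩ := exists_frame_vv S F B hE hd
    exact cent_t_le S F B Me hE Hd hd1

/-- The model satisfies `Outer`. -/
theorem outer_model (S : Setting z p) (F : AutFacts) (B : NormConfig T₀ Uh U0)
    (Me : MeetConfig Uh U0) (hE : ∃ e ∈ Q z, IsConj z e ∧ e ≠ z) (M : Model z)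
    (hM : M.V = vv S B.toBigConfig) : M.Outer := by
  classical
  have hD : duadSet z M.V = dV S B.toBigConfig := by rw [hM]; rfl
  refine M.outer_of (R := Q z) (hM ▸ z_mem_vv S _) S.z_ne_one (hM ▸ Q_le_normalizer S F B.toBigConfig)
    (fun q hq => ?_) ?_ ?_ (fun d hd hdz => ?_) (fun q hq e he => S.es.conj q hq e he) ?_
  · rcases S.es.sq_cases hq with h | h <;> rw [h]
    · exact one_mem _
    · exact hM ▸ z_mem_vv S _
  · rw [S.card_E]
    norm_num
  · rw [hM, inf_comm, vv_inf_Q S F B.toBigConfig, ← SetLike.coe_sort_coe, Nat.card_coe_set_eq]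
    exact card_yBig_set S F B.toBigConfig
  · rw [hD] at hd hdz
    exact yBig_le S B.exp_Uh (mem_yBig_of_mul_z S F B hE hd hdz)
  · rw [hD, hM]
    set X := {x | x ∈ Q z ∧ x ∉ vv S B.toBigConfig ∧ x * x = 1 ∧ ∃ g, cj g x ∈ dV S B.toBigConfig}
    have hsub : {x : G | x ∈ Q z ∧ ∃ d ∈ dV S B.toBigConfig, IsConj x d} ⊆
        X ∪ (dV S B.toBigConfig ∩ fibre S B.toBigConfig 1) := by
      rintro x ⟨hx, d, hd, hc⟩
      obtain ⟨g, rfl⟩ := isConj_iff.mp hc
      by_cases hxV : x ∈ vv S B.toBigConfig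
      · refine Or.inr ⟨⟨hxV, fun h => hd.2.1 (by rw [h]; group), fun h => hd.2.2 ?_⟩, hxV, S.img_Q hx⟩
        exact h.trans hc
      · refine Or.inl ⟨hx, hxV, ?_, g, hd⟩
        have h2 := (vv_facts S F B.toBigConfig).2.1 _ hd.1
        rw [show g * x * g⁻¹ * (g * x * g⁻¹) = g * (x * x) * g⁻¹ by group] at h2
        exact conj_eq_one_iff.mp h2
    have h1 := (ncard_conj_dV_Q S F B Me hE).trans
      (Set.ncard_le_ncard hsub (Set.toFinite _))
    have h2 := h1.trans (Set.ncard_union_le _ _)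
    rw [ncard_dV_yBig S F B hE] at h2
    omega

/-- The two rows. -/
theorem rows_of_facts [IsSimpleGroup G] (F : AutFacts) (hG : ¬ IsMulCommutative G)
    (hJ : Cfsg.IsOfJankoFourTypeAt z) : ∃ M : Model z, M.Outer := by
  obtain ⟨p, S⟩ := Setting.of_at hJ
  have hE := S.exists_fused hG F
  obtain ⟨M, hM⟩ := exists_model S F Cert2.normConfig Cert2.meetConfig Cert3.splitConfig hE
  exact ⟨M, outer_model S F Cert2.normConfig Cert2.meetConfig hE M hM⟩

end Cfsg.Agent.Lib.J4Ten
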