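import Cfsg.Agent.Lib.J4Ten.Defs

/-!
# Checks: fixed vectors
-/

set_option autoImplicit false
set_option maxRecDepth 8000

namespace Cfsg.Agent.Lib.J4Ten

open Cfsg.Agent.Lib.Computation Cfsg.Agent.Lib.Golay

theorem xMask_ok : ((List.range 11).all fun b => (List.range 2048).all fun v =>
    (xMask b).testBit v == v.testBit b) = true := by
  decide +kernel

theorem fm_ok : ((Data.invC.zip Data.fmT).all fun q => Nat.beq (fixC q.1) q.2) = true := by
  decide +kernel

end Cfsg.Agent.Lib.J4Ten
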