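import Cfsg.Agent.Lib.J4Ten.Defs

/-!
# Checks: the Sylow 2-subgroup and its involutions
-/

set_option autoImplicit false
set_option maxRecDepth 8000

namespace Cfsg.Agent.Lib.J4Ten

open Cfsg.Agent.Lib.Computation Cfsg.Agent.Lib.Golay

theorem pc_ok : (pcOk Data.pcL Data.pcW [] [oneCode] && Data.pcL.all inM24) = true := by
  decide +kernel

theorem pc_invol : ((pcExpand Data.pcL [oneCode]).all fun c =>
    !Nat.beq (cm c c) oneCode || Nat.beq c oneCode || memN Data.invC c) = true := by
  decide +kernel

theorem inv_ok : (Data.invC.all fun c => okCode c && Nat.beq (cm c c) oneCode) = true := by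
  decide +kernel

end Cfsg.Agent.Lib.J4Ten
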