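import Cfsg.Agent.Lib.J4Ten.Defs

/-!
# Checks: products of commuting involutions
-/

set_option autoImplicit false
set_option maxRecDepth 8000

namespace Cfsg.Agent.Lib.J4Ten

open Cfsg.Agent.Lib.Computation Cfsg.Agent.Lib.Golay

/-- The check of one entry of the product table. -/
def entryOk (x pr wr : ℕ) (i : ℕ) (jy : ℕ × ℕ) : Bool :=
  let k := getW 8 pr jy.1
  bif Nat.beq jy.1 i then Nat.beq k 255
  else bif Nat.beq k 255 then
    (let q := getW 5 wr jy.1
     Nat.blt q 24 && !Nat.beq (getW 5 x (getW 5 jy.2 q)) (getW 5 jy.2 (getW 5 x q)))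
  else Nat.blt k 191 && Nat.beq (cm x jy.2) (Data.invC.getD k 0)

theorem prod_ok : (((List.range 191).zip (Data.invC.zip (Data.prodT.zip Data.witT))).all fun r =>
    ((List.range 191).zip Data.invC).all fun jy => entryOk r.2.1 r.2.2.1 r.2.2.2 r.1 jy) = true := by
  decide +kernel

end Cfsg.Agent.Lib.J4Ten
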