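import Cfsg.Agent.Lib.J4Ten.SearchDefs

/-!
# Checks: the only elementary subgroup whose fixed space makes it `2^10`
-/

set_option autoImplicit false
set_option maxRecDepth 8000

namespace Cfsg.Agent.Lib.J4Ten

theorem root_ok : nodeOk [] full 0 = true := by decide +kernel

theorem chunk_ok0 : chunk 0 2 = true := by decide +kernel

theorem chunk_ok1 : chunk 2 6 = true := by decide +kernel

theorem chunk_ok2 : chunk 6 7 = true := by decide +kernel

theorem chunk_ok3 : chunk 7 9 = true := by decide +kernel

theorem chunk_ok4 : chunk 9 15 = true := by decide +kernel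

theorem chunk_ok5 : chunk 15 18 = true := by decide +kernel

theorem chunk_ok6 : chunk 18 21 = true := by decide +kernel

theorem chunk_ok7 : chunk 21 34 = true := by decide +kernel

theorem chunk_ok8 : chunk 34 43 = true := by decide +kernel

theorem chunk_ok9 : chunk 43 59 = true := by decide +kernel

theorem chunk_ok10 : chunk 59 81 = true := by decide +kernel

theorem chunk_ok11 : chunk 81 191 = true := by decide +kernel

/-- Every branch of the root passes. -/
theorem childAt_ok {i : ℕ} (hi : i < 191) : childAt i = true := by
  have key : ∀ lo hi', chunk lo hi' = true → lo ≤ i → i < hi' → childAt i = true := by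
    intro lo hi' h h1 h2
    have := List.all_eq_true.mp h (i - lo) (List.mem_range.mpr (by omega))
    rwa [Nat.add_sub_cancel' h1] at this
  by_cases h0 : i < 2
  · exact key _ _ chunk_ok0 (by omega) h0
  by_cases h1 : i < 6
  · exact key _ _ chunk_ok1 (by omega) h1
  by_cases h2 : i < 7
  · exact key _ _ chunk_ok2 (by omega) h2
  by_cases h3 : i < 9
  · exact key _ _ chunk_ok3 (by omega) h3
  by_cases h4 : i < 15
  · exact key _ _ chunk_ok4 (by omega) h4
  by_cases h5 : i < 18
  · exact key _ _ chunk_ok5 (by omega) h5
  by_cases h6 : i < 21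
  · exact key _ _ chunk_ok6 (by omega) h6
  by_cases h7 : i < 34
  · exact key _ _ chunk_ok7 (by omega) h7
  by_cases h8 : i < 43
  · exact key _ _ chunk_ok8 (by omega) h8
  by_cases h9 : i < 59
  · exact key _ _ chunk_ok9 (by omega) h9
  by_cases h10 : i < 81
  · exact key _ _ chunk_ok10 (by omega) h10
  by_cases h11 : i < 191
  · exact key _ _ chunk_ok11 (by omega) h11
  omega

end Cfsg.Agent.Lib.J4Ten
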