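import Cfsg.Agent.Lib.J4Ten.StdDefs

/-!
# Checks: the octad, its group, its fixed space, orbits on the coordinatised `2^10`
-/

set_option autoImplicit false
set_option maxRecDepth 20000

namespace Cfsg.Agent.Lib.J4Ten

open Cfsg.Agent.Lib.Computation Cfsg.Agent.Lib.Golay Cfsg.Agent.Lib.J4Big.Cocode

theorem oct_ok : (Nat.beq Data.rL.length 16 && Nat.beq (rC 0) oneCode && inCode Data.oMask &&
    Nat.beq (pc24 Data.oMask) 8 && Nat.blt Data.x0 24 && !Data.oMask.testBit Data.x0 &&
    (List.range 16).all fun i => inM24 (rC i) &&
      ((List.range 24).all fun p => !Data.oMask.testBit p || Nat.beq (getW 5 (rC i) p) p) &&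
      (Nat.beq i 0 || !Nat.beq (getW 5 (rC i) Data.x0) Data.x0) &&
      (List.range 16).all fun j => Nat.beq (cm (rC i) (rC j)) (rC (i ^^^ j))) = true := by
  decide +kernel

theorem rpos_ok : (Data.rPos.all fun k => memN Data.rL (Data.invC.getD k 0)) = true := by
  decide +kernel

theorem cB_ok : (Nat.beq Data.cB.length 6 && Data.cB.all (fun b => Nat.blt b 2048) &&
    ((List.range 16).all fun i => Data.cB.all fun b => Nat.beq (actC (rC i) b) b) &&
    (List.range 64).all fun k => Nat.beq k 0 || !Nat.beq (cV k) 0) = true := by
  decide +kernel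

theorem fix_R : Nat.beq (fixC (rC 1) &&& fixC (rC 2) &&& fixC (rC 4) &&& fixC (rC 8)) cMask = true := by
  decide +kernel

theorem fix_pair : ([2, 4, 8].all fun b => Nat.beq (fixC (rC 1) &&& fixC (rC b)) cMask) = true := by
  decide +kernel

theorem fix_one : ((List.range 16).all fun i => Nat.beq i 0 ||
    Nat.beq (fixC (rC i)) (idMask (spanL (commL (rC i) ++ Data.cB)))) = true := by
  decide +kernel

/-- The condition on a vector. -/
def vtenAt (v : ℕ) : Bool :=
  vTen.testBit v == ([1, 2, 4, 8].all fun j => cMask.testBit (actC (rC j) v ^^^ v))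

theorem vten_part0 : ((List.range 256).all fun d => vtenAt (0 + d)) = true := by
  decide +kernel

theorem vten_part1 : ((List.range 256).all fun d => vtenAt (256 + d)) = true := by
  decide +kernel

theorem vten_part2 : ((List.range 256).all fun d => vtenAt (512 + d)) = true := by
  decide +kernel

theorem vten_part3 : ((List.range 256).all fun d => vtenAt (768 + d)) = true := by
  decide +kernel

theorem vten_part4 : ((List.range 256).all fun d => vtenAt (1024 + d)) = true := by
  decide +kernel

theorem vten_part5 : ((List.range 256).all fun d => vtenAt (1280 + d)) = true := by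
  decide +kernel

theorem vten_part6 : ((List.range 256).all fun d => vtenAt (1536 + d)) = true := by
  decide +kernel

theorem vten_part7 : ((List.range 256).all fun d => vtenAt (1792 + d)) = true := by
  decide +kernel

theorem vten_card : Nat.beq ((List.range 2048).filter fun v => vTen.testBit v).length 1024 = true := by
  decide +kernel

theorem vten_ok {v : ℕ} (hv : v < 2048) : vtenAt v = true := by
  have key : ∀ o, ((List.range 256).all fun d => vtenAt (o + d)) = true → o ≤ v → v < o + 256 →
      vtenAt v = true := by
    intro o h h1 h2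
    have := List.all_eq_true.mp h (v - o) (List.mem_range.mpr (by omega))
    rwa [Nat.add_sub_cancel' h1] at this
  by_cases h0 : v < 256
  · exact key _ vten_part0 (by omega) (by omega)
  by_cases h1 : v < 512
  · exact key _ vten_part1 (by omega) (by omega)
  by_cases h2 : v < 768
  · exact key _ vten_part2 (by omega) (by omega)
  by_cases h3 : v < 1024
  · exact key _ vten_part3 (by omega) (by omega)
  by_cases h4 : v < 1280
  · exact key _ vten_part4 (by omega) (by omega)
  by_cases h5 : v < 1536
  · exact key _ vten_part5 (by omega) (by omega)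
  by_cases h6 : v < 1792
  · exact key _ vten_part6 (by omega) (by omega)
  by_cases h7 : v < 2048
  · exact key _ vten_part7 (by omega) (by omega)
  omega

theorem x0_ok : ((List.range 24).all fun y => Data.oMask.testBit y ||
    (vTen.testBit (duo Data.x0 y) &&
      (Nat.beq y Data.x0 || !cMask.testBit (duo Data.x0 y)))) = true := by
  decide +kernel

theorem gens_ok : (Nat.beq Data.sG.length 2 && Nat.beq Data.wB.length 4 &&
    Nat.beq Data.gCols.length 6 &&
    (Data.sG.all fun g => inM24 g && Nat.beq (permMask g Data.oMask) Data.oMask) &&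
    (Data.sG.zip Data.gCols).all (fun q => permGenOk q.1 q.2) &&
    (Data.wB.zip (Data.gCols.drop 2)).all (fun q => transGenOk q.1 q.2)) = true := by
  decide +kernel

theorem orbits_ok : (orbCert Data.gCols Data.s28 Data.s28P && orbCert Data.gCols Data.s35 Data.s35P &&
    orbCert Data.gCols Data.s120 Data.s120P && orbCert Data.gCols Data.s840 Data.s840P) = true := by
  decide +kernel

theorem lengths_ok : (Nat.beq Data.s28.length 28 && Nat.beq Data.s35.length 35 &&
    Nat.beq Data.s120.length 120 && Nat.beq Data.s840.length 840) = true := by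
  decide +kernel

theorem masks_ok : (isMask (Data.s28 ++ Data.s35 ++ Data.s120 ++ Data.s840) (2 ^ 1024 - 2) &&
    isMask (Data.s35 ++ Data.s120) decM) = true := by
  decide +kernel

theorem small_ok : (Data.s28.all (fun a => Nat.blt a 64 && dGood.testBit (cV a)) &&
    Data.s35.all (fun a => Nat.blt a 64 && !dGood.testBit (cV a)) &&
    (Data.s120 ++ Data.s840).all (fun a => Nat.ble 64 a && Nat.blt a 1024) &&
    (List.range 64).all (fun a => memN (spanL Data.s35) a)) = true := by
  decide +kernel

theorem chain_ok : Nat.beq (chainProd decM Data.chainOrd [0]) 9999360 = true := by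
  decide +kernel

end Cfsg.Agent.Lib.J4Ten
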