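import Cfsg.Agent.Lib.J4Ten.Data
import Cfsg.Agent.Lib.J4Big.Cocode.Code
import Cfsg.Agent.Lib.Golay.M24

/-!
# Computable functions for the self-centralising `2^10`
-/

set_option autoImplicit false

namespace Cfsg.Agent.Lib.J4Ten

open Cfsg.Agent.Lib.Computation Cfsg.Agent.Lib.Golay Cfsg.Agent.Lib.J4Big.Cocode

/-- Composition of codes. -/
def cm (a b : ℕ) : ℕ := mulP 24 5 a b

/-- The image of a basis vector under a code. -/
def colC (c i : ℕ) : ℕ := piL.getD (getW 5 c i) 0 ^^^ piL.getD (getW 5 c 23) 0

/-- The columns of a code acting on the cocode. -/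
def cols (c : ℕ) : List ℕ := (List.range 11).map (colC c)

/-- The action of a code on the cocode. -/
def actC (c v : ℕ) : ℕ := combine (cols c) v

/-- The elements of the fixed space. -/
def cV (k : ℕ) : ℕ := combine Data.cB k

/-- The element of the octad group with given coordinates. -/
def rC (i : ℕ) : ℕ := Data.rL.getD i 0

/-- All vectors. -/
def full : ℕ := 2 ^ 2048 - 1

/-- The vectors with digit `b` equal to one. -/
def xMask (b : ℕ) : ℕ :=
  ((2 ^ 2 ^ b - 1) <<< 2 ^ b) * (full / (2 ^ 2 ^ (b + 1) - 1))

/-- The vectors whose combination has digit `j` equal to one. -/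
def formM (j : ℕ) : List ℕ → ℕ → ℕ
  | [], _ => 0
  | col :: rest, b => (bif col.testBit j then xMask b else 0) ^^^ formM j rest (b + 1)

/-- The fixed vectors of an endomorphism with given columns, for the first `n` digits. -/
def fixU (L : List ℕ) : ℕ → ℕ
  | 0 => full
  | j + 1 => fixU L j &&& (full ^^^ (formM j L 0 ^^^ xMask j))

/-- The fixed vectors of a code. -/
def fixC (c : ℕ) : ℕ := fixU (cols c) 11

/-- The slice of the numbers with leading digit `b`. -/
def slice (b : ℕ) : ℕ := 2 ^ 2 ^ (b + 1) - 2 ^ 2 ^ b

/-- The dimension of a subspace given by a mask. -/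
def dimM (m : ℕ) : ℕ := ((List.range 11).filter fun b => !Nat.beq (m &&& slice b) 0).length

/-- An entry of the search: index, products and fixed vectors. -/
abbrev Row := ℕ × ℕ × ℕ

/-- Membership in a list of numbers. -/
def memN (l : List ℕ) (a : ℕ) : Bool := l.any fun b => Nat.beq b a

/-- The mask of a list of indices. -/
def idMask : List ℕ → ℕ
  | [] => 0
  | a :: l => 2 ^ a ||| idMask l

/-- The mask of a list of entries. -/
def rowMask : List Row → ℕ
  | [] => 0
  | a :: l => 2 ^ a.1 ||| rowMask l

/-- The group generated by a polycyclic sequence, listed. -/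
def pcExpand : List ℕ → List ℕ → List ℕ
  | [], L => L
  | g :: gs, L => pcExpand gs (L ++ L.map fun h => cm h g)

/-- Every step of a polycyclic sequence is a normalising extension by an element of order two
modulo the previous terms. -/
def pcOk : List ℕ → List (List ℕ × ℕ) → List ℕ → List ℕ → Bool
  | [], _, _, _ => true
  | _ :: _, [], _, _ => false
  | g :: gs, (ws, s) :: W, prev, L =>
    (!memN (L.map fun h => cm h oneCode) (cm g oneCode) && Nat.beq ws.length prev.length && Nat.blt s L.length &&
      Nat.beq (cm g g) (L.getD s 0) &&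
      ((prev.zip ws).all fun q => Nat.blt q.2 L.length && Nat.beq (cm g q.1) (cm (L.getD q.2 0) g))) &&
      pcOk gs W (prev ++ [g]) (L ++ L.map fun h => cm h g)

end Cfsg.Agent.Lib.J4Ten
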