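import Cfsg.Agent.Lib.J4Ten.Defs

/-!
# Computable functions for the coordinatised `2^10`

An element is a number below 1024: six digits for the fixed space of the octad group, four for
the group itself.  Read as an alternating form on five points its rank two members are the 155.
-/

set_option autoImplicit false

namespace Cfsg.Agent.Lib.J4Ten

open Cfsg.Agent.Lib.Computation Cfsg.Agent.Lib.Golay Cfsg.Agent.Lib.J4Big.Cocode

/-- The span of a list, listed without repetition. -/
def spanL : List ℕ → List ℕ
  | [] => [0]
  | a :: l => let s := spanL l; bif memN s a then s else s ++ s.map fun x => a ^^^ x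

/-- The images of the basis under `1 + c`. -/
def commL (c : ℕ) : List ℕ := (List.range 11).map fun i => colC c i ^^^ 2 ^ i

/-- The fixed space of the octad group. -/
def cMask : ℕ := idMask (spanL Data.cB)

/-- The vectors moved into the fixed space by the octad group. -/
def vTen : ℕ := idMask (spanL (Data.wB ++ Data.cB))

/-- The value of a pair of points given by indices. -/
def duo (i j : ℕ) : ℕ := piL.getD i 0 ^^^ piL.getD j 0

/-- The pairs of five points, in the order of the digits. -/
def prs : List (ℕ × ℕ) := [(0, 1), (0, 2), (1, 2), (0, 3), (1, 3), (2, 3), (0, 4), (1, 4), (2, 4), (3, 4)]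

/-- The exterior product of two vectors of length five. -/
def wedgeN (u v : ℕ) : ℕ :=
  (prs.zip (List.range 10)).foldr (fun q acc =>
    bif xor (u.testBit q.1.1 && v.testBit q.1.2) (u.testBit q.1.2 && v.testBit q.1.1)
      then 2 ^ q.2 ^^^ acc else acc) 0

/-- The nonzero exterior products. -/
def decM : ℕ :=
  idMask ((List.range 32).flatMap fun u => (List.range 32).map fun v => wedgeN u v) &&&
    (2 ^ 1024 - 2)

/-- A permutation generator is consistent with its columns. -/
def permGenOk (g : ℕ) (L : List ℕ) : Bool :=
  Nat.beq L.length 10 &&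
    ((List.range 6).all fun b => Nat.blt (L.getD b 0) 64 &&
      Nat.beq (actC g (Data.cB.getD b 0)) (cV (L.getD b 0))) &&
    ((List.range 4).all fun j => let col := L.getD (6 + j) 0
      Nat.blt col 1024 && Nat.beq (col % 64) 0 &&
        Nat.beq (cm g (rC (2 ^ j))) (cm (rC (col / 64)) g))

/-- A translation generator is consistent with its columns. -/
def transGenOk (w : ℕ) (L : List ℕ) : Bool :=
  Nat.blt w 2048 && Nat.beq L.length 10 &&
    ((List.range 6).all fun b => Nat.beq (L.getD b 0) (2 ^ b)) &&
    ((List.range 4).all fun j => let col := L.getD (6 + j) 0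
      Nat.blt col 1024 && Nat.beq (col / 64) (2 ^ j) &&
        Nat.beq (cV (col % 64)) (actC (rC (2 ^ j)) w ^^^ w))

/-- A list of numbers below 1024, packed. -/
def pkL (l : List ℕ) : ℕ := l.foldr (fun a acc => a + 1024 * acc) 0

/-- An orbit certificate: every member after the first comes from an earlier one. -/
def orbOk (gs : List (List ℕ)) (pk : ℕ) : List ℕ → List (ℕ × ℕ) → ℕ → Bool
  | [], P, _ => P.isEmpty
  | _ :: _, [], _ => false
  | y :: ys, q :: P, pos =>
    Nat.blt q.1 pos && Nat.blt q.2 gs.length && Nat.beq (getW 10 pk pos) y &&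
      Nat.beq (combine (gs.getD q.2 []) (getW 10 pk q.1)) y && orbOk gs pk ys P (pos + 1)

/-- The whole certificate of an orbit. -/
def orbCert (gs : List (List ℕ)) (s : List ℕ) (P : List (ℕ × ℕ)) : Bool :=
  match s with
  | [] => false
  | a :: ys => Nat.beq (getW 10 (pkL s) 0) a && orbOk gs (pkL s) ys P 1

/-- The candidates for the image of a basis vector when the earlier ones are fixed. -/
def candL (D : ℕ) (sp : List ℕ) (e : ℕ) : List ℕ :=
  let m := idMask sp
  (List.range 1024).filter fun y =>
    !m.testBit y && sp.all fun s => D.testBit (s ^^^ y) == D.testBit (s ^^^ e)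

/-- The product of the numbers of candidates. -/
def chainProd (D : ℕ) : List ℕ → List ℕ → ℕ
  | [], _ => 1
  | b :: bs, sp => (candL D sp (2 ^ b)).length * chainProd D bs (sp ++ sp.map fun s => s ^^^ 2 ^ b)

end Cfsg.Agent.Lib.J4Ten
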