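import Cfsg.Agent.Lib.J4Ten.ChecksFix
import Cfsg.Agent.Lib.J4Ten.StdDefs

/-!
# Masks of fixed vectors and of subspaces
-/

set_option autoImplicit false
set_option exponentiation.threshold 4096

namespace Cfsg.Agent.Lib.J4Ten

open Cfsg Cfsg.Agent.Lib.Computation Cfsg.Agent.Lib.Golay Cfsg.Agent.Lib.J4Big.Cocode

theorem piL_getD_lt (i : ℕ) : piL.getD i 0 < 2048 := by
  rcases Nat.lt_or_ge i piL.length with h | h
  · rw [List.getD_eq_getElem _ _ h]
    exact piL_lt _ (List.getElem_mem h)
  · rw [List.getD_eq_default _ _ h]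
    norm_num

theorem colC_lt (c i : ℕ) : colC c i < 2048 :=
  Nat.xor_lt_two_pow (n := 11) (piL_getD_lt _) (piL_getD_lt _)

theorem combine_lt : ∀ {l : List ℕ}, (∀ x ∈ l, x < 2048) → ∀ m : ℕ, combine l m < 2048
  | [], _, _ => by simp [combine]
  | r :: l, h, m => by
    rw [combine]
    refine Nat.xor_lt_two_pow (n := 11) ?_ (combine_lt (fun x hx => h x (List.mem_cons_of_mem _ hx)) _)
    split
    · exact h r List.mem_cons_self
    · norm_num

theorem cols_length (c : ℕ) : (cols c).length = 11 := by simp [cols]

theorem actC_lt (c v : ℕ) : actC c v < 2048 :=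
  combine_lt (fun x hx => by
    obtain ⟨i, -, rfl⟩ := List.mem_map.mp hx
    exact colC_lt c i) v

theorem actC_xor (c a b : ℕ) : actC c (a ^^^ b) = actC c a ^^^ actC c b := combine_xor _ a b

theorem testBit_xMask {b v : ℕ} (hb : b < 11) (hv : v < 2048) :
    (xMask b).testBit v = v.testBit b := by
  have h := xMask_ok
  simp only [List.all_eq_true, List.mem_range, beq_iff_eq] at h
  exact h b hb v hv

theorem testBit_full (v : ℕ) : full.testBit v = decide (v < 2048) :=
  Nat.testBit_two_pow_sub_one 2048 v

theorem testBit_formM (j : ℕ) : ∀ (L : List ℕ) (b v : ℕ), b + L.length ≤ 11 → v < 2048 →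
    (formM j L b).testBit v = (combine L (v / 2 ^ b)).testBit j
  | [], b, v, _, _ => by simp [formM, combine]
  | col :: rest, b, v, hb, hv => by
    rw [List.length_cons] at hb
    rw [formM, combine, Nat.testBit_xor, Nat.testBit_xor, testBit_formM j rest (b + 1) v (by omega) hv,
      Nat.div_div_eq_div_mul, ← pow_succ]
    congr 1
    have hm : (v / 2 ^ b % 2 = 1) ↔ v.testBit b = true := by
      rw [Nat.testBit_eq_decide_div_mod_eq, decide_eq_true_eq]
    cases hc : col.testBit j <;> simp only [cond_false, cond_true, Nat.zero_testBit]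
    · split <;> simp [hc]
    · rw [testBit_xMask (by omega) hv]
      by_cases h : v / 2 ^ b % 2 = 1
      · rw [if_pos h, hc, hm.mp h]
      · rw [if_neg h, Nat.zero_testBit]
        simpa using mt hm.mpr h

theorem testBit_fixU {L : List ℕ} (hL : L.length ≤ 11) {v : ℕ} : ∀ {n : ℕ}, n ≤ 11 →
    ((fixU L n).testBit v = true ↔
      v < 2048 ∧ ∀ j < n, (combine L v).testBit j = v.testBit j)
  | 0, _ => by simp [fixU, testBit_full]
  | n + 1, hn => by
    rw [fixU, Nat.testBit_and, Bool.and_eq_true, testBit_fixU hL (n := n) (by omega)]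
    constructor
    · rintro ⟨⟨hv, h⟩, h'⟩
      refine ⟨hv, fun j hj => ?_⟩
      rcases Nat.lt_succ_iff_lt_or_eq.mp hj with hj | rfl
      · exact h j hj
      · rw [Nat.testBit_xor, Nat.testBit_xor, testBit_full,
          testBit_formM j L 0 v (by omega) hv, testBit_xMask (by omega) hv, pow_zero,
          Nat.div_one] at h'
        revert h'
        cases (combine L v).testBit j <;> cases v.testBit j <;> simp [hv]
    · rintro ⟨hv, h⟩
      refine ⟨⟨hv, fun j hj => h j (by omega)⟩, ?_⟩
      rw [Nat.testBit_xor, Nat.testBit_xor, testBit_full,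
        testBit_formM n L 0 v (by omega) hv, testBit_xMask (by omega) hv, pow_zero,
        Nat.div_one, h n (by omega)]
      simp [hv]

theorem eq_of_bits_lt {a b : ℕ} (ha : a < 2048) (hb : b < 2048)
    (h : ∀ j < 11, a.testBit j = b.testBit j) : a = b := by
  refine Nat.eq_of_testBit_eq fun j => ?_
  rcases Nat.lt_or_ge j 11 with hj | hj
  · exact h j hj
  · have : 2048 ≤ 2 ^ j := le_trans (by norm_num) (Nat.pow_le_pow_right (by norm_num : 2 > 0) hj)
    rw [Nat.testBit_lt_two_pow (ha.trans_le this), Nat.testBit_lt_two_pow (hb.trans_le this)]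

theorem testBit_fixC {c v : ℕ} :
    (fixC c).testBit v = true ↔ v < 2048 ∧ actC c v = v := by
  rw [fixC, testBit_fixU (cols_length c).le le_rfl]
  refine and_congr_right fun hv => ⟨fun h => ?_, fun h j _ => by rw [← actC, h]⟩
  exact eq_of_bits_lt (actC_lt c v) hv h

/-! ### the number of members of a subspace -/

/-- The members below a bound. -/
def below (m n : ℕ) : Finset ℕ := (Finset.range n).filter fun v => m.testBit v = true

theorem testBit_slice {b v : ℕ} :
    (slice b).testBit v = true ↔ 2 ^ b ≤ v ∧ v < 2 ^ (b + 1) := by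
  have h1 : 2 ^ b ≤ 2 ^ (b + 1) := Nat.pow_le_pow_right (by norm_num) (by omega)
  have e : slice b = 2 ^ 2 ^ b * (2 ^ (2 ^ (b + 1) - 2 ^ b) - 1) := by
    rw [slice, Nat.mul_sub, mul_one, ← pow_add, Nat.add_sub_cancel' h1]
  rw [e, Nat.testBit_two_pow_mul, Nat.testBit_two_pow_sub_one, Bool.and_eq_true,
    decide_eq_true_eq, decide_eq_true_eq]
  omega

theorem below_pow (m : ℕ) (h0 : m.testBit 0 = true)
    (hx : ∀ a b, m.testBit a = true → m.testBit b = true → m.testBit (a ^^^ b) = true) :
    ∀ n : ℕ, (below m (2 ^ n)).card =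
      2 ^ ((List.range n).filter fun b => !Nat.beq (m &&& slice b) 0).length
  | 0 => by
    have : below m (2 ^ 0) = {0} := by
      ext v
      simp only [below, pow_zero, Finset.mem_filter, Finset.mem_range, Finset.mem_singleton,
        Nat.lt_one_iff]
      exact ⟨fun h => h.1, fun h => ⟨h, h ▸ h0⟩⟩
    rw [this]
    simp
  | n + 1 => by
    rw [List.range_succ, List.filter_append, List.length_append,
      pow_add 2 ((List.range n).filter fun b => !Nat.beq (m &&& slice b) 0).length,
      ← below_pow m h0 hx n]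
    by_cases hs : m &&& slice n = 0
    · simp only [List.filter_singleton, hs, Nat.beq_refl, Bool.not_true, cond_false,
        List.length_nil, pow_zero, mul_one]
      congr 1
      ext v
      simp only [below, Finset.mem_filter, Finset.mem_range]
      refine ⟨fun ⟨hv, h⟩ => ⟨?_, h⟩, fun ⟨hv, h⟩ => ⟨hv.trans_le
        (Nat.pow_le_pow_right (by norm_num) (by omega)), h⟩⟩
      by_contra hge
      have : (m &&& slice n).testBit v = true := by
        rw [Nat.testBit_and, h, testBit_slice.mpr ⟨by omega, hv⟩]; rfl
      rw [hs] at this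
      simp at this
    · have hb : Nat.beq (m &&& slice n) 0 = false := by
        rw [← Bool.not_eq_true, Nat.beq_eq]; exact hs
      simp only [List.filter_singleton, hb, Bool.not_false, cond_true, List.length_singleton,
        pow_one]
      obtain ⟨w, hw⟩ := Nat.exists_testBit_of_ne_zero hs
      rw [Nat.testBit_and, Bool.and_eq_true, testBit_slice] at hw
      obtain ⟨hwm, hwl, hwu⟩ := hw
      have hwbit : w.testBit n = true :=
        Nat.testBit_of_two_pow_le_and_two_pow_add_one_gt hwl hwu
      have hflip : ∀ v < 2 ^ (n + 1), (v ^^^ w < 2 ^ n ↔ ¬ v < 2 ^ n) := by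
        intro v hv
        have hx' := Nat.xor_lt_two_pow hv hwu
        have hiff : ∀ u < 2 ^ (n + 1), (u < 2 ^ n ↔ u.testBit n = false) := fun u hu => by
          constructor
          · exact fun h => Nat.testBit_lt_two_pow h
          · intro h
            by_contra hge
            rw [Nat.testBit_of_two_pow_le_and_two_pow_add_one_gt (by omega) hu] at h
            simp at h
        rw [hiff _ hx', hiff _ hv, Nat.testBit_xor, hwbit]
        cases v.testBit n <;> simp
      have e : below m (2 ^ (n + 1)) = below m (2 ^ n) ∪ (below m (2 ^ n)).image (· ^^^ w) := by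
        ext v
        simp only [below, Finset.mem_union, Finset.mem_filter, Finset.mem_range, Finset.mem_image]
        constructor
        · rintro ⟨hv, h⟩
          by_cases hl : v < 2 ^ n
          · exact Or.inl ⟨hl, h⟩
          · exact Or.inr ⟨v ^^^ w, ⟨(hflip v hv).mpr hl, hx _ _ h hwm⟩, by
              rw [Nat.xor_assoc, Nat.xor_self, Nat.xor_zero]⟩
        · rintro (⟨hv, h⟩ | ⟨u, ⟨hu, hum⟩, rfl⟩)
          · exact ⟨hv.trans_le (Nat.pow_le_pow_right (by norm_num) (by omega)), h⟩
          · exact ⟨Nat.xor_lt_two_pow (hu.trans_le (Nat.pow_le_pow_right (by norm_num) (by omega))) hwu,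
              hx _ _ hum hwm⟩
      have hd : Disjoint (below m (2 ^ n)) ((below m (2 ^ n)).image (· ^^^ w)) := by
        rw [Finset.disjoint_left]
        intro v hv hv'
        simp only [below, Finset.mem_image, Finset.mem_filter, Finset.mem_range] at hv hv'
        obtain ⟨u, ⟨hu, -⟩, rfl⟩ := hv'
        exact (hflip u (hu.trans_le (Nat.pow_le_pow_right (by norm_num) (by omega)))).mp hv.1 hu
      rw [e, Finset.card_union_of_disjoint hd, Finset.card_image_of_injective _ (fun a b h => by
        simpa [Nat.xor_assoc] using congrArg (· ^^^ w) h)]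
      omega

theorem card_below_dim {m : ℕ} (h0 : m.testBit 0 = true)
    (hx : ∀ a b, m.testBit a = true → m.testBit b = true → m.testBit (a ^^^ b) = true) :
    (below m 2048).card = 2 ^ dimM m :=
  below_pow m h0 hx 11

theorem testBit_idMask : ∀ {l : List ℕ} {a : ℕ}, (idMask l).testBit a = true ↔ a ∈ l
  | [], a => by simp [idMask]
  | b :: l, a => by
    simp only [idMask, Nat.testBit_or, Bool.or_eq_true, Nat.testBit_two_pow, decide_eq_true_eq,
      testBit_idMask, List.mem_cons]
    exact or_congr_left eq_comm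

theorem memN_iff {l : List ℕ} {a : ℕ} : memN l a = true ↔ a ∈ l := by
  simp [memN, List.any_eq_true]

/-- A predicate closed under sums holds on the span. -/
theorem spanL_induction {Q : ℕ → Prop} (h0 : Q 0) (hadd : ∀ a b, Q a → Q b → Q (a ^^^ b)) :
    ∀ {l : List ℕ}, (∀ a ∈ l, Q a) → ∀ x ∈ spanL l, Q x
  | [], _, x, hx => by
    rw [spanL, List.mem_singleton] at hx
    exact hx ▸ h0
  | a :: l, h, x, hx => by
    have ih := spanL_induction h0 hadd fun b hb => h b (List.mem_cons_of_mem _ hb)
    simp only [spanL] at hx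
    cases hm : memN (spanL l) a <;> rw [hm] at hx
    · rcases List.mem_append.mp hx with h' | h'
      · exact ih x h'
      · obtain ⟨y, hy, rfl⟩ := List.mem_map.mp h'
        exact hadd _ _ (h a List.mem_cons_self) (ih y hy)
    · exact ih x hx

end Cfsg.Agent.Lib.J4Ten
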