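import Cfsg.Agent.Lib.J4Ten.ChecksGroup

/-!
# A Sylow 2-subgroup of the group of the code, listed, with its involutions
-/

set_option autoImplicit false

namespace Cfsg.Agent.Lib.J4Ten

open Cfsg Cfsg.Agent.Lib.Computation Cfsg.Agent.Lib.Golay

theorem gperm_cm {a b : ℕ} (ha : okCode a = true) (hb : okCode b = true) :
    gperm (cm a b) = gperm a * gperm b := gperm_mul ha hb

theorem ok_cm {a b : ℕ} (ha : okCode a = true) (hb : okCode b = true) :
    okCode (cm a b) = true := okCode_mulP ha hb

theorem packW_ext {f g : ℕ → ℕ} : ∀ {k : ℕ}, (∀ x < k, f x = g x) → packW 5 f k = packW 5 g k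
  | 0, _ => rfl
  | k + 1, h => by
    rw [packW_succ, packW_succ, h k (by omega), packW_ext fun x hx => h x (by omega)]

theorem cm_cm_one {a b : ℕ} (ha : okCode a = true) (hb : okCode b = true) :
    cm (cm a b) oneCode = cm a b := by
  have hone : ∀ i < 24, getW 5 oneCode i = i := by decide +kernel
  simp only [cm, mulP, forceNat_eq]
  refine packW_ext fun x hx => ?_
  rw [hone x hx, getW_packW ?_ hx]
  intro y hy
  exact lt_trans (getW_lt ha (getW_lt hb hy)) (by norm_num)

/-- Codes of one permutation agree after composition with the identity. -/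
theorem cm_one_congr {a b : ℕ} (ha : okCode a = true) (hb : okCode b = true)
    (h : gperm a = gperm b) : cm a oneCode = cm b oneCode := by
  have hg : ∀ i < 24, getW 5 a i = getW 5 b i := fun i hi => by
    have h1 := idx_gperm ha (pt i)
    have h2 := idx_gperm hb (pt i)
    rw [idx_pt hi] at h1 h2
    rw [← h1, h, h2]
  have hone : ∀ i < 24, getW 5 oneCode i = i := by decide +kernel
  simp only [cm, mulP, forceNat_eq]
  refine packW_ext fun x hx => ?_
  rw [hone x hx, hg x hx]

/-- A normalising extension of order two of a listed subgroup is listed by doubling. -/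
theorem pcOk_spec : ∀ (gs : List ℕ) (W : List (List ℕ × ℕ)) (prev L : List ℕ)
    (H : Subgroup (Equiv.Perm GolayPt)),
    pcOk gs W prev L = true → (∀ g ∈ gs, inM24 g = true) → H ≤ M24 →
    (∀ h ∈ L, okCode h = true) → (H : Set (Equiv.Perm GolayPt)) = gperm '' {c | c ∈ L} →
    (∀ h ∈ prev, okCode h = true) → H = Subgroup.closure (gperm '' {c | c ∈ prev}) →
    Nat.card ↥H = L.length →
    ∃ K : Subgroup (Equiv.Perm GolayPt), K ≤ M24 ∧
      (K : Set (Equiv.Perm GolayPt)) = gperm '' {c | c ∈ pcExpand gs L} ∧
      Nat.card ↥K = L.length * 2 ^ gs.length ∧ (∀ h ∈ pcExpand gs L, okCode h = true)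
  | [], W, prev, L, H, _, _, hle, hL, hH, _, _, hc =>
    ⟨H, hle, by simpa [pcExpand] using hH, by simpa using hc, by simpa [pcExpand] using hL⟩
  | g :: gs, [], _, _, _, h, _, _, _, _, _, _, _ => by simp [pcOk] at h
  | g :: gs, (ws, s) :: W, prev, L, H, h, hg, hle, hL, hH, hprev, hcl, hc => by
    simp only [pcOk, Bool.and_eq_true, List.all_eq_true, Nat.blt, Nat.ble_eq, Nat.beq_eq,
      Bool.not_eq_true', memN, ← Bool.not_eq_true] at h
    obtain ⟨⟨⟨⟨⟨hnot, hlen⟩, hs⟩, hsq⟩, hws⟩, hrest⟩ := h
    have hgok : okCode g = true := okCode_of_inM24 (hg g List.mem_cons_self)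
    have hgM : gperm g ∈ M24 := gperm_mem_M24 (hg g List.mem_cons_self)
    have hmemH : ∀ {c}, c ∈ L → gperm c ∈ H := fun {c} hc' => by
      rw [← SetLike.mem_coe, hH]; exact ⟨c, hc', rfl⟩
    have hgetD : ∀ {i}, i < L.length → L.getD i 0 ∈ L := fun {i} hi => by
      rw [List.getD_eq_getElem _ _ hi]; exact List.getElem_mem hi
    set γ := gperm g with hγ
    -- `γ` normalises `H`
    have hnormP : ∀ c ∈ prev, γ * gperm c * γ⁻¹ ∈ H := by
      intro c hc'
      obtain ⟨i, hi, rfl⟩ := List.getElem_of_mem hc'
      have hq : (prev[i], ws[i]'(by omega)) ∈ prev.zip ws := by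
        have hz : i < (prev.zip ws).length := by simp only [List.length_zip]; omega
        have := List.getElem_mem hz
        rwa [List.getElem_zip] at this
      obtain ⟨hw, he⟩ := hws _ hq
      have hd := hgetD hw
      have := congrArg gperm he
      rw [gperm_cm hgok (hprev _ hc'), gperm_cm (hL _ hd) hgok] at this
      rw [this, mul_inv_cancel_right]
      exact hmemH hd
    have hnorm : ∀ x ∈ H, γ * x * γ⁻¹ ∈ H := by
      have : H ≤ H.comap (MulAut.conj γ).toMonoidHom := by
        rw [hcl]
        refine (Subgroup.closure_le _).mpr ?_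
        rintro _ ⟨c, hc', rfl⟩
        rw [← hcl]
        exact hnormP c hc'
      exact fun x hx => this hx
    have hnorm' : ∀ x ∈ H, γ⁻¹ * x * γ ∈ H := by
      intro x hx
      let f : ↥H → ↥H := fun y => ⟨γ * y * γ⁻¹, hnorm y y.2⟩
      have hf : Function.Injective f := fun a b h =>
        Subtype.ext (mul_left_cancel (mul_right_cancel (congrArg Subtype.val h)))
      obtain ⟨y, hy⟩ := (Finite.injective_iff_surjective.mp hf) ⟨x, hx⟩
      have hy' : γ * (y : Equiv.Perm GolayPt) * γ⁻¹ = x := congrArg Subtype.val hy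
      have e : γ⁻¹ * x * γ = y := by rw [← hy']; group
      exact e ▸ y.2
    have hsqH : γ * γ ∈ H := by
      rw [hγ, ← gperm_cm hgok hgok, hsq]
      exact hmemH (hgetD hs)
    have hγH : γ ∉ H := by
      intro hin
      rw [← SetLike.mem_coe, hH] at hin
      obtain ⟨c, hc', he⟩ := hin
      exact hnot (List.any_eq_true.mpr ⟨_, List.mem_map.mpr ⟨c, hc', rfl⟩,
        Nat.beq_eq.mpr (cm_one_congr (hL c hc') hgok he)⟩)
    let K : Subgroup (Equiv.Perm GolayPt) :=
      { carrier := {x | x ∈ H ∨ x * γ⁻¹ ∈ H}
        one_mem' := Or.inl (one_mem H)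
        mul_mem' := by
          rintro a b (ha | ha) (hb | hb)
          · exact Or.inl (mul_mem ha hb)
          · exact Or.inr (by rw [mul_assoc]; exact mul_mem ha hb)
          · refine Or.inr ?_
            rw [show a * b * γ⁻¹ = a * γ⁻¹ * (γ * b * γ⁻¹) by group]
            exact mul_mem ha (hnorm b hb)
          · refine Or.inl ?_
            rw [show a * b = a * γ⁻¹ * (γ * (b * γ⁻¹) * γ⁻¹) * (γ * γ) by group]
            exact mul_mem (mul_mem ha (hnorm _ hb)) hsqH
        inv_mem' := by
          rintro a (ha | ha)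
          · exact Or.inl (inv_mem ha)
          · refine Or.inr ?_
            rw [show a⁻¹ * γ⁻¹ = γ⁻¹ * (a * γ⁻¹)⁻¹ * γ * (γ * γ)⁻¹ by group]
            exact mul_mem (hnorm' _ (inv_mem ha)) (inv_mem hsqH) }
    have hKM : K ≤ M24 := by
      rintro x (hx | hx)
      · exact hle hx
      · have := mul_mem (hle hx) hgM
        rwa [inv_mul_cancel_right] at this
    have hKset : (K : Set (Equiv.Perm GolayPt)) =
        gperm '' {c | c ∈ L ++ L.map fun h => cm h g} := by
      ext x
      constructor
      · rintro (hx | hx)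
        · rw [← SetLike.mem_coe, hH] at hx
          obtain ⟨c, hc', rfl⟩ := hx
          exact ⟨c, List.mem_append_left _ hc', rfl⟩
        · rw [← SetLike.mem_coe, hH] at hx
          obtain ⟨c, hc', he⟩ := hx
          refine ⟨cm c g, List.mem_append_right _ (List.mem_map.mpr ⟨c, hc', rfl⟩), ?_⟩
          rw [gperm_cm (hL c hc') hgok, he, inv_mul_cancel_right]
      · rintro ⟨c, hc', rfl⟩
        rcases List.mem_append.mp hc' with h' | h'
        · exact Or.inl (hmemH h')
        · obtain ⟨d, hd, rfl⟩ := List.mem_map.mp h'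
          refine Or.inr ?_
          rw [gperm_cm (hL d hd) hgok, mul_inv_cancel_right]
          exact hmemH hd
    have hKcl : K = Subgroup.closure (gperm '' {c | c ∈ prev ++ [g]}) := by
      refine le_antisymm ?_ ((Subgroup.closure_le _).mpr ?_)
      · have hsub : H ≤ Subgroup.closure (gperm '' {c | c ∈ prev ++ [g]}) := by
          rw [hcl]
          exact Subgroup.closure_mono (Set.image_mono fun c hc' => List.mem_append_left _ hc')
        have hgin : γ ∈ Subgroup.closure (gperm '' {c | c ∈ prev ++ [g]}) :=
          Subgroup.subset_closure ⟨g, List.mem_append_right _ (List.mem_singleton.mpr rfl), rfl⟩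
        rintro x (hx | hx)
        · exact hsub hx
        · have := mul_mem (hsub hx) hgin
          rwa [inv_mul_cancel_right] at this
      · rintro _ ⟨c, hc', rfl⟩
        rcases List.mem_append.mp hc' with h' | h'
        · refine Or.inl ?_
          rw [hcl]
          exact Subgroup.subset_closure ⟨c, h', rfl⟩
        · rw [List.mem_singleton.mp h']
          exact Or.inr (by rw [mul_inv_cancel]; exact one_mem H)
    have hKc : Nat.card ↥K = (L ++ L.map fun h => cm h g).length := by
      have hsplit : (K : Set (Equiv.Perm GolayPt)) = (H : Set _) ∪ (fun x => x * γ) '' (H : Set _) := by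
        ext x
        constructor
        · rintro (hx | hx)
          · exact Or.inl hx
          · exact Or.inr ⟨x * γ⁻¹, hx, inv_mul_cancel_right x γ⟩
        · rintro (hx | ⟨y, hy, rfl⟩)
          · exact Or.inl hx
          · exact Or.inr (by rw [mul_inv_cancel_right]; exact hy)
      have hdisj : Disjoint (H : Set (Equiv.Perm GolayPt)) ((fun x => x * γ) '' (H : Set _)) := by
        rw [Set.disjoint_left]
        rintro _ hx ⟨y, hy, rfl⟩
        exact hγH (by simpa using mul_mem (inv_mem hy) hx)
      rw [← SetLike.coe_sort_coe, Nat.card_coe_set_eq, hsplit, Set.ncard_union_eq hdisj,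
        Set.ncard_image_of_injective _ (mul_left_injective γ), List.length_append, List.length_map,
        ← Nat.card_coe_set_eq, SetLike.coe_sort_coe, hc]
    obtain ⟨K', h1, h2, h3, h4⟩ := pcOk_spec gs W (prev ++ [g]) (L ++ L.map fun h => cm h g) K hrest
      (fun x hx => hg x (List.mem_cons_of_mem _ hx)) hKM
      (fun c hc' => by
        rcases List.mem_append.mp hc' with h' | h'
        · exact hL c h'
        · obtain ⟨d, hd, rfl⟩ := List.mem_map.mp h'
          exact ok_cm (hL d hd) hgok)
      hKset
      (fun c hc' => by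
        rcases List.mem_append.mp hc' with h' | h'
        · exact hprev c h'
        · rw [List.mem_singleton.mp h']; exact hgok)
      hKcl hKc
    refine ⟨K', h1, by simpa [pcExpand] using h2, ?_, by simpa [pcExpand] using h4⟩
    rw [h3, List.length_append, List.length_map, List.length_cons, pow_succ]
    ring

/-- A subgroup of order 1024 of `M24` whose involutions are in `invC`. -/
theorem exists_sylow : ∃ P : Subgroup (Equiv.Perm GolayPt), P ≤ M24 ∧ Nat.card ↥P = 1024 ∧
    ∀ x ∈ P, x * x = 1 → x ≠ 1 → ∃ c ∈ Data.invC, gperm c = x := by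
  have h := pc_ok
  simp only [Bool.and_eq_true, List.all_eq_true] at h
  obtain ⟨P, hP, hset, hc, hok⟩ := pcOk_spec Data.pcL Data.pcW [] [oneCode] ⊥ h.1 h.2 bot_le
    (by simp [okCode_oneCode]) (by simp [gperm_oneCode]) (by simp) (by simp)
    (by simp)
  refine ⟨P, hP, by rw [hc]; rfl, fun x hx h2 h1 => ?_⟩
  rw [← SetLike.mem_coe, hset] at hx
  obtain ⟨c, hc', rfl⟩ := hx
  have hi := pc_invol
  simp only [List.all_eq_true, Bool.or_eq_true, Bool.not_eq_true', ← Bool.not_eq_true, Nat.beq_eq,
    memN, List.any_eq_true] at hi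
  have hcok := hok c hc'
  rcases hi c hc' with (h' | h') | ⟨d, hd, he⟩
  · refine absurd ?_ h'
    have h3 : gperm (cm c c) = gperm oneCode := by rw [gperm_cm hcok hcok, h2, gperm_oneCode]
    have h4 := cm_one_congr (ok_cm hcok hcok) okCode_oneCode h3
    have hone : cm oneCode oneCode = oneCode := by decide +kernel
    rwa [hone, cm_cm_one hcok hcok] at h4
  · exact absurd (by rw [h', gperm_oneCode]) h1
  · exact ⟨d, hd, by rw [he]⟩

end Cfsg.Agent.Lib.J4Ten
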