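import Cfsg.Agent.Lib.J4Ten.ChecksProd
import Cfsg.Agent.Lib.J4Ten.ChecksSearch
import Cfsg.Agent.Lib.J4Ten.ChecksStd
import Cfsg.Agent.Lib.J4Ten.Sylow
import Cfsg.Agent.Lib.J4Ten.Fix
import Cfsg.Agent.Lib.Golay.Stabilizers

/-!
# The elementary subgroups of the Sylow subgroup with fixed space making `2^10`
-/

set_option autoImplicit false

namespace Cfsg.Agent.Lib.J4Ten

open Cfsg Cfsg.Agent.Lib.Computation Cfsg.Agent.Lib.Golay Cfsg.Agent.Lib.J4Big.Cocode

/-- The code of an involution. -/
def inv' (i : ℕ) : ℕ := Data.invC.getD i 0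

theorem inv_nodup : (Data.invC.Nodup ∧ ∀ c ∈ Data.invC, cm c oneCode = c) ∧
    Data.invC.length = 191 ∧ Data.prodT.length = 191 ∧ Data.witT.length = 191 ∧
      Data.fmT.length = 191 := by
  decide +kernel

theorem inv'_mem {i : ℕ} (hi : i < 191) : inv' i ∈ Data.invC := by
  rw [inv', List.getD_eq_getElem _ _ (by rw [inv_nodup.2.1]; exact hi)]
  exact List.getElem_mem _

theorem inv'_ok {i : ℕ} (hi : i < 191) :
    okCode (inv' i) = true ∧ gperm (inv' i) * gperm (inv' i) = 1 := by
  have h := inv_ok
  simp only [List.all_eq_true, Bool.and_eq_true, Nat.beq_eq] at h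
  obtain ⟨h1, h2⟩ := h _ (inv'_mem hi)
  exact ⟨h1, by rw [← gperm_cm h1 h1, h2, gperm_oneCode]⟩

theorem inv'_inj {i j : ℕ} (hi : i < 191) (hj : j < 191) (h : gperm (inv' i) = gperm (inv' j)) :
    i = j := by
  have h' := cm_one_congr (inv'_ok hi).1 (inv'_ok hj).1 h
  rw [inv_nodup.1.2 _ (inv'_mem hi), inv_nodup.1.2 _ (inv'_mem hj)] at h'
  have hi' : i < Data.invC.length := by rw [inv_nodup.2.1]; exact hi
  have hj' : j < Data.invC.length := by rw [inv_nodup.2.1]; exact hj
  rw [inv', inv', List.getD_eq_getElem _ _ hi', List.getD_eq_getElem _ _ hj'] at h'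
  exact inv_nodup.1.1.getElem_inj_iff.mp h'

theorem bit_eq (m k : ℕ) : bit m k = m.testBit k := by
  rw [Bool.eq_iff_iff, bit, Nat.beq_eq, Nat.testBit_eq_decide_div_mod_eq, decide_eq_true_eq,
    ← Nat.and_one_is_mod, ← Nat.shiftRight_eq_div_pow]
  rfl

/-- A correct row. -/
def Valid (x : Row) : Prop :=
  x.1 < 191 ∧ x.2.2 = fixC (inv' x.1) ∧
    ∃ wr, ∀ j < 191, entryOk (inv' x.1) x.2.1 wr x.1 (j, inv' j) = true

theorem valid_rows : ∀ x ∈ rowsL, Valid x := by
  intro x hx
  obtain ⟨k, hk, rfl⟩ := List.getElem_of_mem hx
  simp only [rowsL, List.length_zip, List.length_range, inv_nodup.2.2.1, inv_nodup.2.2.2.2,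
    min_self] at hk
  have hkc : k < Data.invC.length := by rw [inv_nodup.2.1]; exact hk
  have hkp : k < Data.prodT.length := by rw [inv_nodup.2.2.1]; exact hk
  have hkw : k < Data.witT.length := by rw [inv_nodup.2.2.2.1]; exact hk
  have hkf : k < Data.fmT.length := by rw [inv_nodup.2.2.2.2]; exact hk
  simp only [rowsL, List.getElem_zip, List.getElem_range]
  refine ⟨hk, ?_, Data.witT[k], fun j hj => ?_⟩
  · have h := fm_ok
    simp only [List.all_eq_true, Nat.beq_eq] at h
    have hm : (Data.invC[k], Data.fmT[k]) ∈ Data.invC.zip Data.fmT := by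
      have hz : k < (Data.invC.zip Data.fmT).length := by simp only [List.length_zip]; omega
      have := List.getElem_mem hz
      rwa [List.getElem_zip] at this
    rw [inv', List.getD_eq_getElem _ _ hkc]
    exact (h _ hm).symm
  · have hjc : j < Data.invC.length := by rw [inv_nodup.2.1]; exact hj
    have h := prod_ok
    simp only [List.all_eq_true] at h
    have hm : (k, Data.invC[k], Data.prodT[k], Data.witT[k]) ∈
        (List.range 191).zip (Data.invC.zip (Data.prodT.zip Data.witT)) := by
      have hz : k < ((List.range 191).zip (Data.invC.zip (Data.prodT.zip Data.witT))).length := by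
        simp only [List.length_zip, List.length_range]; omega
      exact List.mem_iff_getElem.mpr ⟨k, hz, by simp only [List.getElem_zip, List.getElem_range]; rfl⟩
    have hm' : (j, Data.invC[j]) ∈ (List.range 191).zip Data.invC := by
      have hz : j < ((List.range 191).zip Data.invC).length := by
        simp only [List.length_zip, List.length_range]; omega
      exact List.mem_iff_getElem.mpr ⟨j, hz, by simp only [List.getElem_zip, List.getElem_range]⟩
    rw [inv', inv', List.getD_eq_getElem _ _ hkc, List.getD_eq_getElem _ _ hjc]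
    exact h _ hm _ hm'

theorem pc_inv_ne {x : ℕ} (hx : x < 191) : inv' x ≠ oneCode := by
  intro h
  have h1 : oneCode ∉ Data.invC := by decide +kernel
  exact h1 (h ▸ inv'_mem hx)

theorem rows_fst : rowsL.map Prod.fst = List.range 191 := by
  rw [rowsL, List.map_fst_zip]
  simp only [List.length_zip, List.length_range, inv_nodup.2.2.1, inv_nodup.2.2.2.2, min_self,
    le_refl]

theorem testBit_rowMask : ∀ {l : List Row} {a : ℕ},
    (rowMask l).testBit a = true ↔ a ∈ l.map Prod.fst
  | [], a => by simp [rowMask]
  | b :: l, a => by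
    simp only [rowMask, Nat.testBit_or, Bool.or_eq_true, Nat.testBit_two_pow, decide_eq_true_eq,
      testBit_rowMask, List.map_cons, List.mem_cons]
    exact or_congr_left eq_comm

/-- The octad group. -/
theorem rC_spec {i : ℕ} (hi : i < 16) : okCode (rC i) = true ∧ gperm (rC i) ∈ M24 ∧
    ∀ p ∈ setOfMask Data.oMask, gperm (rC i) p = p := by
  have h := oct_ok
  simp only [Bool.and_eq_true, List.all_eq_true, List.mem_range, Bool.or_eq_true, Nat.beq_eq,
    Bool.not_eq_true', ← Bool.not_eq_true] at h
  obtain ⟨⟨⟨hM, hfix⟩, -⟩, -⟩ := h.2 i hi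
  have hok := okCode_of_inM24 hM
  refine ⟨hok, gperm_mem_M24 hM, fun p hp => idx_injective ?_⟩
  rw [idx_gperm hok]
  exact (hfix (idx p) (idx_lt p)).resolve_left fun h' => h' (mem_setOfMask.mp hp)

theorem oct_mem : setOfMask Data.oMask ∈ octads := by
  have h := oct_ok
  simp only [Bool.and_eq_true, Nat.beq_eq] at h
  exact ⟨setOfMask_mem_supports h.1.1.1.1.2, by rw [card_setOfMask]; exact h.1.1.1.2⟩

theorem rpos_octadFix {k : ℕ} (hk : k ∈ Data.rPos) :
    gperm (inv' k) ∈ octadFix (setOfMask Data.oMask) := by
  have h := rpos_ok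
  simp only [List.all_eq_true, memN_iff] at h
  obtain ⟨i, hi, he⟩ := List.getElem_of_mem (h k hk)
  have h' := oct_ok
  simp only [Bool.and_eq_true, Nat.beq_eq] at h'
  have hi16 : i < 16 := by rw [← h'.1.1.1.1.1.1]; exact hi
  have e : inv' k = rC i := by rw [inv', ← he, rC, List.getD_eq_getElem _ _ hi]
  rw [e]
  exact mem_octadFix.mpr ⟨(rC_spec hi16).2.1, (rC_spec hi16).2.2⟩

section spec

variable {U : Subgroup (Equiv.Perm GolayPt)} {Fx : Equiv.Perm GolayPt → ℕ → Prop} {F : Set ℕ}

theorem search_step
    (hU : ∀ u ∈ U, u * u = 1) (hcov : ∀ u ∈ U, u ≠ 1 → ∃ i < 191, gperm (inv' i) = u)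
    (hFx : ∀ i < 191, gperm (inv' i) ∈ U → ∀ v < 2048,
      (Fx (gperm (inv' i)) v ↔ actC (inv' i) v = v))
    (h1 : ∀ v, Fx 1 v)
    (hmul : ∀ σ ∈ U, ∀ τ ∈ U, ∀ v, Fx σ v → Fx τ v → Fx (σ * τ) v)
    (hcard : Nat.card ↥U * {v | v < 2048 ∧ ∀ u ∈ U, Fx u v}.ncard = 1024) :
    ∀ (n : ℕ) (span : List ℕ) (fx r : ℕ) (cand : List Row), go n span fx r cand = true →
      (∀ k ∈ span, k < 191 ∧ gperm (inv' k) ∈ U) →
      (∀ x ∈ cand, Valid x) → (cand.map Prod.fst).Nodup → (∀ x ∈ cand, x.1 ∉ span) →
      (∀ H : Set (Equiv.Perm GolayPt), H = insert 1 ((fun k => gperm (inv' k)) '' {k | k ∈ span}) →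
        H.ncard = 2 ^ r ∧ ∀ a ∈ H, ∀ b ∈ H, a * b ∈ H) →
      (∀ v, fx.testBit v = true ↔ v < 2048 ∧ ∀ k ∈ span, Fx (gperm (inv' k)) v) →
      (∀ i < 191, gperm (inv' i) ∈ U → i ∈ span ∨ i ∈ cand.map Prod.fst) →
      U = octadFix (setOfMask Data.oMask)
  | 0, span, fx, r, cand, h, _, _, _, _, _, _, _ => by simp [go] at h
  | n + 1, span, fx, r, cand, h, hspan, hval, hnd, hdis, hH, hfx, hcv => by
    classical
    rw [go, Bool.and_eq_true] at h
    obtain ⟨hnode, hstep⟩ := h
    obtain ⟨hHc, hHm⟩ := hH _ rfl
    set H : Set (Equiv.Perm GolayPt) := insert 1 ((fun k => gperm (inv' k)) '' {k | k ∈ span}) with hHd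
    have hHU : H ⊆ (U : Set _) := by
      rintro _ (rfl | ⟨k, hk, rfl⟩)
      · exact one_mem U
      · exact (hspan k hk).2
    by_cases hterm : ∀ i < 191, gperm (inv' i) ∈ U → i ∈ span
    · have hUH : (U : Set _) = H := by
        refine Set.Subset.antisymm (fun u hu => ?_) hHU
        by_cases hu1 : u = 1
        · exact Or.inl hu1
        obtain ⟨i, hi, rfl⟩ := hcov u hu hu1
        exact Or.inr ⟨i, hterm i hi hu, rfl⟩
      have hUc : Nat.card ↥U = 2 ^ r := by
        rw [← SetLike.coe_sort_coe, Nat.card_coe_set_eq, hUH, hHc]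
      have hfix : {v | v < 2048 ∧ ∀ u ∈ U, Fx u v} = (below fx 2048 : Set ℕ) := by
        ext v
        simp only [below, Finset.coe_filter, Finset.mem_range, Set.mem_ofPred_eq, hfx]
        constructor
        · exact fun ⟨hv, h⟩ => ⟨hv, hv, fun k hk => h _ (hspan k hk).2⟩
        · rintro ⟨hv, -, h⟩
          refine ⟨hv, fun u hu => ?_⟩
          rcases (Set.ext_iff.mp hUH u).mp hu with rfl | ⟨k, hk, rfl⟩
          · exact h1 v
          · exact h k hk
      have hact : ∀ v < 2048, ∀ k ∈ span, (Fx (gperm (inv' k)) v ↔ actC (inv' k) v = v) :=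
        fun v hv k hk => hFx k (hspan k hk).1 (hspan k hk).2 v hv
      have h0 : fx.testBit 0 = true := (hfx 0).mpr ⟨by norm_num, fun k hk =>
        (hact 0 (by norm_num) k hk).mpr (combine_zero _)⟩
      have hxor : ∀ a b, fx.testBit a = true → fx.testBit b = true →
          fx.testBit (a ^^^ b) = true := by
        intro a b ha hb
        obtain ⟨ha', ha⟩ := (hfx a).mp ha
        obtain ⟨hb', hb⟩ := (hfx b).mp hb
        have hab := Nat.xor_lt_two_pow (n := 11) ha' hb'
        refine (hfx _).mpr ⟨hab, fun k hk => (hact _ hab k hk).mpr ?_⟩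
        rw [actC_xor, (hact a ha' k hk).mp (ha k hk), (hact b hb' k hk).mp (hb k hk)]
      rw [hfix, Set.ncard_coe_finset, hUc, card_below_dim h0 hxor, ← pow_add] at hcard
      have hd : dimM fx + r = 10 := by
        have := Nat.pow_right_injective (le_refl 2) (hcard.trans (by norm_num : 1024 = 2 ^ 10))
        omega
      simp only [nodeOk, hd, Nat.beq_refl, Bool.not_true, Bool.false_or, Bool.and_eq_true,
        Nat.beq_eq, List.all_eq_true, memN_iff] at hnode
      refine Subgroup.eq_of_le_of_card_ge (fun u hu => ?_) ?_
      · rcases (Set.ext_iff.mp hUH u).mp hu with rfl | ⟨k, hk, rfl⟩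
        · exact one_mem _
        · exact rpos_octadFix (hnode.2 k hk)
      · rw [(octadFix_spec oct_mem).1, hUc, hnode.1]
        norm_num
    push Not at hterm
    obtain ⟨i, hi, hiU, hisp⟩ := hterm
    have hicand : i ∈ cand.map Prod.fst := (hcv i hi hiU).resolve_left hisp
    -- walk along the candidates up to the first one in `U`
    have walk : ∀ (l : List Row) (m : ℕ), step (go n) span fx r l m = true → l.Sublist cand →
        (∀ a, m.testBit a = true ↔ a ∈ l.map Prod.fst) →
        (∀ j < 191, gperm (inv' j) ∈ U → j ∈ span ∨ j ∈ l.map Prod.fst) →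
        U = octadFix (setOfMask Data.oMask) := by
      intro l
      induction l with
      | nil =>
        intro m _ _ _ hc
        rcases hc i hi hiU with h | h
        · exact absurd h hisp
        · simp at h
      | cons x rest ih =>
        intro m hs hsub hm hc
        rw [step, Bool.and_eq_true] at hs
        obtain ⟨hin, hout⟩ := hs
        have hndl : ((x :: rest).map Prod.fst).Nodup := (hsub.map Prod.fst).nodup hnd
        rw [List.map_cons, List.nodup_cons] at hndl
        have hm' : ∀ a, (m ^^^ 2 ^ x.1).testBit a = true ↔ a ∈ rest.map Prod.fst := by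
          intro a
          rw [Nat.testBit_xor, Nat.testBit_two_pow]
          by_cases hax : x.1 = a
          · subst hax
            have := (hm x.1).mpr (by simp)
            simp [this, hndl.1]
          · simp only [hax, decide_false, Bool.bne_false, hm, List.map_cons, List.mem_cons,
              Ne.symm hax, false_or]
        have hxm : x ∈ cand := hsub.subset List.mem_cons_self
        obtain ⟨hx191, hxfm, wr, hent⟩ := hval x hxm
        by_cases hxU : gperm (inv' x.1) ∈ U
        · set γ := gperm (inv' x.1) with hγ
          have hxs : x.1 ∉ span := hdis x hxm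
          have hγ1 : γ * γ = 1 := (inv'_ok hx191).2
          -- products with members of `U`
          have hprod : ∀ k < 191, gperm (inv' k) ∈ U → k ≠ x.1 →
              getW 8 x.2.1 k < 191 ∧ gperm (inv' (getW 8 x.2.1 k)) = γ * gperm (inv' k) := by
            intro k hk hkU hkx
            have he := hent k hk
            have hb : Nat.beq k x.1 = false := by rw [← Bool.not_eq_true, Nat.beq_eq]; exact hkx
            simp only [entryOk, hb, cond_false] at he
            cases hw : Nat.beq (getW 8 x.2.1 k) 255 <;> rw [hw] at he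
            · simp only [cond_false, Bool.and_eq_true, Nat.blt, Nat.ble_eq, Nat.beq_eq] at he
              refine ⟨he.1, ?_⟩
              rw [hγ, ← gperm_cm (inv'_ok hx191).1 (inv'_ok hk).1, he.2]
              rfl
            · exfalso
              simp only [cond_true, Bool.and_eq_true, Nat.blt, Nat.ble_eq, Bool.not_eq_true',
                ← Bool.not_eq_true, Nat.beq_eq] at he
              obtain ⟨hq, hne⟩ := he
              refine hne ?_
              set β := gperm (inv' k) with hβ
              have hcomm : γ * β = β * γ := by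
                have := hU _ (mul_mem hxU hkU)
                rw [← inv_eq_of_mul_eq_one_right this, mul_inv_rev,
                  inv_eq_of_mul_eq_one_right hγ1, inv_eq_of_mul_eq_one_right (hU _ hkU)]
              have h2 := congrArg (fun σ : Equiv.Perm GolayPt => idx (σ (pt (getW 5 wr k)))) hcomm
              simpa [hγ, hβ, idx_gperm (inv'_ok hx191).1, idx_gperm (inv'_ok hk).1,
                idx_pt hq] using h2
          have hγH : γ ∉ H := by
            rintro (h | ⟨k, hk, h⟩)
            · have hok := (inv'_ok hx191).1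
              have hh := cm_one_congr hok okCode_oneCode (h.trans gperm_oneCode.symm)
              rw [inv_nodup.1.2 _ (inv'_mem hx191)] at hh
              have := pc_inv_ne (x := x.1) hx191
              exact this (by rw [hh]; decide +kernel)
            · exact hxs (inv'_inj (hspan k hk).1 hx191 h ▸ hk)
          set prods := span.map fun k => getW 8 x.2.1 k with hprods
          have hpr : ∀ k' ∈ prods, k' < 191 ∧ gperm (inv' k') ∈ U ∧ k' ∉ span ∧ k' ≠ x.1 := by
            intro k' hk'
            obtain ⟨k, hk, rfl⟩ := List.mem_map.mp hk'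
            have hkx : k ≠ x.1 := fun h => hxs (h ▸ hk)
            obtain ⟨h191, he⟩ := hprod k (hspan k hk).1 (hspan k hk).2 hkx
            have hkH : gperm (inv' k) ∈ H := Or.inr ⟨k, hk, rfl⟩
            refine ⟨h191, he ▸ mul_mem hxU (hspan k hk).2, fun h => hγH ?_, fun h => ?_⟩
            · have hh : γ * gperm (inv' k) ∈ H := by
                rw [← he]; exact Or.inr ⟨_, h, rfl⟩
              have := hHm _ hh _ hkH
              rwa [mul_assoc, (inv'_ok (hspan k hk).1).2, mul_one] at this
            · rw [h, ← hγ] at he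
              have h1' : gperm (inv' k) = 1 := mul_eq_left.mp he.symm
              have hok := (inv'_ok (hspan k hk).1).1
              have hh := cm_one_congr hok okCode_oneCode (h1'.trans gperm_oneCode.symm)
              rw [inv_nodup.1.2 _ (inv'_mem (hspan k hk).1)] at hh
              exact pc_inv_ne (hspan k hk).1 (by rw [hh]; decide +kernel)
          have hall : (prods.all fun k => (m ^^^ 2 ^ x.1).testBit k) = true := by
            refine List.all_eq_true.mpr fun k' hk' => (hm' k').mpr ?_
            obtain ⟨a, b, c, d⟩ := hpr k' hk'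
            rcases hc k' a b with h | h
            · exact absurd h c
            · simpa [d] using h
          simp only [child, ← hprods] at hin
          rw [show (prods.all fun k => bit (m ^^^ 2 ^ x.1) k) = true by simpa only [bit_eq] using hall, cond_true] at hin
          refine search_step hU hcov hFx h1 hmul hcard n _ _ _ _ hin ?_ ?_ ?_ ?_ ?_ ?_ ?_
          · intro k hk
            rcases List.mem_append.mp hk with h | h
            · exact hspan k h
            rcases List.mem_cons.mp h with rfl | h
            · exact ⟨hx191, hxU⟩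
            · exact ⟨(hpr k h).1, (hpr k h).2.1⟩
          · exact fun y hy => hval y (hsub.subset (List.mem_cons_of_mem _ (List.mem_filter.mp hy).1))
          · exact ((List.filter_sublist.trans (List.sublist_cons_self x rest)).trans hsub |>.map
              Prod.fst).nodup hnd
          · intro y hy hmem
            obtain ⟨hy1, hy2⟩ := List.mem_filter.mp hy
            simp only [Bool.and_eq_true, Bool.not_eq_true', ← Bool.not_eq_true, bit_eq, testBit_idMask] at hy2
            rcases List.mem_append.mp hmem with h | h
            · exact hdis y (hsub.subset (List.mem_cons_of_mem _ hy1)) h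
            · exact hy2.2 h
          · intro H' hH'
            have e : H' = H ∪ (γ * ·) '' H := by
              rw [hH', hHd]
              ext u
              simp only [Set.mem_insert_iff, Set.mem_image, Set.mem_ofPred_eq, List.mem_append,
                List.mem_cons, Set.mem_union]
              constructor
              · rintro (rfl | ⟨k, (hk | rfl | hk), rfl⟩)
                · exact Or.inl (Or.inl rfl)
                · exact Or.inl (Or.inr ⟨k, hk, rfl⟩)
                · exact Or.inr ⟨1, Or.inl rfl, mul_one _⟩
                · obtain ⟨k0, hk0, rfl⟩ := List.mem_map.mp hk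
                  exact Or.inr ⟨_, Or.inr ⟨k0, hk0, rfl⟩,
                    (hprod k0 (hspan k0 hk0).1 (hspan k0 hk0).2 fun h => hxs (h ▸ hk0)).2.symm⟩
              · rintro ((rfl | ⟨k, hk, rfl⟩) | ⟨w, (rfl | ⟨k, hk, rfl⟩), rfl⟩)
                · exact Or.inl rfl
                · exact Or.inr ⟨k, Or.inl hk, rfl⟩
                · exact Or.inr ⟨x.1, Or.inr (Or.inl rfl), (mul_one _).symm⟩
                · exact Or.inr ⟨_, Or.inr (Or.inr (List.mem_map.mpr ⟨k, hk, rfl⟩)),
                    (hprod k (hspan k hk).1 (hspan k hk).2 fun h => hxs (h ▸ hk)).2⟩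
            have hcommH : ∀ a ∈ H, a * γ = γ * a := fun a ha => by
              have := hU _ (mul_mem hxU (hHU ha))
              rw [← inv_eq_of_mul_eq_one_right this, mul_inv_rev,
                inv_eq_of_mul_eq_one_right hγ1, inv_eq_of_mul_eq_one_right (hU _ (hHU ha))]
            have hd : Disjoint H ((γ * ·) '' H) := by
              rw [Set.disjoint_left]
              rintro _ hu ⟨w, hw, rfl⟩
              have := hHm _ hu _ hw
              rw [mul_assoc, hU _ (hHU hw), mul_one] at this
              exact hγH this
            refine ⟨?_, ?_⟩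
            · rw [e, Set.ncard_union_eq hd, Set.ncard_image_of_injective _ (mul_right_injective γ),
                hHc, pow_succ]
              omega
            · rw [e]
              rintro a (ha | ⟨a, ha, rfl⟩) b (hb | ⟨b, hb, rfl⟩)
              · exact Or.inl (hHm a ha b hb)
              · exact Or.inr ⟨a * b, hHm a ha b hb, by
                  show γ * (a * b) = a * (γ * b)
                  rw [← mul_assoc, ← hcommH a ha, mul_assoc]⟩
              · exact Or.inr ⟨a * b, hHm a ha b hb, (mul_assoc _ _ _).symm⟩
              · refine Or.inl ?_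
                show γ * a * (γ * b) ∈ H
                rw [show γ * a * (γ * b) = γ * (a * γ) * b by group, hcommH a ha, ← mul_assoc γ, hγ1,
                  one_mul]
                exact hHm a ha b hb
          · intro v
            rw [Nat.testBit_and, Bool.and_eq_true, hfx, hxfm, testBit_fixC]
            constructor
            · rintro ⟨⟨hv, hh⟩, -, hx'⟩
              have hγv : Fx γ v := (hFx x.1 hx191 hxU v hv).mpr hx'
              refine ⟨hv, fun k hk => ?_⟩
              rcases List.mem_append.mp hk with h | h
              · exact hh k h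
              rcases List.mem_cons.mp h with rfl | h
              · exact hγv
              · obtain ⟨k0, hk0, rfl⟩ := List.mem_map.mp h
                rw [(hprod k0 (hspan k0 hk0).1 (hspan k0 hk0).2 fun h => hxs (h ▸ hk0)).2]
                exact hmul _ hxU _ (hspan k0 hk0).2 v hγv (hh k0 hk0)
            · rintro ⟨hv, hh⟩
              exact ⟨⟨hv, fun k hk => hh k (List.mem_append_left _ hk)⟩, hv,
                (hFx x.1 hx191 hxU v hv).mp (hh x.1 (List.mem_append_right _ List.mem_cons_self))⟩
          · intro j hj hjU
            by_cases hjm : j ∈ span ++ x.1 :: prods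
            · exact Or.inl hjm
            refine Or.inr ?_
            rcases hc j hj hjU with h | h
            · exact absurd (List.mem_append_left _ h) hjm
            rcases List.mem_cons.mp h with rfl | h
            · exact absurd (List.mem_append_right _ List.mem_cons_self) hjm
            obtain ⟨y, hy, rfl⟩ := List.mem_map.mp h
            refine List.mem_map.mpr ⟨y, List.mem_filter.mpr ⟨hy, ?_⟩, rfl⟩
            have hyx : y.1 ≠ x.1 := fun e => hjm (e ▸ List.mem_append_right _ List.mem_cons_self)
            obtain ⟨h191, -⟩ := hprod y.1 hj hjU hyx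
            simp only [Bool.and_eq_true, Bool.not_eq_true', ← Bool.not_eq_true, Nat.beq_eq, bit_eq,
              testBit_idMask]
            exact ⟨by omega, fun hh => hjm (List.mem_append_right _ hh)⟩
        · refine ih _ hout ((List.sublist_cons_self x rest).trans hsub) hm' fun j hj hjU => ?_
          rcases hc j hj hjU with h | h
          · exact Or.inl h
          rcases List.mem_cons.mp h with rfl | h
          · exact absurd hjU hxU
          · exact Or.inr h
    exact walk cand _ hstep (List.Sublist.refl _) (fun a => testBit_rowMask) hcv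

end spec

theorem step_of_children (f : List ℕ → ℕ → ℕ → List Row → Bool) (span : List ℕ) (fx r : ℕ) :
    ∀ (l : List Row) (m : ℕ), (l.map Prod.fst).Nodup → m = rowMask l →
      (∀ x rest, (x :: rest) <:+ l → child f span fx r x rest (rowMask rest) = true) →
      step f span fx r l m = true
  | [], _, _, _, _ => rfl
  | x :: rest, m, hnd, hm, h => by
    rw [List.map_cons, List.nodup_cons] at hnd
    have hm' : m ^^^ 2 ^ x.1 = rowMask rest := by
      refine Nat.eq_of_testBit_eq fun a => ?_
      rw [Nat.testBit_xor, Nat.testBit_two_pow, hm, Bool.eq_iff_iff, testBit_rowMask]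
      by_cases hax : x.1 = a
      · subst hax
        have := (testBit_rowMask (l := x :: rest) (a := x.1)).mpr (by simp)
        simp [this, hnd.1]
      · simp only [hax, decide_false, Bool.bne_false, testBit_rowMask, List.map_cons, List.mem_cons,
          Ne.symm hax, false_or]
    rw [step, hm', h x rest (List.suffix_refl _),
      step_of_children f span fx r rest _ hnd.2 rfl fun y t ht =>
        h y t (ht.trans (List.suffix_cons x rest))]
    rfl

theorem go_rows : go 8 [] full 0 rowsL = true := by
  rw [go, root_ok, Bool.true_and]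
  refine step_of_children _ _ _ _ rowsL _ (rows_fst ▸ List.nodup_range) rfl fun x rest hsuf => ?_
  obtain ⟨t, ht⟩ := hsuf
  have hlen : rowsL.length = 191 := by
    simpa using congrArg List.length rows_fst
  have hlt : t.length < 191 := by
    rw [← hlen, ← ht, List.length_append, List.length_cons]
    omega
  have h := childAt_ok hlt
  rwa [childAt, show rowsL.drop t.length = x :: rest by rw [← ht, List.drop_left]] at h

/-- An elementary subgroup of the Sylow subgroup whose order and number of fixed vectors multiply
to 1024 is the pointwise stabiliser of the octad. -/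
theorem eq_octadFix {U : Subgroup (Equiv.Perm GolayPt)} {Fx : Equiv.Perm GolayPt → ℕ → Prop}
    (hU : ∀ u ∈ U, u * u = 1) (hcov : ∀ u ∈ U, u ≠ 1 → ∃ c ∈ Data.invC, gperm c = u)
    (hFx : ∀ c, okCode c = true → gperm c ∈ U → ∀ v < 2048, (Fx (gperm c) v ↔ actC c v = v))
    (h1 : ∀ v, Fx 1 v)
    (hmul : ∀ σ ∈ U, ∀ τ ∈ U, ∀ v, Fx σ v → Fx τ v → Fx (σ * τ) v)
    (hcard : Nat.card ↥U * {v | v < 2048 ∧ ∀ u ∈ U, Fx u v}.ncard = 1024) :
    U = octadFix (setOfMask Data.oMask) := by
  have hcov' : ∀ u ∈ U, u ≠ 1 → ∃ i < 191, gperm (inv' i) = u := by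
    intro u hu hu1
    obtain ⟨c, hc, rfl⟩ := hcov u hu hu1
    obtain ⟨i, hi, rfl⟩ := List.getElem_of_mem hc
    exact ⟨i, inv_nodup.2.1 ▸ hi, by rw [inv', List.getD_eq_getElem _ _ hi]⟩
  refine search_step hU hcov' (fun i hi h v hv => hFx _ (inv'_ok hi).1 h v hv) h1 hmul hcard 8 [] full 0
    rowsL go_rows (by simp) valid_rows (rows_fst ▸ List.nodup_range) (by simp) ?_ ?_ ?_
  · rintro H rfl
    simp
  · intro v
    simp [testBit_full]
  · intro i hi _
    exact Or.inr (by rw [rows_fst]; exact List.mem_range.mpr hi)

end Cfsg.Agent.Lib.J4Ten
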