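import Cfsg.Agent.Lib.J4Big.Cocode.Hom
import Cfsg.Agent.Lib.J4Ten.Search
import Cfsg.Prelude.Def_JankoFourType

/-!
# The model of `2^11 : M24` inside a group and the standard `2^10`

`Model z` records what is used of a group of Janko-four type: an elementary `V` of order `2^11`
with coordinates, a complement in its normaliser acting as the group of the code, the centralisers
of the 276 lying in the normaliser, and the uniqueness of such a subgroup in a Sylow 2-subgroup.
-/

set_option autoImplicit false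
set_option linter.unusedSectionVars false

namespace Cfsg.Agent.Lib.J4Ten

open Cfsg Cfsg.Agent.Lib.Computation Cfsg.Agent.Lib.Golay Cfsg.Agent.Lib.J4Big.Cocode

variable {G : Type*} [Group G]

/-- The involutions of `V` not conjugate to `z`. -/
def duadSet (z : G) (V : Subgroup G) : Set G := {v | v ∈ V ∧ v ≠ 1 ∧ ¬ IsConj z v}

/-- Conjugation as a homomorphism. -/
abbrev cj (g : G) : G →* G := (MulAut.conj g).toMonoidHom

theorem cj_apply (g x : G) : cj g x = g * x * g⁻¹ := rfl

theorem map_cj_map (S : Subgroup G) (g h : G) : (S.map (cj h)).map (cj g) = S.map (cj (g * h)) := by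
  rw [Subgroup.map_map]
  congr 1
  ext x
  simp [cj, mul_assoc]

theorem map_cj_one (S : Subgroup G) : S.map (cj (1 : G)) = S := by
  conv_rhs => rw [← Subgroup.map_id S]
  congr 1
  ext x
  simp [cj]

/-- The data of `2^11 : M24`. -/
structure Model (z : G) where
  /-- The elementary abelian subgroup of order `2^11`. -/
  V : Subgroup G
  /-- Its coordinates. -/
  ψ : ℕ → G
  frame : IsFrame V (duadSet z V) ψ
  /-- A complement in the normaliser. -/
  lift : ↥Cfsg.M24 →* G
  lift_mem : ∀ σ, lift σ ∈ Subgroup.normalizer (V : Set G)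
  lift_rel : ∀ σ, Rel ψ (lift σ) (σ : Equiv.Perm GolayPt)
  decomp : ∀ n ∈ Subgroup.normalizer (V : Set G), ∃ σ, (lift σ)⁻¹ * n ∈ V
  cz_le : ∀ t ∈ duadSet z V, Subgroup.centralizer ({t} : Set G) ≤ Subgroup.normalizer (V : Set G)
  unique : ∀ T : Sylow 2 G, ∃! W : Subgroup G,
    W ≤ (T : Subgroup G) ∧ Cfsg.IsElementaryAbelian 2 W ∧ Nat.card ↥W = 2 ^ 11

theorem isConj_conj {a h v : G} : IsConj a (h * v * h⁻¹) ↔ IsConj a v :=
  ⟨fun h' => h'.trans (isConj_iff.mpr ⟨h⁻¹, by group⟩),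
    fun h' => h'.trans (isConj_iff.mpr ⟨h, rfl⟩)⟩

theorem split64 {k i : ℕ} (hk : k < 64) : (k + 64 * i) % 64 = k ∧ (k + 64 * i) / 64 = i := by omega

theorem xor_mod64 (a b : ℕ) : (a ^^^ b) % 64 = a % 64 ^^^ b % 64 :=
  Nat.xor_mod_two_pow (n := 6)

theorem xor_div64 (a b : ℕ) : (a ^^^ b) / 64 = a / 64 ^^^ b / 64 := by
  refine Nat.eq_of_testBit_eq fun i => ?_
  simp only [Nat.testBit_xor, show (64 : ℕ) = 2 ^ 6 from rfl, Nat.testBit_div_two_pow]

theorem cV_zero : cV 0 = 0 := combine_zero _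

theorem cV_xor (a b : ℕ) : cV (a ^^^ b) = cV a ^^^ cV b := combine_xor _ a b

theorem cV_lt (k : ℕ) : cV k < 2048 := by
  refine combine_lt (fun x hx => ?_) k
  have h := cB_ok
  simp only [Bool.and_eq_true, List.all_eq_true, Nat.blt, Nat.ble_eq] at h
  exact h.1.1.2 x hx

theorem cV_inj_zero {k : ℕ} (hk : k < 64) (h : cV k = 0) : k = 0 := by
  have h' := cB_ok
  simp only [Bool.and_eq_true, List.all_eq_true, List.mem_range, Bool.or_eq_true, Nat.beq_eq,
    Bool.not_eq_true', ← Bool.not_eq_true] at h'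
  exact (h'.2 k hk).resolve_right fun h'' => h'' h

theorem combine_fixed (c : ℕ) : ∀ {l : List ℕ}, (∀ b ∈ l, actC c b = b) →
    ∀ k, actC c (combine l k) = combine l k
  | [], _, k => combine_zero _
  | r :: l, h, k => by
    rw [combine, actC_xor, combine_fixed c (fun b hb => h b (List.mem_cons_of_mem _ hb)) (k / 2)]
    congr 1
    split
    · exact h r List.mem_cons_self
    · exact combine_zero _

theorem rC_fix_cV {i : ℕ} (hi : i < 16) (k : ℕ) : actC (rC i) (cV k) = cV k := by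
  refine combine_fixed _ (fun b hb => ?_) k
  have h := cB_ok
  simp only [Bool.and_eq_true, List.all_eq_true, List.mem_range, Nat.beq_eq] at h
  exact h.1.2 i hi b hb

theorem testBit_cMask_cV {k : ℕ} : cMask.testBit (cV k) = true := by
  have key : ∀ l : List ℕ, (∀ b ∈ l, b ∈ spanL Data.cB) →
      (∀ a ∈ spanL Data.cB, ∀ b ∈ spanL Data.cB, a ^^^ b ∈ spanL Data.cB) →
      ∀ k, combine l k ∈ spanL Data.cB := by
    intro l
    induction l with
    | nil => intro _ _ k; show (0 : ℕ) ∈ _; decide +kernel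
    | cons r l ih =>
      intro h hx k
      rw [combine]
      refine hx _ ?_ _ (ih (fun b hb => h b (List.mem_cons_of_mem _ hb)) hx _)
      split
      · exact h r List.mem_cons_self
      · decide +kernel
  rw [cMask, testBit_idMask]
  exact key _ (by decide +kernel) (by decide +kernel) k

theorem cMask_exists {v : ℕ} (h : cMask.testBit v = true) : ∃ k < 64, cV k = v := by
  rw [cMask, testBit_idMask] at h
  refine spanL_induction (Q := fun v => ∃ k < 64, cV k = v) ⟨0, by norm_num, cV_zero⟩ ?_ ?_ v h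
  · rintro _ _ ⟨k, hk, rfl⟩ ⟨l, hl, rfl⟩
    exact ⟨k ^^^ l, Nat.xor_lt_two_pow (n := 6) hk hl, cV_xor k l⟩
  · decide +kernel

theorem duo_oct : ∀ i < 24, ∀ j < 24, i ≠ j →
    cMask.testBit (duo i j) = (Data.oMask.testBit i && Data.oMask.testBit j) := by
  decide +kernel

/-- The octad. -/
def oct : Finset GolayPt := setOfMask Data.oMask

theorem duo_idx (a b : GolayPt) : duo (idx a) (idx b) = piV a ^^^ piV b := rfl

/-- The element of the octad group with given coordinates, in the group of the code. -/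
noncomputable def rM (i : ℕ) : ↥Cfsg.M24 :=
  if h : i < 16 then ⟨gperm (rC i), (rC_spec h).2.1⟩ else 1

theorem rM_val {i : ℕ} (hi : i < 16) : (rM i : Equiv.Perm GolayPt) = gperm (rC i) := by
  rw [rM, dif_pos hi]

theorem rM_xor {i j : ℕ} (hi : i < 16) (hj : j < 16) : rM (i ^^^ j) = rM i * rM j := by
  refine Subtype.ext ?_
  rw [Subgroup.coe_mul, rM_val (Nat.xor_lt_two_pow (n := 4) hi hj), rM_val hi, rM_val hj,
    ← gperm_cm (rC_spec hi).1 (rC_spec hj).1]
  have h := oct_ok
  simp only [Bool.and_eq_true, List.all_eq_true, List.mem_range, Nat.beq_eq] at h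
  rw [(h.2 i hi).2 j hj]

theorem rM_zero : rM 0 = 1 := by
  have h := rM_xor (i := 0) (j := 0) (by norm_num) (by norm_num)
  rw [Nat.xor_self] at h
  exact left_eq_mul.mp h

theorem rM_moves {i : ℕ} (hi : i < 16) (h0 : i ≠ 0) :
    (rM i : Equiv.Perm GolayPt) (pt Data.x0) ≠ pt Data.x0 := by
  have h := oct_ok
  simp only [Bool.and_eq_true, List.all_eq_true, List.mem_range, Bool.or_eq_true, Nat.beq_eq,
    Bool.not_eq_true', ← Bool.not_eq_true] at h
  have hne := ((h.2 i hi).1.2).resolve_left h0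
  intro he
  refine hne ?_
  have hx : Data.x0 < 24 := by decide +kernel
  have := congrArg idx he
  rwa [rM_val hi, idx_gperm (rC_spec hi).1, idx_pt hx] at this

theorem rM_inj {i j : ℕ} (hi : i < 16) (hj : j < 16) (h : rM i = rM j) : i = j := by
  by_contra hne
  have hij := Nat.xor_lt_two_pow (n := 4) hi hj
  refine rM_moves hij (fun h0 => hne (by simpa using congrArg (· ^^^ j) h0)) ?_
  rw [rM_xor hi hj, h, ← rM_xor hj hj, Nat.xor_self, rM_zero]
  rfl

theorem rM_mem {i : ℕ} (hi : i < 16) : (rM i : Equiv.Perm GolayPt) ∈ octadFix oct := by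
  rw [rM_val hi]
  exact mem_octadFix.mpr ⟨(rC_spec hi).2.1, (rC_spec hi).2.2⟩

theorem eq_rM {σ : ↥Cfsg.M24} (h : (σ : Equiv.Perm GolayPt) ∈ octadFix oct) :
    ∃ i < 16, rM i = σ := by
  classical
  have hset : (fun i : ℕ => (rM i : Equiv.Perm GolayPt)) '' Set.Iio 16 =
      (octadFix oct : Set (Equiv.Perm GolayPt)) := by
    refine Set.eq_of_subset_of_ncard_le ?_ ?_ (Set.toFinite _)
    · rintro _ ⟨i, hi, rfl⟩
      exact rM_mem hi
    · have hinj : Set.InjOn (fun i : ℕ => (rM i : Equiv.Perm GolayPt)) (Set.Iio 16) :=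
        fun i hi j hj e => rM_inj hi hj (Subtype.ext e)
      rw [hinj.ncard_image, ← Nat.card_coe_set_eq, SetLike.coe_sort_coe, show Nat.card ↥(octadFix oct) = 16 from (octadFix_spec oct_mem).1,
        ← Finset.coe_Iio, Set.ncard_coe_finset, Nat.card_Iio]
  obtain ⟨i, hi, he⟩ := (Set.ext_iff.mp hset _).mpr h
  exact ⟨i, hi, Subtype.ext he⟩

namespace Model

variable {z : G} (M : Model z)

theorem commV {v w : G} (hv : v ∈ M.V) (hw : w ∈ M.V) : v * w = w * v := M.frame.comm hv hw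

theorem psi_inv (a : ℕ) : (M.ψ a)⁻¹ = M.ψ a :=
  inv_eq_of_mul_eq_one_right (M.frame.sq _ (M.frame.mem a))

theorem psi_mul {a b : ℕ} (ha : a < 2048) (hb : b < 2048) : M.ψ a * M.ψ b = M.ψ (a ^^^ b) :=
  (M.frame.mul a b ha hb).symm

theorem psi_eq_one {a : ℕ} (ha : a < 2048) (h : M.ψ a = 1) : a = 0 :=
  M.frame.inj a 0 ha (by norm_num) (h.trans M.frame.psi_zero.symm)

theorem V_le : M.V ≤ Subgroup.normalizer (M.V : Set G) := Subgroup.le_normalizer

theorem rel_of_mem {v : G} (hv : v ∈ M.V) : Rel M.ψ v 1 :=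
  M.frame.rel_one_iff.mpr fun w hw => M.commV hv hw

theorem rel_lift_mul (σ : ↥Cfsg.M24) {v : G} (hv : v ∈ M.V) :
    Rel M.ψ (M.lift σ * v) (σ : Equiv.Perm GolayPt) := by
  have := IsFrame.rel_mul (M.lift_rel σ) (M.rel_of_mem hv)
  rwa [mul_one] at this

theorem decomp_rel {n : G} (hn : n ∈ Subgroup.normalizer (M.V : Set G)) :
    ∃ σ : ↥Cfsg.M24, (M.lift σ)⁻¹ * n ∈ M.V ∧ Rel M.ψ n (σ : Equiv.Perm GolayPt) := by
  obtain ⟨σ, hσ⟩ := M.decomp n hn
  refine ⟨σ, hσ, ?_⟩
  have := M.rel_lift_mul σ hσ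
  rwa [mul_inv_cancel_left] at this

theorem mem_V_of_rel {n : G} (hn : n ∈ Subgroup.normalizer (M.V : Set G)) (h : Rel M.ψ n 1) :
    n ∈ M.V := by
  obtain ⟨σ, hσ, hr⟩ := M.decomp_rel hn
  have h1 : σ = 1 := Subtype.ext (M.frame.rel_unique hr h)
  rwa [h1, map_one, inv_one, one_mul] at hσ

theorem conj_psi {n : G} {c : ℕ} (hc : okCode c = true) (h : Rel M.ψ n (gperm c)) {v : ℕ}
    (hv : v < 2048) : n * M.ψ v * n⁻¹ = M.ψ (actC c v) := by
  have h11 : ∀ i < 11, piV (pt i) = 2 ^ i := by unfold piV; decide +kernel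
  have hlist : ∀ is : List ℕ, (∀ i ∈ is, i < 11) → ∀ m,
      n * M.ψ (combine (is.map fun i => 2 ^ i) m) * n⁻¹ = M.ψ (combine (is.map (colC c)) m) := by
    intro is
    induction is with
    | nil => intro _ m; simp [combine, M.frame.psi_zero]
    | cons i is ih =>
      intro his m
      have hi := his i List.mem_cons_self
      have hlt1 : ∀ x ∈ is.map (fun i => 2 ^ i), x < 2048 := fun x hx => by
        obtain ⟨j, hj, rfl⟩ := List.mem_map.mp hx
        exact lt_of_lt_of_le (Nat.pow_lt_pow_right (by norm_num) (his j (List.mem_cons_of_mem _ hj)))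
          (by norm_num)
      have hlt2 : ∀ x ∈ is.map (colC c), x < 2048 := fun x hx => by
        obtain ⟨j, _, rfl⟩ := List.mem_map.mp hx
        exact colC_lt c j
      have hlt0 : (if m % 2 = 1 then 2 ^ i else 0) < 2048 := by
        split
        · exact lt_of_lt_of_le (Nat.pow_lt_pow_right (by norm_num) hi) (by norm_num)
        · norm_num
      have hlt0' : (if m % 2 = 1 then colC c i else 0) < 2048 := by
        split
        · exact colC_lt c i
        · norm_num
      simp only [List.map_cons, combine]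
      rw [← M.psi_mul hlt0 (combine_lt hlt1 _), ← M.psi_mul hlt0' (combine_lt hlt2 _),
        ← ih (fun j hj => his j (List.mem_cons_of_mem _ hj))]
      have e : n * M.ψ (if m % 2 = 1 then 2 ^ i else 0) * n⁻¹ =
          M.ψ (if m % 2 = 1 then colC c i else 0) := by
        split
        · have h' := h (pt i) none
          rw [M.frame.pt_none, mul_one, Pt, h11 i hi] at h'
          rw [h', Pt, Pt, M.psi_mul (piV_lt _) (piV_lt _)]
          congr 1
          have e1 : piV (gperm c (pt i)) = piL.getD (getW 5 c i) 0 := by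
            rw [piV, idx_gperm hc, idx_pt (by omega)]
          have e2 : piV (gperm c none) = piL.getD (getW 5 c 23) 0 := by
            rw [piV, idx_gperm hc]; rfl
          rw [e1, e2]
          rfl
        · rw [M.frame.psi_zero, mul_one, mul_inv_cancel]
      rw [← e]
      group
  have hb : ∀ v < 2048, combine ((List.range 11).map fun i => 2 ^ i) v = v := by decide +kernel
  have := hlist (List.range 11) (fun i hi => List.mem_range.mp hi) v
  rw [hb v hv] at this
  exact this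

theorem commute_psi_iff {n : G} {c : ℕ} (hc : okCode c = true) (h : Rel M.ψ n (gperm c)) {v : ℕ}
    (hv : v < 2048) : Commute n (M.ψ v) ↔ actC c v = v := by
  constructor
  · intro hcm
    exact M.frame.inj _ _ (actC_lt c v) hv
      ((M.conj_psi hc h hv).symm.trans (mul_inv_eq_iff_eq_mul.mpr hcm.eq))
  · intro he
    exact mul_inv_eq_iff_eq_mul.mp (by rw [M.conj_psi hc h hv, he])

/-! ### the standard `2^10` -/

/-- The lifted octad group. -/
noncomputable def rhat (i : ℕ) : G := M.lift (rM i)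

theorem rel_rhat {i : ℕ} (hi : i < 16) : Rel M.ψ (M.rhat i) (gperm (rC i)) := by
  rw [← rM_val hi]; exact M.lift_rel _

theorem rhat_comm_cV {i : ℕ} (hi : i < 16) (k : ℕ) : Commute (M.rhat i) (M.ψ (cV k)) :=
  (M.commute_psi_iff (rC_spec hi).1 (M.rel_rhat hi) (cV_lt k)).mpr (rC_fix_cV hi k)

/-- The elements of the standard `2^10` in coordinates. -/
noncomputable def chi (a : ℕ) : G := M.ψ (cV (a % 64)) * M.rhat (a / 64)

theorem chi_small {k : ℕ} (hk : k < 64) : M.chi k = M.ψ (cV k) := by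
  rw [chi, Nat.mod_eq_of_lt hk, Nat.div_eq_of_lt hk, rhat, rM_zero, map_one, mul_one]

theorem chi_zero : M.chi 0 = 1 := by rw [M.chi_small (by norm_num), cV_zero, M.frame.psi_zero]

theorem chi_mul {a b : ℕ} (ha : a < 1024) (hb : b < 1024) :
    M.chi (a ^^^ b) = M.chi a * M.chi b := by
  have h1 : a / 64 < 16 := by omega
  have h2 : b / 64 < 16 := by omega
  rw [chi, chi, chi, xor_mod64, xor_div64, cV_xor, ← M.psi_mul (cV_lt _) (cV_lt _), rhat,
    rM_xor h1 h2, map_mul, ← rhat, ← rhat]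
  calc M.ψ (cV (a % 64)) * M.ψ (cV (b % 64)) * (M.rhat (a / 64) * M.rhat (b / 64))
      = M.ψ (cV (a % 64)) * (M.ψ (cV (b % 64)) * M.rhat (a / 64)) * M.rhat (b / 64) := by group
    _ = M.ψ (cV (a % 64)) * (M.rhat (a / 64) * M.ψ (cV (b % 64))) * M.rhat (b / 64) := by
        rw [(M.rhat_comm_cV h1 _).eq]
    _ = _ := by group

theorem chi_sq {a : ℕ} (ha : a < 1024) : M.chi a * M.chi a = 1 := by
  rw [← M.chi_mul ha ha, Nat.xor_self, M.chi_zero]

theorem rel_chi {a : ℕ} (ha : a < 1024) :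
    Rel M.ψ (M.chi a) (rM (a / 64) : Equiv.Perm GolayPt) := by
  have := IsFrame.rel_mul (M.rel_of_mem (M.frame.mem (cV (a % 64)))) (M.lift_rel (rM (a / 64)))
  rwa [one_mul] at this

theorem chi_eq_one {a : ℕ} (ha : a < 1024) (h : M.chi a = 1) : a = 0 := by
  have h1 : a / 64 < 16 := by omega
  have hr := M.rel_chi ha
  rw [h] at hr
  have e := M.frame.rel_unique hr IsFrame.rel_one
  have hi : rM (a / 64) = rM 0 := by rw [rM_zero]; exact Subtype.ext e
  have h64 : a < 64 := by
    have := rM_inj h1 (by norm_num) hi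
    omega
  rw [M.chi_small h64] at h
  exact cV_inj_zero h64 (M.psi_eq_one (cV_lt a) h)

theorem chi_inj {a b : ℕ} (ha : a < 1024) (hb : b < 1024) (h : M.chi a = M.chi b) : a = b := by
  have := M.chi_eq_one (Nat.xor_lt_two_pow (n := 10) ha hb) (by rw [M.chi_mul ha hb, h, M.chi_sq hb])
  simpa using congrArg (· ^^^ b) this

/-- The standard self-centralising `2^10`. -/
noncomputable def stdA : Subgroup G where
  carrier := M.chi '' Set.Iio 1024
  one_mem' := ⟨0, by simp, M.chi_zero⟩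
  mul_mem' := by
    rintro _ _ ⟨a, ha, rfl⟩ ⟨b, hb, rfl⟩
    exact ⟨a ^^^ b, Nat.xor_lt_two_pow (n := 10) ha hb, M.chi_mul ha hb⟩
  inv_mem' := by
    rintro _ ⟨a, ha, rfl⟩
    exact ⟨a, ha, eq_inv_of_mul_eq_one_left (M.chi_sq ha)⟩

theorem chi_mem {a : ℕ} (ha : a < 1024) : M.chi a ∈ M.stdA := ⟨a, ha, rfl⟩

theorem mem_stdA {x : G} : x ∈ M.stdA ↔ ∃ a < 1024, M.chi a = x := Iff.rfl

theorem card_stdA : Nat.card ↥M.stdA = 2 ^ 10 := by
  rw [← SetLike.coe_sort_coe, Nat.card_coe_set_eq]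
  show (M.chi '' Set.Iio 1024).ncard = _
  have hinj : Set.InjOn M.chi (Set.Iio 1024) := fun a ha b hb h => M.chi_inj ha hb h
  rw [hinj.ncard_image, ← Finset.coe_Iio,
    Set.ncard_coe_finset, Nat.card_Iio]
  norm_num

theorem stdA_comm {x y : G} (hx : x ∈ M.stdA) (hy : y ∈ M.stdA) : x * y = y * x := by
  obtain ⟨a, ha, rfl⟩ := M.mem_stdA.mp hx
  obtain ⟨b, hb, rfl⟩ := M.mem_stdA.mp hy
  rw [← M.chi_mul ha hb, ← M.chi_mul hb ha, Nat.xor_comm]

theorem stdA_elementary : Cfsg.IsElementaryAbelian 2 M.stdA :=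
  ⟨⟨⟨fun a b => Subtype.ext (M.stdA_comm a.2 b.2)⟩⟩, fun v hv => by
    obtain ⟨a, ha, rfl⟩ := M.mem_stdA.mp hv
    rw [pow_two, M.chi_sq ha]⟩

theorem psi_mem_stdA {k : ℕ} (hk : k < 64) : M.ψ (cV k) ∈ M.stdA :=
  M.chi_small hk ▸ M.chi_mem (by omega)

theorem psi_mem_stdA_of_mask {v : ℕ} (h : cMask.testBit v = true) : M.ψ v ∈ M.stdA := by
  obtain ⟨k, hk, rfl⟩ := cMask_exists h
  exact M.psi_mem_stdA hk

theorem rhat_mem_stdA {i : ℕ} (hi : i < 16) : M.rhat i ∈ M.stdA := by
  refine ⟨64 * i, show 64 * i < 1024 by omega, ?_⟩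
  rw [chi, show 64 * i % 64 = 0 by omega, show 64 * i / 64 = i by omega, cV_zero, M.frame.psi_zero,
    one_mul]

theorem stdA_le : M.stdA ≤ Subgroup.normalizer (M.V : Set G) := by
  rintro _ ⟨a, -, rfl⟩
  exact mul_mem (M.V_le (M.frame.mem _)) (M.lift_mem _)

theorem chi_mem_V_iff {a : ℕ} (ha : a < 1024) : M.chi a ∈ M.V ↔ a < 64 := by
  refine ⟨fun h => ?_, fun h => M.chi_small h ▸ M.frame.mem _⟩
  have e : rM (a / 64) = rM 0 := by
    rw [rM_zero]
    exact Subtype.ext (M.frame.rel_unique (M.rel_chi ha) (M.rel_of_mem h))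
  have := rM_inj (by omega) (by norm_num) e
  omega

theorem s28_facts {a : ℕ} (ha : a ∈ Data.s28) : a < 64 ∧ dGood.testBit (cV a) = true := by
  have h := small_ok
  simp only [Bool.and_eq_true, List.all_eq_true, Nat.blt, Nat.ble_eq] at h
  exact h.1.1.1 a ha

/-- A member of `V` outside the 276 but inside `stdA` exists, and so does one inside. -/
theorem exists_duad : ∃ a < 64, M.chi a ∈ duadSet z M.V := by
  obtain ⟨a, ha⟩ : ∃ a, a ∈ Data.s28 := ⟨_, List.getElem_mem (show 0 < Data.s28.length by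
    have := lengths_ok
    simp only [Bool.and_eq_true, Nat.beq_eq] at this
    omega)⟩
  obtain ⟨h64, hd⟩ := s28_facts ha
  exact ⟨a, h64, M.chi_small h64 ▸ (M.frame.mem_D _ (cV_lt a)).mpr hd⟩

/-- A permutation fixing every pair inside the octad fixes the octad pointwise. -/
theorem fix_oct {σ : Equiv.Perm GolayPt} (h : ∀ a ∈ oct, ∀ b ∈ oct, a ≠ b →
    (σ a = a ∧ σ b = b) ∨ (σ a = b ∧ σ b = a)) : ∀ a ∈ oct, σ a = a := by
  intro a ha
  have hc : 2 < oct.card := by
    rw [oct, card_setOfMask]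
    decide +kernel
  obtain ⟨b, hb, hba⟩ := Finset.exists_mem_ne (s := oct) (by omega) a
  obtain ⟨c, hc', hca, hcb⟩ : ∃ c ∈ oct, c ≠ a ∧ c ≠ b := by
    by_contra hcon
    push Not at hcon
    have : oct ⊆ {a, b} := fun x hx => by
      simp only [Finset.mem_insert, Finset.mem_singleton]
      by_cases hxa : x = a
      · exact Or.inl hxa
      · exact Or.inr (hcon x hx hxa)
    have := (Finset.card_le_card this).trans (Finset.card_le_two (a := a) (b := b))
    omega
  rcases h a ha b hb hba.symm with ⟨e, -⟩ | ⟨e, -⟩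
  · exact e
  rcases h a ha c hc' hca.symm with ⟨e', -⟩ | ⟨e', -⟩
  · exact e'
  · exact absurd (e'.symm.trans e) hcb

theorem centralizer_stdA : Subgroup.centralizer (M.stdA : Set G) = M.stdA := by
  refine le_antisymm (fun c hc => ?_) fun x hx =>
    Subgroup.mem_centralizer_iff.mpr fun y hy => M.stdA_comm hy hx
  obtain ⟨t, ht, htD⟩ := M.exists_duad
  have hcN : c ∈ Subgroup.normalizer (M.V : Set G) := by
    refine M.cz_le _ htD (Subgroup.mem_centralizer_iff.mpr fun y hy => ?_)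
    rw [Set.mem_singleton_iff.mp hy]
    exact Subgroup.mem_centralizer_iff.mp hc _ (M.chi_mem (by omega))
  obtain ⟨σ, hσ, hr⟩ := M.decomp_rel hcN
  have hσO : ∀ a ∈ oct, (σ : Equiv.Perm GolayPt) a = a := by
    refine fix_oct fun a ha b hb hab => ?_
    have hmem : Pt M.ψ a * Pt M.ψ b ∈ M.stdA := by
      rw [Pt, Pt, M.psi_mul (piV_lt a) (piV_lt b)]
      refine M.psi_mem_stdA_of_mask ?_
      rw [← duo_idx, duo_oct _ (idx_lt a) _ (idx_lt b) fun h => hab (idx_injective h),
        mem_setOfMask.mp ha, mem_setOfMask.mp hb]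
      rfl
    have h := hr a b
    rw [← Subgroup.mem_centralizer_iff.mp hc _ hmem, mul_inv_cancel_right] at h
    exact M.frame.pair_unique ((σ : Equiv.Perm GolayPt).injective.ne hab) hab h.symm
  obtain ⟨i, hi, hie⟩ := eq_rM (σ := σ) (mem_octadFix.mpr ⟨σ.2, hσO⟩)
  rw [← hie] at hσ
  obtain ⟨v, hv, hve⟩ := M.frame.surj _ hσ
  have hfix : ∀ j < 16, actC (rC j) v = v := by
    intro j hj
    refine (M.commute_psi_iff (rC_spec hj).1 (M.rel_rhat hj) hv).mp ?_
    rw [hve]
    refine Commute.mul_right (Commute.inv_right ?_) ?_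
    · exact M.stdA_comm (M.rhat_mem_stdA hj) (M.rhat_mem_stdA hi)
    · exact Subgroup.mem_centralizer_iff.mp hc _ (M.rhat_mem_stdA hj)
  have hmask : cMask.testBit v = true := by
    rw [← Nat.beq_eq.mp fix_R]
    simp only [Nat.testBit_and, Bool.and_eq_true, testBit_fixC]
    exact ⟨⟨⟨⟨hv, hfix 1 (by norm_num)⟩, hv, hfix 2 (by norm_num)⟩, hv, hfix 4 (by norm_num)⟩,
      hv, hfix 8 (by norm_num)⟩
  have : c = M.rhat i * M.ψ v := by rw [hve, rhat, mul_inv_cancel_left]
  rw [this]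
  exact mul_mem (M.rhat_mem_stdA hi) (M.psi_mem_stdA_of_mask hmask)

end Model

end Cfsg.Agent.Lib.J4Ten
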