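import Cfsg.Agent.Lib.J4Ten.Unique
import Cfsg.Agent.Lib.M24Classes.OctadPairs

/-!
# The part of the normaliser of the standard `2^10` inside the normaliser of `V`

It has order `2^10 * 322560`, contains a complement of order 322560 (the stabiliser of the octad,
lifted with the translation by the pair of a fixed outside point and its image), and has the four
orbits of lengths 28, 35, 120, 840 on the non-identity elements.
-/

set_option autoImplicit false
set_option linter.unusedSectionVars false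
set_option maxRecDepth 10000
set_option exponentiation.threshold 4096

namespace Cfsg.Agent.Lib.J4Ten

open Cfsg Cfsg.Agent.Lib.Computation Cfsg.Agent.Lib.Golay Cfsg.Agent.Lib.J4Big.Cocode
open scoped Pointwise

variable {G : Type*} [Group G]

/-- The classes of coordinates. -/
theorem coord_cases {a : ℕ} (ha : a < 1024) (h0 : a ≠ 0) :
    a ∈ Data.s28 ∨ a ∈ Data.s35 ∨ a ∈ Data.s120 ∨ a ∈ Data.s840 := by
  have h := masks_ok
  simp only [Bool.and_eq_true] at h
  have hbit : (2 ^ 1024 - 2 : ℕ).testBit a = true := by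
    have e : (2 ^ 1024 - 2 : ℕ) = 2 ^ 1 * (2 ^ 1023 - 1) := by
      rw [Nat.mul_sub, ← pow_add]
      norm_num
    rw [e, Nat.testBit_two_pow_mul, Nat.testBit_two_pow_sub_one]
    simp only [Bool.and_eq_true, decide_eq_true_eq]
    omega
  have := ((isMask_spec h.1).2 a).mp hbit
  rcases List.mem_append.mp this with h' | h'
  · rcases List.mem_append.mp h' with h' | h'
    · exact (List.mem_append.mp h').imp id Or.inl
    · exact Or.inr (Or.inr (Or.inl h'))
  · exact Or.inr (Or.inr (Or.inr h'))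

theorem s35_facts {a : ℕ} (ha : a ∈ Data.s35) : a < 64 ∧ a ≠ 0 ∧ dGood.testBit (cV a) = false := by
  have h := small_ok
  simp only [Bool.and_eq_true, List.all_eq_true, Nat.blt, Nat.ble_eq, Bool.not_eq_true'] at h
  refine ⟨(h.1.1.2 a ha).1, ?_, (h.1.1.2 a ha).2⟩
  rintro rfl
  have h0 : (0 : ℕ) ∉ Data.s35 := by decide +kernel
  exact h0 ha

theorem big_facts {a : ℕ} (ha : a ∈ Data.s120 ∨ a ∈ Data.s840) : 64 ≤ a ∧ a < 1024 := by
  have h := small_ok
  simp only [Bool.and_eq_true, List.all_eq_true, Nat.blt, Nat.ble_eq] at h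
  exact h.1.2 a (List.mem_append.mpr ha)

theorem coord_lt {a : ℕ} (ha : a ∈ Data.s28 ∨ a ∈ Data.s35 ∨ a ∈ Data.s120 ∨ a ∈ Data.s840) :
    a < 1024 ∧ a ≠ 0 := by
  rcases ha with h | h | h
  · refine ⟨by have := (Model.s28_facts h).1; omega, ?_⟩
    rintro rfl
    have h0 : (0 : ℕ) ∉ Data.s28 := by decide +kernel
    exact h0 h
  · exact ⟨by have := (s35_facts h).1; omega, (s35_facts h).2.1⟩
  · exact ⟨(big_facts h).2, by have := (big_facts h).1; omega⟩

theorem s_card : Data.s28.Nodup ∧ Data.s35.Nodup ∧ Data.s120.Nodup ∧ Data.s840.Nodup ∧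
    Data.s28.length = 28 ∧ Data.s35.length = 35 ∧ Data.s120.length = 120 ∧ Data.s840.length = 840 := by
  have h := masks_ok
  simp only [Bool.and_eq_true] at h
  have hn := (isMask_spec h.1).1
  have hl := lengths_ok
  simp only [Bool.and_eq_true, Nat.beq_eq] at hl
  obtain ⟨h123, h4, -⟩ := List.nodup_append.mp hn
  obtain ⟨h12, h3, -⟩ := List.nodup_append.mp h123
  obtain ⟨h1, h2, -⟩ := List.nodup_append.mp h12
  exact ⟨h1, h2, h3, h4, hl.1.1.1, hl.1.1.2, hl.1.2, hl.2⟩

theorem s_disjoint {a : ℕ} : (a ∈ Data.s28 → a ∉ Data.s35 ∧ a ∉ Data.s120 ∧ a ∉ Data.s840) ∧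
    (a ∈ Data.s35 → a ∉ Data.s120 ∧ a ∉ Data.s840) ∧ (a ∈ Data.s120 → a ∉ Data.s840) := by
  have h := masks_ok
  simp only [Bool.and_eq_true] at h
  have hn := (isMask_spec h.1).1
  rw [List.nodup_append] at hn
  obtain ⟨h123, -, d4⟩ := hn
  rw [List.nodup_append] at h123
  obtain ⟨h12, -, d3⟩ := h123
  obtain ⟨-, -, d2⟩ := List.nodup_append.mp h12
  refine ⟨fun ha => ⟨fun hb => d2 a ha a hb rfl, fun hb => d3 a (List.mem_append_left _ ha) a hb rfl,
    fun hb => d4 a (List.mem_append_left _ (List.mem_append_left _ ha)) a hb rfl⟩, fun ha => ⟨fun hb =>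
    d3 a (List.mem_append_right _ ha) a hb rfl,
    fun hb => d4 a (List.mem_append_left _ (List.mem_append_right _ ha)) a hb rfl⟩,
    fun ha hb => d4 a (List.mem_append_right _ ha) a hb rfl⟩

theorem decM_coord {a : ℕ} : decM.testBit a = true ↔ a ∈ Data.s35 ∨ a ∈ Data.s120 := by
  have h := masks_ok
  simp only [Bool.and_eq_true] at h
  rw [(isMask_spec h.2).2 a, List.mem_append]

/-- Forms below 1024 are sums of the basis forms. -/
theorem combine_basis_ten : ∀ a < 1024, combine ((List.range 10).map fun b => 2 ^ b) a = a := by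
  decide +kernel

/-- The number of members of a mask. -/
theorem card_mask (m : ℕ) {n k : ℕ} (h : ((List.range n).filter fun v => m.testBit v).length = k) :
    Nat.card {v : ℕ // v < n ∧ m.testBit v = true} = k := by
  rw [← h, ← List.toFinset_card_of_nodup ((List.nodup_range (n := n)).filter _),
    ← Nat.card_eq_finsetCard]
  exact Nat.card_congr (Equiv.subtypeEquivRight fun v => by simp)

namespace Model

variable {z : G} (M : Model z)

/-- The part of the normaliser in the normaliser of `V`. -/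
noncomputable def uSub : Subgroup G :=
  Subgroup.normalizer (M.stdA : Set G) ⊓ Subgroup.normalizer (M.V : Set G)

theorem cj_duad_iff {n : G} (hn : n ∈ Subgroup.normalizer (M.V : Set G)) {x : G} :
    cj n x ∈ duadSet z M.V ↔ x ∈ duadSet z M.V := by
  simp only [duadSet, Set.mem_ofPred_eq, cj_apply, ← Subgroup.mem_normalizer_iff.mp hn x,
    ne_eq, conj_eq_one_iff, isConj_conj]

theorem chi_duad_iff {a : ℕ} (ha : a < 1024) : M.chi a ∈ duadSet z M.V ↔ a ∈ Data.s28 := by
  constructor
  · intro h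
    have h64 := (M.chi_mem_V_iff ha).mp h.1
    rw [M.chi_small h64, M.frame.mem_D _ (cV_lt a)] at h
    have h0 : a ≠ 0 := by
      rintro rfl
      rw [cV_zero] at h
      exact absurd h (by decide +kernel)
    rcases coord_cases ha h0 with hc | hc | hc
    · exact hc
    · rw [(s35_facts hc).2.2] at h
      exact absurd h Bool.false_ne_true
    · have := (big_facts hc).1
      omega
  · intro h
    obtain ⟨h64, hd⟩ := s28_facts h
    rw [M.chi_small h64, M.frame.mem_D _ (cV_lt a)]
    exact hd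

theorem isConj_of_s35 {a : ℕ} (ha : a ∈ Data.s35) : IsConj z (M.chi a) := by
  obtain ⟨h64, h0, -⟩ := s35_facts ha
  by_contra hc
  refine (s_disjoint (a := a)).1 ((M.chi_duad_iff (by omega)).mp ⟨?_, ?_, hc⟩) |>.1 ha
  · exact (M.chi_mem_V_iff (by omega)).mpr h64
  · exact fun h => h0 (M.chi_eq_one (by omega) h)

theorem mem_stdA_psi {v : ℕ} (hv : v < 2048) (h : M.ψ v ∈ M.stdA) : cMask.testBit v = true := by
  obtain ⟨a, ha, he⟩ := M.mem_stdA.mp h
  have h64 := (M.chi_mem_V_iff ha).mp (he ▸ M.frame.mem v)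
  rw [M.chi_small h64] at he
  rw [← M.frame.inj _ _ (cV_lt a) hv he]
  exact testBit_cMask_cV

theorem conj_rhat {w : ℕ} (hw : w < 2048) {j : ℕ} (hj : j < 16) :
    cj (M.ψ w) (M.rhat j) = M.ψ (actC (rC j) w ^^^ w) * M.rhat j := by
  have h := M.conj_psi (rC_spec hj).1 (M.rel_rhat hj) hw
  rw [← M.psi_mul (actC_lt _ _) hw, M.commV (M.frame.mem _) (M.frame.mem w), mul_assoc, ← h,
    cj_apply, M.psi_inv]
  group

theorem rhat_xor {i j : ℕ} (hi : i < 16) (hj : j < 16) :
    M.rhat (i ^^^ j) = M.rhat i * M.rhat j := by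
  rw [rhat, rM_xor hi hj, map_mul]; rfl

/-- A homomorphism on the standard group given by its values on the basis. -/
theorem cj_chi_of_basis {n : G} {L : List ℕ} (hL : L.length = 10) (hlt : ∀ x ∈ L, x < 1024)
    (hb : ∀ b < 10, cj n (M.chi (2 ^ b)) = M.chi (L.getD b 0)) :
    ∀ a < 1024, cj n (M.chi a) = M.chi (combine L a) := by
  have key : ∀ (l l' : List ℕ), l.length = l'.length → (∀ x ∈ l, x < 1024) → (∀ x ∈ l', x < 1024) →
      (∀ i < l.length, cj n (M.chi (l.getD i 0)) = M.chi (l'.getD i 0)) → ∀ m,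
      combine l m < 1024 ∧ combine l' m < 1024 ∧ cj n (M.chi (combine l m)) = M.chi (combine l' m) := by
    intro l
    induction l with
    | nil =>
      intro l' he _ _ _ m
      obtain rfl : l' = [] := List.length_eq_zero_iff.mp he.symm
      exact ⟨by simp [combine], by simp [combine], by simp [combine, M.chi_zero]⟩
    | cons r l ih =>
      intro l' he hl hl' h m
      obtain ⟨r', l', rfl⟩ : ∃ r' l'', l' = r' :: l'' := by
        cases l' with
        | nil => simp at he
        | cons a t => exact ⟨a, t, rfl⟩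
      obtain ⟨h1, h2, h3⟩ := ih l' (by simpa using he) (fun x hx => hl x (List.mem_cons_of_mem _ hx))
        (fun x hx => hl' x (List.mem_cons_of_mem _ hx))
        (fun i hi => by simpa using h (i + 1) (by simpa using hi)) (m / 2)
      have hr := hl r List.mem_cons_self
      have hr' := hl' r' List.mem_cons_self
      have hhead : cj n (M.chi r) = M.chi r' := by simpa using h 0 (by simp)
      by_cases hm : m % 2 = 1
      · simp only [combine, hm, if_true]
        refine ⟨Nat.xor_lt_two_pow (n := 10) hr h1, Nat.xor_lt_two_pow (n := 10) hr' h2, ?_⟩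
        rw [M.chi_mul hr h1, map_mul, hhead, h3, M.chi_mul hr' h2]
      · simp only [combine, hm, if_false, Nat.zero_xor]
        exact ⟨h1, h2, h3⟩
  intro a ha
  set B := (List.range 10).map fun b => 2 ^ b with hB
  have := key B L (by simp [hB, hL]) (fun x hx => by
    obtain ⟨b, hb', rfl⟩ := List.mem_map.mp hx
    exact Nat.pow_lt_pow_right (by norm_num) (List.mem_range.mp hb') |>.trans_eq (by norm_num)) hlt
    (fun i hi => by
      have hi' : i < 10 := by simpa [hB] using hi
      rw [show B.getD i 0 = 2 ^ i by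
        rw [List.getD_eq_getElem _ _ hi]; simp [hB]]
      exact hb i hi') a
  rw [combine_basis_ten a ha] at this
  exact this.2.2

variable [Finite G]

theorem mem_normalizer_of_into {n : G} (h : ∀ x ∈ M.stdA, cj n x ∈ M.stdA) :
    n ∈ Subgroup.normalizer (M.stdA : Set G) := by
  refine mem_normalizer_of_map_eq (Subgroup.eq_of_le_of_card_ge ?_ (by rw [card_map_cj]))
  rintro _ ⟨x, hx, rfl⟩
  exact h x hx

theorem psi_normalises_iff {v : ℕ} (hv : v < 2048) :
    M.ψ v ∈ Subgroup.normalizer (M.stdA : Set G) ↔ vTen.testBit v = true := by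
  have hvt : vTen.testBit v = true ↔ ∀ j ∈ [1, 2, 4, 8], cMask.testBit (actC (rC j) v ^^^ v) = true := by
    have h := vten_ok hv
    rw [vtenAt, beq_iff_eq] at h
    rw [h, List.all_eq_true]
  constructor
  · intro hn
    refine hvt.mpr fun j hj => ?_
    have hj16 : j < 16 := by
      simp only [List.mem_cons, List.not_mem_nil, or_false] at hj; omega
    refine M.mem_stdA_psi (Nat.xor_lt_two_pow (n := 11) (actC_lt _ _) hv) ?_
    have h : cj (M.ψ v) (M.rhat j) ∈ M.stdA :=
      (Subgroup.mem_normalizer_iff.mp hn _).mp (M.rhat_mem_stdA hj16)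
    rw [M.conj_rhat hv hj16] at h
    exact (Subgroup.mul_mem_cancel_right _ (M.rhat_mem_stdA hj16)).mp h
  · intro h
    have h' := hvt.mp h
    let S : Subgroup G := M.stdA.comap (cj (M.ψ v))
    have hcV : ∀ k, M.ψ (cV k) ∈ S := fun k => by
      show cj (M.ψ v) (M.ψ (cV k)) ∈ M.stdA
      rw [cj_apply, M.commV (M.frame.mem v) (M.frame.mem _), mul_inv_cancel_right]
      exact M.psi_mem_stdA_of_mask testBit_cMask_cV
    have hr1 : ∀ j ∈ [1, 2, 4, 8], M.rhat j ∈ S := fun j hj => by
      have hj16 : j < 16 := by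
        simp only [List.mem_cons, List.not_mem_nil, or_false] at hj; omega
      show cj (M.ψ v) (M.rhat j) ∈ M.stdA
      rw [M.conj_rhat hv hj16]
      exact mul_mem (M.psi_mem_stdA_of_mask (h' j hj)) (M.rhat_mem_stdA hj16)
    refine M.mem_normalizer_of_into fun x hx => ?_
    obtain ⟨a, ha, rfl⟩ := M.mem_stdA.mp hx
    suffices M.chi a ∈ S from this
    have hall : ∀ i < 16, M.rhat i ∈ S := by
      intro i hi
      have hx' : ∀ p q, p < 16 → q < 16 → M.rhat p ∈ S → M.rhat q ∈ S → M.rhat (p ^^^ q) ∈ S :=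
        fun p q hp hq h1 h2 => by rw [M.rhat_xor hp hq]; exact mul_mem h1 h2
      have h1 := hr1 1 (by simp)
      have h2 := hr1 2 (by simp)
      have h4 := hr1 4 (by simp)
      have h8 := hr1 8 (by simp)
      have h0 : M.rhat 0 ∈ S := by rw [rhat, rM_zero, map_one]; exact one_mem _
      have h3 : M.rhat (1 ^^^ 2) ∈ S := hx' 1 2 (by norm_num) (by norm_num) h1 h2
      have l4 : ∀ p < 4, M.rhat p ∈ S := by
        intro p hp; interval_cases p <;> assumption
      have l8 : ∀ p < 8, M.rhat p ∈ S := by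
        intro p hp
        rcases Nat.lt_or_ge p 4 with hh | hh
        · exact l4 p hh
        · have e : p = (p - 4) ^^^ 4 := by interval_cases p <;> rfl
          rw [e]; exact hx' _ _ (by omega) (by norm_num) (l4 _ (by omega)) h4
      rcases Nat.lt_or_ge i 8 with hh | hh
      · exact l8 i hh
      · have e : i = (i - 8) ^^^ 8 := by interval_cases i <;> rfl
        rw [e]; exact hx' _ _ (by omega) (by norm_num) (l8 _ (by omega)) h8
    exact mul_mem (hcV _) (hall _ (by omega))

theorem psi_mem_uSub {v : ℕ} (hv : v < 2048) (h : vTen.testBit v = true) : M.ψ v ∈ M.uSub :=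
  ⟨(M.psi_normalises_iff hv).mpr h, M.V_le (M.frame.mem v)⟩

/-- The lift of a permutation fixing the octad normalises the standard group. -/
theorem lift_mem_uSub {σ : ↥Cfsg.M24} (hσ : σ • oct = oct) : M.lift σ ∈ M.uSub := by
  refine ⟨M.mem_normalizer_of_into fun x hx => ?_, M.lift_mem σ⟩
  obtain ⟨a, ha, rfl⟩ := M.mem_stdA.mp hx
  have hσ' : (σ : Equiv.Perm GolayPt) • oct = oct := hσ
  have hconj : ∀ i < 16, ∃ j < 16, σ * rM i * σ⁻¹ = rM j := by
    intro i hi
    have hmem : ((σ * rM i * σ⁻¹ : ↥Cfsg.M24) : Equiv.Perm GolayPt) ∈ octadFix oct := by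
      rw [octadFix_conj σ.2 hσ']
      exact ⟨_, rM_mem hi, rfl⟩
    obtain ⟨j, hj, he⟩ := eq_rM hmem
    exact ⟨j, hj, he.symm⟩
  rw [chi, map_mul]
  refine mul_mem ?_ ?_
  · -- the fixed space is preserved
    obtain ⟨v, hv, hve⟩ := M.frame.surj (cj (M.lift σ) (M.ψ (cV (a % 64))))
      ((Subgroup.mem_normalizer_iff.mp (M.lift_mem σ) _).mp (M.frame.mem _))
    rw [← hve]
    refine M.psi_mem_stdA_of_mask ?_
    have hfix : ∀ j < 16, actC (rC j) v = v := by
      intro j hj
      have hmem : ((σ⁻¹ * rM j * σ : ↥Cfsg.M24) : Equiv.Perm GolayPt) ∈ octadFix oct := by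
        have h' : (σ : Equiv.Perm GolayPt)⁻¹ • oct = oct := inv_smul_eq_iff.mpr hσ'.symm
        rw [octadFix_conj (Subgroup.inv_mem _ σ.2) h']
        exact ⟨_, rM_mem hj, by simp [mul_assoc]⟩
      obtain ⟨i, hi, he⟩ := eq_rM hmem
      refine (M.commute_psi_iff (rC_spec hj).1 (M.rel_rhat hj) hv).mp ?_
      have e : rM j = σ * rM i * σ⁻¹ := by rw [he]; group
      have hc := M.rhat_comm_cV hi (a % 64)
      rw [rhat, e, map_mul, map_mul, map_inv, hve, cj_apply]
      exact (Commute.conj_iff (M.lift σ)).mpr hc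
    rw [← Nat.beq_eq.mp fix_R]
    simp only [Nat.testBit_and, Bool.and_eq_true, testBit_fixC]
    exact ⟨⟨⟨⟨hv, hfix 1 (by norm_num)⟩, hv, hfix 2 (by norm_num)⟩, hv, hfix 4 (by norm_num)⟩,
      hv, hfix 8 (by norm_num)⟩
  · obtain ⟨j, hj, he⟩ := hconj (a / 64) (by omega)
    rw [rhat, cj_apply, ← map_inv, ← map_mul, ← map_mul, he]
    exact M.rhat_mem_stdA hj

/-- An element of the part in `N(V)` fixes the octad. -/
theorem image_stab {n : G} (hn : n ∈ M.uSub) {σ : ↥Cfsg.M24}
    (hr : Rel M.ψ n (σ : Equiv.Perm GolayPt)) : σ • oct = oct := by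
  obtain ⟨hnA, hnV⟩ := hn
  show (σ : Equiv.Perm GolayPt) • oct = oct
  refine Finset.eq_of_subset_of_card_le (fun q hq => ?_) (le_of_eq (Finset.card_smul_finset _ _).symm)
  obtain ⟨p, hp, rfl⟩ := Finset.mem_smul_finset.mp hq
  obtain ⟨b, hb, hbp⟩ := Finset.exists_mem_ne (s := oct) (by
    rw [oct, card_setOfMask]; decide +kernel) p
  have hmem : Pt M.ψ p * Pt M.ψ b ∈ M.stdA := by
    rw [Pt, Pt, M.psi_mul (piV_lt p) (piV_lt b)]
    refine M.psi_mem_stdA_of_mask ?_
    rw [← duo_idx, duo_oct _ (idx_lt p) _ (idx_lt b) fun h => hbp (idx_injective h).symm,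
      mem_setOfMask.mp hp, mem_setOfMask.mp hb]
    rfl
  have h1 : Pt M.ψ ((σ : Equiv.Perm GolayPt) p) * Pt M.ψ ((σ : Equiv.Perm GolayPt) b) ∈ M.stdA :=
    hr p b ▸ (Subgroup.mem_normalizer_iff.mp hnA _).mp hmem
  rw [Pt, Pt, M.psi_mul (piV_lt _) (piV_lt _)] at h1
  have h2 := M.mem_stdA_psi (Nat.xor_lt_two_pow (n := 11) (piV_lt _) (piV_lt _)) h1
  rw [← duo_idx, duo_oct _ (idx_lt _) _ (idx_lt _) fun h =>
    hbp ((σ : Equiv.Perm GolayPt).injective (idx_injective h)).symm, Bool.and_eq_true] at h2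
  exact mem_setOfMask.mpr h2.1

theorem card_uSub : Nat.card ↥M.uSub = 1024 * 322560 := by
  classical
  let T := {v : ℕ // v < 2048 ∧ vTen.testBit v = true}
  have hT : Nat.card T = 1024 := card_mask vTen (Nat.beq_eq.mp vten_card)
  let f : ↥(MulAction.stabilizer ↥Cfsg.M24 oct) × T → ↥M.uSub := fun q =>
    ⟨M.lift q.1.1 * M.ψ q.2.1, mul_mem (M.lift_mem_uSub q.1.2) (M.psi_mem_uSub q.2.2.1 q.2.2.2)⟩
  have hf : Function.Bijective f := by
    constructor
    · rintro ⟨σ, v⟩ ⟨τ, w⟩ h
      have h' : M.lift σ.1 * M.ψ v.1 = M.lift τ.1 * M.ψ w.1 := congrArg Subtype.val h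
      have e : (σ.1 : Equiv.Perm GolayPt) = τ.1 := M.frame.rel_unique
        (M.rel_lift_mul σ.1 (M.frame.mem v.1)) (h' ▸ M.rel_lift_mul τ.1 (M.frame.mem w.1))
      have e' : σ = τ := Subtype.ext (Subtype.ext e)
      subst e'
      refine Prod.ext rfl (Subtype.ext (M.frame.inj _ _ ?_ ?_ (mul_left_cancel h')))
      · exact v.2.1
      · exact w.2.1
    · rintro ⟨n, hn⟩
      obtain ⟨σ, hσ, hr⟩ := M.decomp_rel hn.2
      have hs := M.image_stab hn hr
      obtain ⟨v, hv, hve⟩ := M.frame.surj _ hσ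
      have hvt : vTen.testBit v = true := by
        refine (M.psi_normalises_iff hv).mp ?_
        rw [hve]
        exact mul_mem (inv_mem (M.lift_mem_uSub hs).1) hn.1
      exact ⟨(⟨σ, hs⟩, ⟨v, hv, hvt⟩),
        Subtype.ext (by show M.lift σ * M.ψ v = n; rw [hve, mul_inv_cancel_left])⟩
  rw [← Nat.card_eq_of_bijective f hf, Nat.card_prod, hT,
    Cfsg.Agent.Lib.M24Classes.OctadPairs.card_stab_octad (o := oct) oct_mem, mul_comm]

/-- The point outside the octad. -/
def base : GolayPt := pt Data.x0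

/-- The twisted section. -/
noncomputable def twist : ↥Cfsg.M24 →* G where
  toFun σ := Pt M.ψ base * Pt M.ψ ((σ : Equiv.Perm GolayPt) base) * M.lift σ
  map_one' := by
    rw [map_one, mul_one]
    exact M.frame.pt_sq _
  map_mul' σ τ := by
    have h := M.lift_rel σ base ((τ : Equiv.Perm GolayPt) base)
    have hs := M.frame.pt_sq ((σ : Equiv.Perm GolayPt) base)
    have h' : M.lift σ * (Pt M.ψ base * Pt M.ψ ((τ : Equiv.Perm GolayPt) base)) =
        Pt M.ψ ((σ : Equiv.Perm GolayPt) base) *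
          Pt M.ψ ((σ : Equiv.Perm GolayPt) ((τ : Equiv.Perm GolayPt) base)) * M.lift σ :=
      mul_inv_eq_iff_eq_mul.mp h
    rw [Subgroup.coe_mul, Equiv.Perm.mul_apply, map_mul]
    calc Pt M.ψ base * Pt M.ψ ((σ : Equiv.Perm GolayPt) ((τ : Equiv.Perm GolayPt) base)) *
          (M.lift σ * M.lift τ)
        = Pt M.ψ base * (Pt M.ψ ((σ : Equiv.Perm GolayPt) base) *
            Pt M.ψ ((σ : Equiv.Perm GolayPt) base)) *
          Pt M.ψ ((σ : Equiv.Perm GolayPt) ((τ : Equiv.Perm GolayPt) base)) *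
          (M.lift σ * M.lift τ) := by rw [hs, mul_one]
      _ = Pt M.ψ base * Pt M.ψ ((σ : Equiv.Perm GolayPt) base) *
          (Pt M.ψ ((σ : Equiv.Perm GolayPt) base) *
            Pt M.ψ ((σ : Equiv.Perm GolayPt) ((τ : Equiv.Perm GolayPt) base)) * M.lift σ) *
          M.lift τ := by group
      _ = _ := by rw [← h']; group

theorem x0_facts {σ : ↥Cfsg.M24} (hσ : σ • oct = oct) :
    Data.oMask.testBit (idx ((σ : Equiv.Perm GolayPt) base)) = false := by
  rw [Bool.eq_false_iff]
  intro h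
  have hb : base ∈ oct := by
    have hσ' : (σ : Equiv.Perm GolayPt) • oct = oct := hσ
    have : (σ : Equiv.Perm GolayPt) • base ∈ (σ : Equiv.Perm GolayPt) • oct := by
      rw [hσ']; exact mem_setOfMask.mpr h
    exact (Finset.smul_mem_smul_finset_iff _).mp this
  have := mem_setOfMask.mp hb
  rw [base, idx_pt (by decide +kernel : Data.x0 < 24)] at this
  exact absurd this (by decide +kernel)

/-- The complement inside `uSub`. -/
noncomputable def bSub : Subgroup G := (MulAction.stabilizer ↥Cfsg.M24 oct).map M.twist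

theorem bSub_le : M.bSub ≤ M.uSub := by
  rintro _ ⟨σ, hσ, rfl⟩
  show Pt M.ψ base * Pt M.ψ ((σ : Equiv.Perm GolayPt) base) * M.lift σ ∈ M.uSub
  refine mul_mem ?_ (M.lift_mem_uSub hσ)
  rw [Pt, Pt, M.psi_mul (piV_lt _) (piV_lt _)]
  refine M.psi_mem_uSub (Nat.xor_lt_two_pow (n := 11) (piV_lt _) (piV_lt _)) ?_
  have h := x0_ok
  simp only [List.all_eq_true, List.mem_range, Bool.or_eq_true, Bool.and_eq_true] at h
  have h' := (h _ (idx_lt ((σ : Equiv.Perm GolayPt) base))).resolve_left fun h' => by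
    rw [x0_facts hσ] at h'; exact Bool.false_ne_true h'
  rw [← duo_idx, base, idx_pt (by decide +kernel : Data.x0 < 24)]
  exact h'.1

theorem bSub_disjoint {x : G} (hx : x ∈ M.bSub) (hA : x ∈ M.stdA) : x = 1 := by
  obtain ⟨σ, hσ, rfl⟩ := hx
  obtain ⟨a, ha, he⟩ := M.mem_stdA.mp hA
  have hxe : M.twist σ = Pt M.ψ base * Pt M.ψ ((σ : Equiv.Perm GolayPt) base) * M.lift σ := rfl
  have hr : σ = rM (a / 64) := by
    refine Subtype.ext (M.frame.rel_unique ?_ (M.rel_chi ha))
    rw [he, hxe]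
    have := IsFrame.rel_mul (M.rel_of_mem (mul_mem (M.frame.pt_mem base)
      (M.frame.pt_mem ((σ : Equiv.Perm GolayPt) base)))) (M.lift_rel σ)
    rwa [one_mul] at this
  have hps : Pt M.ψ base * Pt M.ψ ((σ : Equiv.Perm GolayPt) base) = M.ψ (cV (a % 64)) := by
    rw [hxe, chi, rhat, ← hr] at he
    exact (mul_right_cancel he).symm
  rw [Pt, Pt, M.psi_mul (piV_lt _) (piV_lt _), ← duo_idx] at hps
  have he' := M.frame.inj _ _ (Nat.xor_lt_two_pow (n := 11) (piV_lt base) (piV_lt _)) (cV_lt _)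
    (by rw [← duo_idx]; exact hps)
  rw [← duo_idx, base, idx_pt (by decide +kernel : Data.x0 < 24)] at he'
  have h := x0_ok
  simp only [List.all_eq_true, List.mem_range, Bool.or_eq_true, Bool.and_eq_true, Nat.beq_eq,
    Bool.not_eq_true'] at h
  have h' := (h _ (idx_lt ((σ : Equiv.Perm GolayPt) base))).resolve_left fun h' => by
    rw [x0_facts hσ] at h'; exact Bool.false_ne_true h'
  rcases h'.2 with h'' | h''
  · have hfix : (σ : Equiv.Perm GolayPt) base = base := idx_injective (by
      rw [h'', base, idx_pt (by decide +kernel : Data.x0 < 24)])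
    have : a / 64 = 0 := by
      by_contra h0
      exact rM_moves (by omega) h0 (hr ▸ hfix)
    rw [hr, this, rM_zero, map_one]
  · rw [base] at h''
    rw [he', testBit_cMask_cV] at h''
    exact absurd h'' (by decide)

theorem card_bSub : Nat.card ↥M.bSub = 322560 := by
  rw [bSub, Subgroup.card_map_of_injective ?_]
  · exact Cfsg.Agent.Lib.M24Classes.OctadPairs.card_stab_octad oct_mem
  intro σ τ h
  refine Subtype.ext (M.frame.rel_unique (n := M.twist σ) ?_ (h ▸ ?_))
  · have := IsFrame.rel_mul (M.rel_of_mem (mul_mem (M.frame.pt_mem base)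
      (M.frame.pt_mem ((σ : Equiv.Perm GolayPt) base)))) (M.lift_rel σ)
    rwa [one_mul] at this
  · have := IsFrame.rel_mul (M.rel_of_mem (mul_mem (M.frame.pt_mem base)
      (M.frame.pt_mem ((τ : Equiv.Perm GolayPt) base)))) (M.lift_rel τ)
    rwa [one_mul] at this

/-! ### the orbits -/

theorem gen_action {L : List ℕ} (hL : L ∈ Data.gCols) :
    ∃ n ∈ M.uSub, ∀ a < 1024, cj n (M.chi a) = M.chi (combine L a) := by
  have h := gens_ok
  simp only [Bool.and_eq_true, List.all_eq_true, Nat.beq_eq] at h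
  obtain ⟨⟨⟨⟨⟨hs, hw⟩, hg⟩, hperm⟩, hpg⟩, htg⟩ := h
  obtain ⟨i, hi, rfl⟩ := List.getElem_of_mem hL
  rw [hg] at hi
  by_cases h2 : i < 2
  · have hz : (Data.sG[i]'(by omega), Data.gCols[i]'(by omega)) ∈ Data.sG.zip Data.gCols :=
      List.mem_iff_getElem.mpr ⟨i, by simp only [List.length_zip]; omega, by rw [List.getElem_zip]⟩
    set g := Data.sG[i]'(by omega) with hgd
    have hgo := hpg _ hz
    simp only [permGenOk, Bool.and_eq_true, List.all_eq_true, List.mem_range, Nat.beq_eq, Nat.blt,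
      Nat.ble_eq] at hgo
    obtain ⟨⟨hlen, hsm⟩, hbig⟩ := hgo
    obtain ⟨hM, hmask⟩ := hperm g (List.getElem_mem _)
    have hok := okCode_of_inM24 hM
    let σ : ↥Cfsg.M24 := ⟨gperm g, gperm_mem_M24 hM⟩
    have hσ : σ • oct = oct := by
      show gperm g • setOfMask Data.oMask = setOfMask Data.oMask
      rw [smul_setOfMask hok, hmask]
    refine ⟨M.lift σ, M.lift_mem_uSub hσ, M.cj_chi_of_basis hlen ?_ ?_⟩
    · intro x hx
      obtain ⟨b, hb, rfl⟩ := List.getElem_of_mem hx
      rw [hlen] at hb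
      rw [← List.getD_eq_getElem _ 0]
      rcases Nat.lt_or_ge b 6 with h6 | h6
      · have := (hsm b h6).1; omega
      · have := (hbig (b - 6) (by omega)).1.1
        rw [show 6 + (b - 6) = b by omega] at this
        omega
    · intro b hb
      rcases Nat.lt_or_ge b 6 with h6 | h6
      · obtain ⟨hlt, he⟩ := hsm b h6
        have hb6 : ∀ j < 6, Data.cB.getD j 0 = cV (2 ^ j) := by decide +kernel
        rw [hb6 b h6] at he
        have hp : 2 ^ b < 64 := lt_of_lt_of_le (Nat.pow_lt_pow_right (by norm_num) h6) (by norm_num)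
        rw [M.chi_small hlt, M.chi_small hp, cj_apply, M.conj_psi hok (M.lift_rel σ) (cV_lt _), he]
      · obtain ⟨⟨hlt, hmod⟩, he⟩ := hbig (b - 6) (by omega)
        rw [show 6 + (b - 6) = b by omega] at hlt hmod he
        set col := (Data.gCols[i]'(by omega)).getD b 0 with hcol
        have hj : 2 ^ (b - 6) < 16 :=
          lt_of_lt_of_le (Nat.pow_lt_pow_right (by norm_num) (show b - 6 < 4 by omega)) (by norm_num)
        have e2 : (2 : ℕ) ^ b = 64 * 2 ^ (b - 6) := by
          rw [show (64 : ℕ) = 2 ^ 6 from rfl, ← pow_add]; congr 1; omega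
        have hc16 : col / 64 < 16 := by omega
        rw [chi, chi, hmod, show 2 ^ b % 64 = 0 by omega, show 2 ^ b / 64 = 2 ^ (b - 6) by omega,
          cV_zero, M.frame.psi_zero, one_mul, one_mul, cj_apply, rhat, rhat, ← map_inv, ← map_mul,
          ← map_mul]
        congr 1
        refine mul_inv_eq_iff_eq_mul.mpr (Subtype.ext ?_)
        rw [Subgroup.coe_mul, Subgroup.coe_mul, rM_val hj, rM_val hc16,
          ← gperm_cm hok (rC_spec hj).1, ← gperm_cm (rC_spec hc16).1 hok, he]
  · have hz : (Data.wB[i - 2]'(by omega), Data.gCols[i]'(by omega)) ∈ Data.wB.zip (Data.gCols.drop 2) :=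
      List.mem_iff_getElem.mpr ⟨i - 2, by simp only [List.length_zip, List.length_drop]; omega, by
        simp only [List.getElem_zip, List.getElem_drop, show 2 + (i - 2) = i by omega]⟩
    set w := Data.wB[i - 2]'(by omega) with hwd
    have hgo := htg _ hz
    simp only [transGenOk, Bool.and_eq_true, List.all_eq_true, List.mem_range, Nat.beq_eq, Nat.blt,
      Nat.ble_eq] at hgo
    obtain ⟨⟨⟨hwlt, hlen⟩, hsm⟩, hbig⟩ := hgo
    have hwt : vTen.testBit w = true := by
      have : ∀ u ∈ Data.wB, vTen.testBit u = true := by decide +kernel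
      exact this w (List.getElem_mem _)
    refine ⟨M.ψ w, M.psi_mem_uSub (by omega) hwt, M.cj_chi_of_basis hlen ?_ ?_⟩
    · intro x hx
      obtain ⟨b, hb, rfl⟩ := List.getElem_of_mem hx
      rw [hlen] at hb
      rw [← List.getD_eq_getElem _ 0]
      rcases Nat.lt_or_ge b 6 with h6 | h6
      · rw [hsm b h6]
        exact lt_of_lt_of_le (Nat.pow_lt_pow_right (by norm_num) h6) (by norm_num)
      · have := (hbig (b - 6) (by omega)).1.1
        rw [show 6 + (b - 6) = b by omega] at this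
        omega
    · intro b hb
      rcases Nat.lt_or_ge b 6 with h6 | h6
      · have hp : 2 ^ b < 64 := lt_of_lt_of_le (Nat.pow_lt_pow_right (by norm_num) h6) (by norm_num)
        rw [hsm b h6, M.chi_small hp, cj_apply, M.commV (M.frame.mem w) (M.frame.mem _),
          mul_inv_cancel_right]
      · obtain ⟨⟨hlt, hdiv⟩, he⟩ := hbig (b - 6) (by omega)
        rw [show 6 + (b - 6) = b by omega] at hlt hdiv he
        set col := (Data.gCols[i]'(by omega)).getD b 0 with hcol
        have hj : 2 ^ (b - 6) < 16 :=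
          lt_of_lt_of_le (Nat.pow_lt_pow_right (by norm_num) (show b - 6 < 4 by omega)) (by norm_num)
        have e2 : (2 : ℕ) ^ b = 64 * 2 ^ (b - 6) := by
          rw [show (64 : ℕ) = 2 ^ 6 from rfl, ← pow_add]; congr 1; omega
        rw [chi, chi, show 2 ^ b % 64 = 0 by omega, show 2 ^ b / 64 = 2 ^ (b - 6) by omega,
          cV_zero, M.frame.psi_zero, one_mul, hdiv, he, M.conj_rhat (by omega) hj]

/-- Every member of a certified list is an image of the first one. -/
theorem orbit_of_cert {s : List ℕ} {P : List (ℕ × ℕ)} (h : orbCert Data.gCols s P = true)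
    (hs : ∀ a ∈ s, a < 1024) {a b : ℕ} (ha : a ∈ s) (hb : b ∈ s) :
    ∃ n ∈ M.uSub, cj n (M.chi a) = M.chi b := by
  obtain ⟨r, ys, rfl⟩ : ∃ r ys, s = r :: ys := by
    cases s with
    | nil => simp at ha
    | cons r ys => exact ⟨r, ys, rfl⟩
  simp only [orbCert, Bool.and_eq_true, Nat.beq_eq] at h
  obtain ⟨h0, hrun⟩ := h
  set pk := pkL (r :: ys)
  have hr := hs r List.mem_cons_self
  have key : ∀ (l : List ℕ) (P : List (ℕ × ℕ)) (pos : ℕ), orbOk Data.gCols pk l P pos = true →
      (∀ y ∈ l, y < 1024) →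
      (∀ j < pos, getW 10 pk j < 1024 ∧ ∃ n ∈ M.uSub, cj n (M.chi r) = M.chi (getW 10 pk j)) →
      ∀ y ∈ l, ∃ n ∈ M.uSub, cj n (M.chi r) = M.chi y := by
    intro l
    induction l with
    | nil => intro P pos _ _ _ y hy; simp at hy
    | cons y l ih =>
      intro P pos h hl hpos
      obtain ⟨q, P, rfl⟩ : ∃ q P', P = q :: P' := by
        cases P with
        | nil => simp [orbOk] at h
        | cons q P' => exact ⟨q, P', rfl⟩
      simp only [orbOk, Bool.and_eq_true, Nat.blt, Nat.ble_eq, Nat.beq_eq] at h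
      obtain ⟨⟨⟨⟨hq, hgi⟩, hy⟩, hc⟩, hrest⟩ := h
      have hy1 : ∃ n ∈ M.uSub, cj n (M.chi r) = M.chi y := by
        obtain ⟨hlt, n, hn, hne⟩ := hpos q.1 hq
        obtain ⟨g, hgU, hga⟩ := M.gen_action (L := Data.gCols.getD q.2 []) (by
          rw [List.getD_eq_getElem _ _ hgi]; exact List.getElem_mem _)
        refine ⟨g * n, mul_mem hgU hn, ?_⟩
        rw [cj_apply] at hne
        rw [← hc, ← hga _ hlt, cj_apply, cj_apply, ← hne]
        group
      intro x hx
      rcases List.mem_cons.mp hx with rfl | hx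
      · exact hy1
      · refine ih P (pos + 1) hrest (fun w hw => hl w (List.mem_cons_of_mem _ hw)) (fun j hj => ?_) x hx
        rcases Nat.lt_succ_iff_lt_or_eq.mp hj with hj' | rfl
        · exact hpos j hj'
        · rw [hy]; exact ⟨hl y List.mem_cons_self, hy1⟩
  have hone : ∃ n ∈ M.uSub, cj n (M.chi r) = M.chi r := ⟨1, one_mem _, by simp [cj]⟩
  have hall : ∀ y ∈ r :: ys, ∃ n ∈ M.uSub, cj n (M.chi r) = M.chi y := by
    intro y hy
    rcases List.mem_cons.mp hy with rfl | hy
    · exact hone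
    · refine key ys P 1 hrun (fun w hw => hs w (List.mem_cons_of_mem _ hw)) (fun j hj => ?_) y hy
      obtain rfl : j = 0 := by omega
      rw [h0]
      exact ⟨hr, hone⟩
  obtain ⟨n, hn, hna⟩ := hall a ha
  obtain ⟨m, hm, hmb⟩ := hall b hb
  refine ⟨m * n⁻¹, mul_mem hm (inv_mem hn), ?_⟩
  rw [← hmb, ← hna, cj_apply, cj_apply, cj_apply]
  group

end Model

end Cfsg.Agent.Lib.J4Ten
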