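import Cfsg.Agent.Lib.J4Ten.ChecksStd
import Cfsg.Agent.Lib.J4Ten.Fix

/-!
# The stabiliser of the rank two alternating forms on five points is `SL(5, 2)`

At most 9999360 linear bijections of the 1024 forms preserve the 155 of rank two (counting the
candidates for the image of each basis vector), and the exterior square gives as many.
-/

set_option autoImplicit false
set_option maxRecDepth 10000
set_option exponentiation.threshold 4096

namespace Cfsg.Agent.Lib.J4Ten

open Cfsg.Agent.Lib.Golay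

/-- The sum of two forms. -/
def xr (a b : Fin 1024) : Fin 1024 :=
  ⟨(a : ℕ) ^^^ (b : ℕ), Nat.xor_lt_two_pow (n := 10) a.2 b.2⟩

/-- The linear bijections preserving the forms of rank two. -/
def formStab : Subgroup (Equiv.Perm (Fin 1024)) where
  carrier := {σ | (∀ a b, σ (xr a b) = xr (σ a) (σ b)) ∧
    ∀ a, decM.testBit (σ a : ℕ) = decM.testBit (a : ℕ)}
  one_mem' := ⟨fun _ _ => rfl, fun _ => rfl⟩
  mul_mem' := by
    intro σ τ hσ hτ
    exact ⟨fun a b => by simp only [Equiv.Perm.mul_apply, hτ.1, hσ.1],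
      fun a => by rw [Equiv.Perm.mul_apply, hσ.2, hτ.2]⟩
  inv_mem' := by
    intro σ hσ
    refine ⟨fun a b => σ.injective ?_, fun a => ?_⟩
    · rw [hσ.1, Equiv.Perm.inv_def, Equiv.apply_symm_apply, Equiv.apply_symm_apply,
        Equiv.apply_symm_apply]
    · rw [← hσ.2 (σ⁻¹ a), Equiv.Perm.inv_def, Equiv.apply_symm_apply]

theorem mem_formStab {σ : Equiv.Perm (Fin 1024)} :
    σ ∈ formStab ↔ (∀ a b, σ (xr a b) = xr (σ a) (σ b)) ∧
      ∀ a, decM.testBit (σ a : ℕ) = decM.testBit (a : ℕ) := Iff.rfl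

/-- The last span of the chain. -/
def spFinal : List ℕ → List ℕ → List ℕ
  | [], sp => sp
  | b :: bs, sp => spFinal bs (sp ++ sp.map fun s => s ^^^ 2 ^ b)

/-- Every new basis vector is outside the span so far. -/
def spFresh : List ℕ → List ℕ → Bool
  | [], _ => true
  | b :: bs, sp => !(idMask sp).testBit (2 ^ b) && spFresh bs (sp ++ sp.map fun s => s ^^^ 2 ^ b)

theorem spFresh_ok : spFresh Data.chainOrd [0] = true := by decide +kernel

theorem spFinal_ok : Nat.beq (idMask (spFinal Data.chainOrd [0])) (2 ^ 1024 - 1) = true ∧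
    Data.chainOrd.all (fun b => Nat.blt b 10) = true := by
  decide +kernel

/-- The stabiliser fixing some members. -/
def fixing (sp : List ℕ) : Set (Equiv.Perm (Fin 1024)) :=
  {σ | σ ∈ formStab ∧ ∀ a : Fin 1024, (a : ℕ) ∈ sp → σ a = a}

theorem ncard_fixing_le : ∀ (bs sp : List ℕ), (∀ b ∈ bs, b < 10) → (∀ s ∈ sp, s < 1024) → spFresh bs sp = true →
    (fixing sp).ncard ≤ chainProd decM bs sp * (fixing (spFinal bs sp)).ncard
  | [], sp, _, _, _ => by simp [chainProd, spFinal]
  | b :: bs, sp, hb, hsp, hfr => by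
    classical
    rw [spFresh, Bool.and_eq_true, Bool.not_eq_true', Bool.eq_false_iff, ne_eq, testBit_idMask] at hfr
    have hb10 : 2 ^ b < 1024 :=
      lt_of_lt_of_le (Nat.pow_lt_pow_right (by norm_num) (hb b List.mem_cons_self)) (by norm_num)
    set e : Fin 1024 := ⟨2 ^ b, hb10⟩ with he
    set sp' := sp ++ sp.map fun s => s ^^^ 2 ^ b with hsp'
    have hsp'lt : ∀ s ∈ sp', s < 1024 := by
      intro s hs
      rcases List.mem_append.mp hs with h | h
      · exact hsp s h
      · obtain ⟨t, ht, rfl⟩ := List.mem_map.mp h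
        exact Nat.xor_lt_two_pow (n := 10) (hsp t ht) hb10
    have ih := ncard_fixing_le bs sp' (fun x hx => hb x (List.mem_cons_of_mem _ hx)) hsp'lt hfr.2
    rw [chainProd, spFinal, ← hsp', mul_assoc]
    refine le_trans ?_ (Nat.mul_le_mul_left _ ih)
    rw [Set.ncard_eq_toFinset_card', Set.ncard_eq_toFinset_card', mul_comm]
    refine le_trans (Finset.card_le_mul_card_image (f := fun σ : Equiv.Perm (Fin 1024) => σ e)
      (fixing sp).toFinset (fixing sp').toFinset.card ?_) (Nat.mul_le_mul_left _ ?_)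
    · intro y hy
      obtain ⟨σ0, hσ0, rfl⟩ := Finset.mem_image.mp hy
      rw [Set.mem_toFinset] at hσ0
      refine Finset.card_le_card_of_injOn (fun σ => σ0⁻¹ * σ) ?_
        (fun x _ y _ h => mul_left_cancel h)
      intro σ hσ
      simp only [Finset.coe_filter, Set.mem_toFinset, Set.mem_ofPred_eq] at hσ
      obtain ⟨⟨hσS, hσf⟩, hσe⟩ := hσ
      rw [Finset.mem_coe, Set.mem_toFinset]
      have hmem := mul_mem (inv_mem hσ0.1) hσS
      refine ⟨hmem, fun a ha => ?_⟩
      have hfix : ∀ c : Fin 1024, (c : ℕ) ∈ sp → (σ0⁻¹ * σ) c = c := fun c hc => by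
        rw [Equiv.Perm.mul_apply, hσf c hc, Equiv.Perm.inv_def, Equiv.symm_apply_eq, hσ0.2 c hc]
      rcases List.mem_append.mp ha with h | h
      · exact hfix a h
      · obtain ⟨s, hs, hsa⟩ := List.mem_map.mp h
        have ha' : a = xr ⟨s, hsp s hs⟩ e := Fin.ext hsa.symm
        have hee : (σ0⁻¹ * σ) e = e := by
          rw [Equiv.Perm.mul_apply, hσe, Equiv.Perm.inv_def, Equiv.symm_apply_apply]
        rw [ha', (mem_formStab.mp hmem).1, hfix _ hs, hee]
    · refine le_trans (Finset.card_le_card_of_injOn (fun y : Fin 1024 => (y : ℕ))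
        (t := (candL decM sp (2 ^ b)).toFinset) ?_ fun x _ y _ h => Fin.ext h)
        (List.toFinset_card_le _)
      intro y hy
      simp only [Finset.coe_image, Set.mem_image, Finset.mem_coe, Set.mem_toFinset] at hy
      obtain ⟨σ, ⟨hσS, hσf⟩, rfl⟩ := hy
      simp only [List.coe_toFinset, Set.mem_ofPred_eq, candL, List.mem_filter, List.mem_range,
        Bool.and_eq_true, Bool.not_eq_true', List.all_eq_true, beq_iff_eq]
      refine ⟨(σ e).2, ?_, fun s hs => ?_⟩
      · rw [Bool.eq_false_iff, ne_eq, testBit_idMask]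
        intro hmem
        have h' := σ.injective (hσf (σ e) hmem)
        rw [h'] at hmem
        exact hfr.1 hmem
      · have h := (mem_formStab.mp hσS).2 (xr ⟨s, hsp s hs⟩ e)
        rw [(mem_formStab.mp hσS).1, hσf _ (show ((⟨s, hsp s hs⟩ : Fin 1024) : ℕ) ∈ sp from hs)] at h
        exact h

theorem card_formStab_le : Nat.card ↥formStab ≤ 9999360 := by
  have hall : fixing [0] = (formStab : Set (Equiv.Perm (Fin 1024))) := by
    ext σ
    refine ⟨fun h => h.1, fun h => ⟨h, fun a ha => ?_⟩⟩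
    have ha0 : a = 0 := Fin.ext (by simpa using ha)
    subst ha0
    have h1 := h.1 0 0
    have e : xr 0 0 = 0 := rfl
    rw [e] at h1
    refine Fin.ext ?_
    have := congrArg Fin.val h1
    simp only [xr, Nat.xor_self] at this
    exact this
  have hfin : fixing (spFinal Data.chainOrd [0]) = {1} := by
    ext σ
    refine ⟨fun h => Equiv.ext fun a => h.2 a ?_, fun h => ?_⟩
    · rw [← testBit_idMask, Nat.beq_eq.mp spFinal_ok.1, Nat.testBit_two_pow_sub_one]
      simp
    · rw [Set.mem_singleton_iff.mp h]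
      exact ⟨one_mem _, fun _ _ => rfl⟩
  have h := ncard_fixing_le Data.chainOrd [0]
    (fun b hb => by
      have := List.all_eq_true.mp spFinal_ok.2 b hb
      simpa [Nat.blt] using this)
    (by simp) spFresh_ok
  rw [hall, hfin, Set.ncard_singleton, mul_one, Nat.beq_eq.mp chain_ok,
    ← Nat.card_coe_set_eq, SetLike.coe_sort_coe] at h
  exact h

/-! ### the exterior square -/

/-- Additivity of the exterior product at one first argument. -/
def addRow (u : ℕ) : Bool :=
  (List.range 32).all fun u' => (List.range 32).all fun v =>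
    Nat.beq (wedgeN (u ^^^ u') v) (wedgeN u v ^^^ wedgeN u' v)

theorem add_part0 : ([0, 1, 2, 3].all addRow) = true := by decide +kernel

theorem add_part1 : ([4, 5, 6, 7].all addRow) = true := by decide +kernel

theorem add_part2 : ([8, 9, 10, 11].all addRow) = true := by decide +kernel

theorem add_part3 : ([12, 13, 14, 15].all addRow) = true := by decide +kernel

theorem add_part4 : ([16, 17, 18, 19].all addRow) = true := by decide +kernel

theorem add_part5 : ([20, 21, 22, 23].all addRow) = true := by decide +kernel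

theorem add_part6 : ([24, 25, 26, 27].all addRow) = true := by decide +kernel

theorem add_part7 : ([28, 29, 30, 31].all addRow) = true := by decide +kernel

theorem wedge_add (u : ℕ) (hu : u < 32) (u' : ℕ) (hu' : u' < 32) (v : ℕ) (hv : v < 32) :
    wedgeN (u ^^^ u') v = wedgeN u v ^^^ wedgeN u' v := by
  have key : addRow u = true := by
    interval_cases u
    · exact List.all_eq_true.mp add_part0 0 (by decide)
    · exact List.all_eq_true.mp add_part0 1 (by decide)
    · exact List.all_eq_true.mp add_part0 2 (by decide)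
    · exact List.all_eq_true.mp add_part0 3 (by decide)
    · exact List.all_eq_true.mp add_part1 4 (by decide)
    · exact List.all_eq_true.mp add_part1 5 (by decide)
    · exact List.all_eq_true.mp add_part1 6 (by decide)
    · exact List.all_eq_true.mp add_part1 7 (by decide)
    · exact List.all_eq_true.mp add_part2 8 (by decide)
    · exact List.all_eq_true.mp add_part2 9 (by decide)
    · exact List.all_eq_true.mp add_part2 10 (by decide)
    · exact List.all_eq_true.mp add_part2 11 (by decide)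
    · exact List.all_eq_true.mp add_part3 12 (by decide)
    · exact List.all_eq_true.mp add_part3 13 (by decide)
    · exact List.all_eq_true.mp add_part3 14 (by decide)
    · exact List.all_eq_true.mp add_part3 15 (by decide)
    · exact List.all_eq_true.mp add_part4 16 (by decide)
    · exact List.all_eq_true.mp add_part4 17 (by decide)
    · exact List.all_eq_true.mp add_part4 18 (by decide)
    · exact List.all_eq_true.mp add_part4 19 (by decide)
    · exact List.all_eq_true.mp add_part5 20 (by decide)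
    · exact List.all_eq_true.mp add_part5 21 (by decide)
    · exact List.all_eq_true.mp add_part5 22 (by decide)
    · exact List.all_eq_true.mp add_part5 23 (by decide)
    · exact List.all_eq_true.mp add_part6 24 (by decide)
    · exact List.all_eq_true.mp add_part6 25 (by decide)
    · exact List.all_eq_true.mp add_part6 26 (by decide)
    · exact List.all_eq_true.mp add_part6 27 (by decide)
    · exact List.all_eq_true.mp add_part7 28 (by decide)
    · exact List.all_eq_true.mp add_part7 29 (by decide)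
    · exact List.all_eq_true.mp add_part7 30 (by decide)
    · exact List.all_eq_true.mp add_part7 31 (by decide)
  simp only [addRow, List.all_eq_true, List.mem_range, Nat.beq_eq] at key
  exact key u' hu' v hv

theorem wedge_swap : ∀ u < 32, ∀ v < 32, wedgeN u v = wedgeN v u ∧ wedgeN u u = 0 ∧
    wedgeN u v < 1024 := by
  decide +kernel

theorem wedge_basis : ∀ i < 5, ∀ j < 5, i < j →
    ∃ b < 10, prs.getD b (0, 0) = (i, j) ∧ wedgeN (2 ^ i) (2 ^ j) = 2 ^ b := by
  decide +kernel

theorem prs_facts : prs.length = 10 ∧ ∀ b < 10, (prs.getD b (0, 0)).1 < (prs.getD b (0, 0)).2 ∧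
    (prs.getD b (0, 0)).2 < 5 ∧ wedgeN (2 ^ (prs.getD b (0, 0)).1) (2 ^ (prs.getD b (0, 0)).2) = 2 ^ b := by
  decide +kernel

/-- The condition on the products equal to a basis form. -/
def detRow (i j : ℕ) : Bool :=
  Nat.beq i j || (List.range 32).all fun a => (List.range 32).all fun b =>
    !Nat.beq (wedgeN a b) (wedgeN (2 ^ i) (2 ^ j)) ||
      (!Nat.beq a 0 && (List.range 5).all fun k => Nat.beq k i || Nat.beq k j || !a.testBit k)

theorem det_row0 : ((List.range 5).all (detRow 0)) = true := by decide +kernel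

theorem det_row1 : ((List.range 5).all (detRow 1)) = true := by decide +kernel

theorem det_row2 : ((List.range 5).all (detRow 2)) = true := by decide +kernel

theorem det_row3 : ((List.range 5).all (detRow 3)) = true := by decide +kernel

theorem det_row4 : ((List.range 5).all (detRow 4)) = true := by decide +kernel

theorem wedge_det {i j a b : ℕ} (hi : i < 5) (hj : j < 5) (hij : i ≠ j) (ha : a < 32) (hb : b < 32)
    (h : wedgeN a b = wedgeN (2 ^ i) (2 ^ j)) :
    a ≠ 0 ∧ ∀ k < 5, k ≠ i → k ≠ j → a.testBit k = false := by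
  have key : detRow i j = true := by
    interval_cases i
    · exact List.all_eq_true.mp det_row0 j (List.mem_range.mpr hj)
    · exact List.all_eq_true.mp det_row1 j (List.mem_range.mpr hj)
    · exact List.all_eq_true.mp det_row2 j (List.mem_range.mpr hj)
    · exact List.all_eq_true.mp det_row3 j (List.mem_range.mpr hj)
    · exact List.all_eq_true.mp det_row4 j (List.mem_range.mpr hj)
  simp only [detRow, Bool.or_eq_true, Nat.beq_eq, List.all_eq_true, List.mem_range,
    Bool.and_eq_true, Bool.not_eq_true', ← Bool.not_eq_true] at key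
  rcases key with h' | h'
  · exact absurd h' hij
  · rcases h' a ha b hb with h'' | ⟨h1, h2⟩
    · exact absurd h h''
    · refine ⟨h1, fun k hk k1 k2 => Bool.eq_false_iff.mpr ?_⟩
      rcases h2 k hk with (e | e) | e
      · exact absurd e k1
      · exact absurd e k2
      · exact e

set_option synthInstance.maxSize 2000 in
theorem eq_pow_of_bits : ∀ i < 5, ∀ a < 32, a ≠ 0 →
    (∀ k < 5, k ≠ i → a.testBit k = false) → a = 2 ^ i := by
  decide +kernel

theorem decM_iff_aux : ∀ a < 1024, decM.testBit a = true ↔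
    a ≠ 0 ∧ a ∈ (List.range 32).flatMap fun u => (List.range 32).map fun v => wedgeN u v := by
  intro a ha
  rw [decM, Nat.testBit_and, Bool.and_eq_true, testBit_idMask]
  have h2 : (2 ^ 1024 - 2 : ℕ).testBit a = true ↔ a ≠ 0 := by
    have e : (2 ^ 1024 - 2 : ℕ) = 2 ^ 1 * (2 ^ 1023 - 1) := by
      rw [Nat.mul_sub, ← pow_add]
      norm_num
    rw [e, Nat.testBit_two_pow_mul, Nat.testBit_two_pow_sub_one]
    simp only [Bool.and_eq_true, decide_eq_true_eq]
    omega
  rw [h2, and_comm]

theorem decM_iff {a : ℕ} (ha : a < 1024) :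
    decM.testBit a = true ↔ a ≠ 0 ∧ ∃ u < 32, ∃ v < 32, wedgeN u v = a := by
  rw [decM_iff_aux a ha]
  simp only [List.mem_flatMap, List.mem_map, List.mem_range]

/-- Additive maps of `32` vectors. -/
def Add5 (f : ℕ → ℕ) : Prop :=
  (∀ u < 32, f u < 32) ∧ ∀ u < 32, ∀ v < 32, f (u ^^^ v) = f u ^^^ f v

/-- The images of the basis forms. -/
def wCols (f : ℕ → ℕ) : List ℕ :=
  prs.map fun q => wedgeN (f (2 ^ q.1)) (f (2 ^ q.2))

/-- An additive map is determined by its values on basis vectors. -/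
theorem combine_of_add {n : ℕ} (f : ℕ → ℕ) (hf : ∀ u < 2 ^ n, ∀ v < 2 ^ n, f (u ^^^ v) = f u ^^^ f v) :
    ∀ (l : List ℕ), (∀ x ∈ l, x < 2 ^ n) → ∀ m, combine l m < 2 ^ n ∧
      f (combine l m) = combine (l.map f) m
  | [], _, m => by
    refine ⟨Nat.two_pow_pos n, ?_⟩
    have h0 := hf 0 (Nat.two_pow_pos n) 0 (Nat.two_pow_pos n)
    rw [Nat.xor_self] at h0
    simpa [combine] using h0.trans (Nat.xor_self _)
  | r :: l, hl, m => by
    obtain ⟨hlt, hval⟩ := combine_of_add f hf l (fun x hx => hl x (List.mem_cons_of_mem _ hx)) (m / 2)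
    have hr : (if m % 2 = 1 then r else 0) < 2 ^ n := by
      split
      · exact hl r List.mem_cons_self
      · exact Nat.two_pow_pos n
    refine ⟨Nat.xor_lt_two_pow hr hlt, ?_⟩
    rw [combine, hf _ hr _ hlt, List.map_cons, combine, hval]
    congr 1
    split
    · rfl
    · have h0 := hf 0 (Nat.two_pow_pos n) 0 (Nat.two_pow_pos n)
      rw [Nat.xor_self] at h0
      exact h0.trans (Nat.xor_self _)

theorem combine_basis5 : ∀ u < 32, combine [1, 2, 4, 8, 16] u = u := by decide +kernel

theorem combine_basis10 : ∀ a < 1024, combine ((List.range 10).map fun b => 2 ^ b) a = a := by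
  decide +kernel

theorem combine_pow : ∀ (l : List ℕ) {b : ℕ}, b < l.length → combine l (2 ^ b) = l.getD b 0
  | [], b, h => by simp at h
  | r :: l, 0, _ => by simp [combine, combine_zero]
  | r :: l, b + 1, h => by
    rw [combine, if_neg (by omega), show 2 ^ (b + 1) / 2 = 2 ^ b by omega,
      combine_pow l (by simpa using h), Nat.zero_xor, List.getD_cons_succ]

theorem wCols_facts {f : ℕ → ℕ} (hf : Add5 f) :
    (wCols f).length = 10 ∧ (∀ x ∈ wCols f, x < 2 ^ 10) ∧
      (∀ a, combine (wCols f) a < 1024) := by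
  have hlt : ∀ x ∈ wCols f, x < 2 ^ 10 := by
    intro x hx
    obtain ⟨q, hq, rfl⟩ := List.mem_map.mp hx
    obtain ⟨b, hb, rfl⟩ := List.getElem_of_mem hq
    have h := prs_facts.2 b (prs_facts.1 ▸ hb)
    rw [List.getD_eq_getElem _ _ hb] at h
    exact (wedge_swap _ (hf.1 _ (lt_of_le_of_lt (Nat.pow_le_pow_right (by norm_num) (show _ ≤ 4 by omega))
      (by norm_num : 2 ^ 4 < 32))) _ (hf.1 _ (lt_of_le_of_lt (Nat.pow_le_pow_right (by norm_num)
        (show _ ≤ 4 by omega)) (by norm_num : 2 ^ 4 < 32)))).2.2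
  refine ⟨by rw [wCols, List.length_map]; exact prs_facts.1, hlt, fun a => ?_⟩
  exact (combine_of_add id (n := 10) (fun _ _ _ _ => rfl) _ hlt a).1

theorem pow_lt_32 {i : ℕ} (hi : i < 5) : 2 ^ i < 32 :=
  Nat.pow_lt_pow_right (by norm_num) hi

/-- The induced map carries exterior products to exterior products. -/
theorem wCols_wedge {f : ℕ → ℕ} (hf : Add5 f) {u v : ℕ} (hu : u < 32) (hv : v < 32) :
    combine (wCols f) (wedgeN u v) = wedgeN (f u) (f v) := by
  set F := fun a => combine (wCols f) a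
  have hbasis : ∀ i < 5, ∀ j < 5, F (wedgeN (2 ^ i) (2 ^ j)) = wedgeN (f (2 ^ i)) (f (2 ^ j)) := by
    have hlt : ∀ i < 5, ∀ j < 5, i < j →
        F (wedgeN (2 ^ i) (2 ^ j)) = wedgeN (f (2 ^ i)) (f (2 ^ j)) := by
      intro i hi j hj hij
      obtain ⟨b, hb, hp, hw⟩ := wedge_basis i hi j hj hij
      have hbl : b < prs.length := by rw [prs_facts.1]; exact hb
      show combine (wCols f) _ = _
      rw [hw, combine_pow _ (by rw [(wCols_facts hf).1]; exact hb), List.getD_eq_getElem _ _
        (by rw [(wCols_facts hf).1]; exact hb)]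
      simp only [wCols, List.getElem_map]
      rw [List.getD_eq_getElem _ _ hbl] at hp
      rw [hp]
    intro i hi j hj
    rcases Nat.lt_trichotomy i j with h | rfl | h
    · exact hlt i hi j hj h
    · rw [(wedge_swap _ (pow_lt_32 hi) _ (pow_lt_32 hi)).2.1,
        (wedge_swap _ (hf.1 _ (pow_lt_32 hi)) _ (hf.1 _ (pow_lt_32 hi))).2.1]
      exact combine_zero _
    · rw [(wedge_swap _ (pow_lt_32 hi) _ (pow_lt_32 hj)).1, hlt j hj i hi h,
        (wedge_swap _ (hf.1 _ (pow_lt_32 hj)) _ (hf.1 _ (pow_lt_32 hi))).1]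
  have hb5 : ∀ x ∈ [1, 2, 4, 8, 16], ∃ i < 5, x = 2 ^ i := by decide
  have l5 : ∀ x ∈ [1, 2, 4, 8, 16], x < 2 ^ 5 := by decide
  have hadd : ∀ g : ℕ → ℕ, ∀ g' : ℕ → ℕ,
      (∀ a < 32, ∀ b < 32, g (a ^^^ b) = g a ^^^ g b) → (∀ a < 32, ∀ b < 32, g' (a ^^^ b) = g' a ^^^ g' b) →
      (∀ i < 5, g (2 ^ i) = g' (2 ^ i)) → ∀ a < 32, g a = g' a := by
    intro g g' hg hg' he a ha
    rw [← combine_basis5 a ha, (combine_of_add (n := 5) g hg _ l5 a).2,
      (combine_of_add (n := 5) g' hg' _ l5 a).2]
    congr 1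
    refine List.map_congr_left fun x hx => ?_
    obtain ⟨i, hi, rfl⟩ := hb5 x hx
    exact he i hi
  refine hadd (fun a => F (wedgeN a v)) (fun a => wedgeN (f a) (f v))
    (fun a ha b hb => ?_) (fun a ha b hb => ?_) (fun i hi => ?_) u hu
  · show F (wedgeN (a ^^^ b) v) = _
    rw [wedge_add a ha b hb v hv]
    exact combine_xor _ _ _
  · show wedgeN (f (a ^^^ b)) (f v) = _
    rw [hf.2 a ha b hb, wedge_add _ (hf.1 a ha) _ (hf.1 b hb) _ (hf.1 v hv)]
  · have hp := pow_lt_32 hi
    refine hadd (fun b => F (wedgeN (2 ^ i) b)) (fun b => wedgeN (f (2 ^ i)) (f b))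
      (fun a ha b hb => ?_) (fun a ha b hb => ?_) (fun j hj => hbasis i hi j hj) v hv
    · have hab := Nat.xor_lt_two_pow (n := 5) ha hb
      show F (wedgeN (2 ^ i) (a ^^^ b)) = _
      rw [(wedge_swap _ hp _ hab).1, wedge_add a ha b hb _ hp, ← (wedge_swap _ hp _ ha).1,
        ← (wedge_swap _ hp _ hb).1]
      exact combine_xor _ _ _
    · show wedgeN (f (2 ^ i)) (f (a ^^^ b)) = _
      have h1 := hf.1 _ hp
      rw [hf.2 a ha b hb, (wedge_swap _ h1 _ (Nat.xor_lt_two_pow (n := 5) (hf.1 a ha) (hf.1 b hb))).1,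
        wedge_add _ (hf.1 a ha) _ (hf.1 b hb) _ h1, ← (wedge_swap _ h1 _ (hf.1 a ha)).1,
        ← (wedge_swap _ h1 _ (hf.1 b hb)).1]

theorem wCols_comp {f g : ℕ → ℕ} (hf : Add5 f) (hg : Add5 g) {a : ℕ} (ha : a < 1024) :
    combine (wCols fun u => f (g u)) a = combine (wCols f) (combine (wCols g) a) := by
  rw [← combine_basis10 a ha]
  set l := (List.range 10).map fun b => 2 ^ b with hl
  have hl10 : ∀ x ∈ l, x < 2 ^ 10 := fun x hx => by
    obtain ⟨b, hb, rfl⟩ := List.mem_map.mp hx
    exact Nat.pow_lt_pow_right (by norm_num) (List.mem_range.mp hb)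
  rw [(combine_of_add (n := 10) (fun c => combine (wCols fun u => f (g u)) c)
      (fun _ _ _ _ => combine_xor _ _ _) l hl10 a).2,
    (combine_of_add (n := 10) (fun c => combine (wCols f) (combine (wCols g) c))
      (fun _ _ _ _ => by rw [combine_xor, combine_xor]) l hl10 a).2]
  congr 1
  refine List.map_congr_left fun x hx => ?_
  obtain ⟨b, hb, rfl⟩ := List.mem_map.mp hx
  rw [List.mem_range] at hb
  obtain ⟨h12, h25, hw⟩ := prs_facts.2 b hb
  have hi := pow_lt_32 (i := (prs.getD b (0, 0)).1) (by omega)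
  have hj := pow_lt_32 h25
  have hfg : Add5 fun u => f (g u) :=
    ⟨fun u hu => hf.1 _ (hg.1 u hu), fun u hu v hv => by
      show f (g (u ^^^ v)) = _
      rw [hg.2 u hu v hv, hf.2 _ (hg.1 u hu) _ (hg.1 v hv)]⟩
  show combine (wCols fun u => f (g u)) (2 ^ b) = combine (wCols f) (combine (wCols g) (2 ^ b))
  rw [← hw, wCols_wedge hfg hi hj, wCols_wedge hg hi hj,
    wCols_wedge hf (hg.1 _ hi) (hg.1 _ hj)]

theorem wCols_id {a : ℕ} (ha : a < 1024) : combine (wCols id) a = a := by
  have e : wCols id = (List.range 10).map fun b => 2 ^ b := by decide +kernel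
  rw [e]; exact combine_basis10 a ha

/-- Coordinates on five-vectors. -/
def encV (x : Fin 5 → ZMod 2) : ℕ :=
  combine [1, 2, 4, 8, 16] ((x 0).val + 2 * (x 1).val + 4 * (x 2).val + 8 * (x 3).val + 16 * (x 4).val)

/-- The vector with given coordinates. -/
def decV (u : ℕ) : Fin 5 → ZMod 2 := fun i => if u.testBit i then 1 else 0

theorem enc_facts : (∀ x : Fin 5 → ZMod 2, encV x < 32 ∧ decV (encV x) = x) ∧
    (∀ u < 32, encV (decV u) = u) ∧
    (∀ x y : Fin 5 → ZMod 2, encV (x + y) = encV x ^^^ encV y) := by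
  decide +kernel

open Matrix in
/-- A matrix as a map of coordinates. -/
def mapV (g : Matrix.SpecialLinearGroup (Fin 5) (ZMod 2)) (u : ℕ) : ℕ :=
  encV ((g : Matrix (Fin 5) (Fin 5) (ZMod 2)) *ᵥ decV u)

theorem decV_xor : ∀ u < 32, ∀ v < 32, decV (u ^^^ v) = decV u + decV v := by decide +kernel

open Matrix in
theorem add5_mapV (g : Matrix.SpecialLinearGroup (Fin 5) (ZMod 2)) : Add5 (mapV g) :=
  ⟨fun u _ => (enc_facts.1 _).1, fun u hu v hv => by
    simp only [mapV, decV_xor u hu v hv, Matrix.mulVec_add, enc_facts.2.2]⟩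

theorem mapV_mul (g h : Matrix.SpecialLinearGroup (Fin 5) (ZMod 2)) :
    mapV (g * h) = fun u => mapV g (mapV h u) := by
  funext u
  simp only [mapV, (enc_facts.1 _).2, Matrix.SpecialLinearGroup.coe_mul, Matrix.mulVec_mulVec]

theorem mapV_one {u : ℕ} (hu : u < 32) : mapV 1 u = u := by
  simp only [mapV, Matrix.SpecialLinearGroup.coe_one, Matrix.one_mulVec, enc_facts.2.1 u hu]

theorem wCols_congr {f g : ℕ → ℕ} (h : ∀ u < 32, f u = g u) : wCols f = wCols g := by
  refine List.map_congr_left fun q hq => ?_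
  obtain ⟨b, hb, rfl⟩ := List.getElem_of_mem hq
  have h' := prs_facts.2 b (prs_facts.1 ▸ hb)
  rw [List.getD_eq_getElem _ _ hb] at h'
  rw [h _ (pow_lt_32 (by omega)), h _ (pow_lt_32 h'.2.1)]

theorem decV_pow : ∀ j : Fin 5, decV (2 ^ (j : ℕ)) = Pi.single j 1 := by decide +kernel

/-- The exterior square of a matrix, as a map of forms. -/
def sqMap (g : Matrix.SpecialLinearGroup (Fin 5) (ZMod 2)) (a : Fin 1024) : Fin 1024 :=
  ⟨combine (wCols (mapV g)) a, (wCols_facts (add5_mapV g)).2.2 a⟩

theorem sqMap_mul (g h : Matrix.SpecialLinearGroup (Fin 5) (ZMod 2)) (a : Fin 1024) :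
    sqMap (g * h) a = sqMap g (sqMap h a) := by
  refine Fin.ext ?_
  show combine (wCols (mapV (g * h))) a = _
  rw [mapV_mul, wCols_comp (add5_mapV g) (add5_mapV h) a.2]
  rfl

theorem sqMap_one (a : Fin 1024) : sqMap 1 a = a := by
  refine Fin.ext ?_
  show combine (wCols (mapV 1)) a = _
  rw [wCols_congr (f := mapV 1) (g := id) (fun u hu => mapV_one hu), wCols_id a.2]

/-- The exterior square as a homomorphism. -/
def sqHom : Matrix.SpecialLinearGroup (Fin 5) (ZMod 2) →* Equiv.Perm (Fin 1024) where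
  toFun g :=
    { toFun := sqMap g
      invFun := sqMap g⁻¹
      left_inv := fun a => by rw [← sqMap_mul, inv_mul_cancel, sqMap_one]
      right_inv := fun a => by rw [← sqMap_mul, mul_inv_cancel, sqMap_one] }
  map_one' := Equiv.ext sqMap_one
  map_mul' g h := Equiv.ext (sqMap_mul g h)

theorem sqHom_mem (g : Matrix.SpecialLinearGroup (Fin 5) (ZMod 2)) : sqHom g ∈ formStab := by
  have hd : ∀ (k : Matrix.SpecialLinearGroup (Fin 5) (ZMod 2)) (a : Fin 1024),
      decM.testBit (a : ℕ) = true → decM.testBit (sqMap k a : ℕ) = true := by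
    intro k a ha
    obtain ⟨ha0, u, hu, v, hv, huv⟩ := (decM_iff a.2).mp ha
    have hf := add5_mapV k
    refine (decM_iff (sqMap k a).2).mpr ⟨fun h => ha0 ?_, _, hf.1 u hu, _, hf.1 v hv, ?_⟩
    · have hz : sqMap k a = 0 := Fin.ext h
      have h1 : sqMap k⁻¹ (sqMap k a) = a := by rw [← sqMap_mul, inv_mul_cancel, sqMap_one]
      rw [hz] at h1
      rw [← h1]
      exact combine_zero _
    · show wedgeN _ _ = combine (wCols (mapV k)) a
      rw [← huv, wCols_wedge hf hu hv]
  refine ⟨fun a b => Fin.ext (combine_xor _ _ _), fun a => Bool.eq_iff_iff.mpr ⟨fun h => ?_, hd g a⟩⟩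
  have h' := hd g⁻¹ _ h
  rwa [show sqMap g⁻¹ (sqHom g a) = a by
    show sqMap g⁻¹ (sqMap g a) = a
    rw [← sqMap_mul, inv_mul_cancel, sqMap_one]] at h'

theorem sqHom_injective : Function.Injective sqHom := by
  rw [injective_iff_map_eq_one]
  intro g hg
  set f := mapV g with hfd
  have hf : Add5 f := add5_mapV g
  have hfix : ∀ i < 5, f (2 ^ i) = 2 ^ i := by
    intro i hi
    have hd : ∀ j < 5, i ≠ j → f (2 ^ i) ≠ 0 ∧
        ∀ k < 5, k ≠ i → k ≠ j → (f (2 ^ i)).testBit k = false := fun j hj hij => by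
      refine wedge_det hi hj hij (hf.1 _ (pow_lt_32 hi)) (hf.1 _ (pow_lt_32 hj)) ?_
      rw [← wCols_wedge hf (pow_lt_32 hi) (pow_lt_32 hj)]
      exact congrArg Fin.val (Equiv.ext_iff.mp hg
        ⟨_, (wedge_swap _ (pow_lt_32 hi) _ (pow_lt_32 hj)).2.2⟩)
    obtain ⟨j, hj, hij⟩ : ∃ j < 5, i ≠ j := ⟨if i = 0 then 1 else 0, by split <;> omega, by split <;> omega⟩
    refine eq_pow_of_bits i hi _ (hf.1 _ (pow_lt_32 hi)) (hd j hj hij).1 fun k hk hki => ?_
    obtain ⟨j', hj', h1, h2⟩ : ∃ j' < 5, i ≠ j' ∧ k ≠ j' :=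
      ⟨if i ≠ 0 ∧ k ≠ 0 then 0 else if i ≠ 1 ∧ k ≠ 1 then 1 else 2,
        by split_ifs <;> omega, by split_ifs <;> omega, by split_ifs <;> omega⟩
    exact (hd j' hj' h1).2 k hk hki h2
  refine Matrix.SpecialLinearGroup.ext _ _ fun i j => ?_
  have hj : f (2 ^ (j : ℕ)) = 2 ^ (j : ℕ) := hfix j j.2
  have h2 : (g : Matrix (Fin 5) (Fin 5) (ZMod 2)).mulVec (decV (2 ^ (j : ℕ))) = decV (2 ^ (j : ℕ)) := by
    rw [hfd] at hj
    exact ((enc_facts.1 _).2).symm.trans (congrArg decV hj)
  have e : decV (2 ^ (j : ℕ)) = Pi.single j 1 := decV_pow j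
  rw [e, Matrix.mulVec_single_one] at h2
  have := congrFun h2 i
  simpa [Matrix.one_apply, Pi.single_apply] using this

end Cfsg.Agent.Lib.J4Ten
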