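import Cfsg.Agent.Lib.J4Ten.Defs

/-!
# The search for elementary subgroups of the Sylow subgroup

The root layer can be split, so that each piece fits in little memory.
-/

set_option autoImplicit false

namespace Cfsg.Agent.Lib.J4Ten

open Cfsg.Agent.Lib.Computation

/-- The digit of a mask. -/
def bit (m k : ℕ) : Bool := Nat.beq (Nat.land (Nat.shiftRight m k) 1) 1

/-- The condition at a node. -/
def nodeOk (span : List ℕ) (fx r : ℕ) : Bool :=
  !Nat.beq (dimM fx + r) 10 || (Nat.beq r 4 && span.all (memN Data.rPos))

/-- The branch containing the entry `x`, with `m'` the mask of the later entries. -/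
def child (f : List ℕ → ℕ → ℕ → List Row → Bool) (span : List ℕ) (fx r : ℕ) (x : Row)
    (rest : List Row) (m' : ℕ) : Bool :=
  let prods := span.map fun k => getW 8 x.2.1 k
  bif prods.all fun k => bit m' k then
    let nm := idMask (x.1 :: prods)
    f (span ++ x.1 :: prods) (fx &&& x.2.2) (r + 1)
      (rest.filter fun y => !Nat.beq (getW 8 x.2.1 y.1) 255 && !bit nm y.1)
  else true

/-- One layer of the search for elementary subgroups. -/
def step (f : List ℕ → ℕ → ℕ → List Row → Bool) (span : List ℕ) (fx r : ℕ) :
    List Row → ℕ → Bool
  | [], _ => true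
  | x :: rest, m =>
    child f span fx r x rest (m ^^^ 2 ^ x.1) && step f span fx r rest (m ^^^ 2 ^ x.1)

/-- The search for elementary subgroups. -/
def go : ℕ → List ℕ → ℕ → ℕ → List Row → Bool
  | 0, _, _, _, _ => false
  | n + 1, span, fx, r, cand => nodeOk span fx r && step (go n) span fx r cand (rowMask cand)

/-- The rows of the search. -/
def rowsL : List Row := (List.range 191).zip (Data.prodT.zip Data.fmT)

/-- The branch of the root at a given position. -/
def childAt (i : ℕ) : Bool :=
  match rowsL.drop i with
  | [] => true
  | x :: rest => child (go 7) [] full 0 x rest (rowMask rest)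

/-- A segment of branches of the root. -/
def chunk (lo hi : ℕ) : Bool := (List.range (hi - lo)).all fun d => childAt (lo + d)

end Cfsg.Agent.Lib.J4Ten
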