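import Cfsg.Agent.Lib.J4Ten.Global
import Cfsg.Agent.Lib.J4Ten.SL5
import Cfsg.Agent.Lib.Cores.Gaschutz

/-!
# The normaliser splits over `2^10` with complement `SL(5, 2)`

The complement to the part normalising `V` gives one to all by Gaschütz; it acts faithfully on the
forms preserving those of rank two, so it is the exterior square group.
-/

set_option autoImplicit false
set_option linter.unusedSectionVars false
set_option maxRecDepth 10000

namespace Cfsg.Agent.Lib.J4Ten

open Cfsg Cfsg.Agent.Lib.Computation Cfsg.Agent.Lib.Golay Cfsg.Agent.Lib.J4Big.Cocode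
open Cfsg.Agent.Lib.J4Big.Orbit (orb)

attribute [local irreducible] Data.s28 Data.s35 Data.s120 Data.s840

theorem toGL_bijective {n : Type*} [DecidableEq n] [Fintype n] {R : Type*} [CommRing R]
    (h : ∀ g : GL n R, (g : Matrix n n R).det = 1) :
    Function.Bijective (fun g : Matrix.SpecialLinearGroup n R => Matrix.SpecialLinearGroup.toGL g) := by
  refine ⟨fun a b hab => Subtype.ext (congrArg Units.val hab), fun g => ⟨⟨_, h g⟩, ?_⟩⟩
  exact Units.ext rfl

theorem card_sl52 : Nat.card (Matrix.SpecialLinearGroup (Fin 5) (ZMod 2)) = 9999360 := by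
  have h : Nat.card (GL (Fin 5) (ZMod 2)) = 9999360 := by
    rw [Matrix.card_GL_field, ZMod.card, Fin.prod_univ_five]
    norm_num
  rw [← h]
  refine Nat.card_congr (Equiv.ofBijective _ (toGL_bijective fun g => ?_))
  have hu : ∀ x : ZMod 2, x ≠ 0 → x = 1 := by decide
  exact hu _ ((Matrix.isUnit_iff_isUnit_det _).mp g.isUnit).ne_zero

theorem range_sqHom : sqHom.range = formStab := by
  refine Subgroup.eq_of_le_of_card_ge ?_ ?_
  · rintro _ ⟨g, rfl⟩
    exact sqHom_mem g
  · rw [Nat.card_congr (MonoidHom.ofInjective sqHom_injective).symm.toEquiv, card_sl52]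
    exact card_formStab_le

variable {G : Type*} [Group G] [Finite G]

namespace Model

variable {z : G} (M : Model z)

theorem exists_image {n : G} (hn : n ∈ Subgroup.normalizer (M.stdA : Set G)) (a : Fin 1024) :
    ∃ b : Fin 1024, cj n (M.chi a) = M.chi b := by
  obtain ⟨b, hb, he⟩ := M.mem_stdA.mp ((Subgroup.mem_normalizer_iff.mp hn _).mp (M.chi_mem a.2))
  exact ⟨⟨b, hb⟩, he.symm⟩

/-- The image of a coordinate. -/
noncomputable def img (n : ↥(Subgroup.normalizer (M.stdA : Set G))) (a : Fin 1024) : Fin 1024 :=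
  Classical.choose (M.exists_image n.2 a)

theorem img_spec (n : ↥(Subgroup.normalizer (M.stdA : Set G))) (a : Fin 1024) :
    cj (n : G) (M.chi a) = M.chi (M.img n a) :=
  Classical.choose_spec (M.exists_image n.2 a)

theorem img_eq (n : ↥(Subgroup.normalizer (M.stdA : Set G))) {a b : Fin 1024}
    (h : cj (n : G) (M.chi a) = M.chi b) : M.img n a = b :=
  Fin.ext (M.chi_inj (M.img n a).2 b.2 (by rw [← M.img_spec, h]))

theorem img_mul (m n : ↥(Subgroup.normalizer (M.stdA : Set G))) (a : Fin 1024) :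
    M.img (m * n) a = M.img m (M.img n a) :=
  M.img_eq _ (by rw [Subgroup.coe_mul, cj_mul, M.img_spec, M.img_spec])

theorem img_one (a : Fin 1024) : M.img 1 a = a :=
  M.img_eq _ (by simp [cj])

/-- The action on coordinates. -/
noncomputable def actHom : ↥(Subgroup.normalizer (M.stdA : Set G)) →* Equiv.Perm (Fin 1024) where
  toFun n :=
    { toFun := M.img n
      invFun := M.img n⁻¹
      left_inv := fun a => by rw [← img_mul, inv_mul_cancel, img_one]
      right_inv := fun a => by rw [← img_mul, mul_inv_cancel, img_one] }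
  map_one' := Equiv.ext M.img_one
  map_mul' m n := Equiv.ext (M.img_mul m n)

theorem actHom_apply (n : ↥(Subgroup.normalizer (M.stdA : Set G))) (a : Fin 1024) :
    M.actHom n a = M.img n a := rfl

theorem actHom_mem (hO : M.Outer) (n : ↥(Subgroup.normalizer (M.stdA : Set G))) :
    M.actHom n ∈ formStab := by
  refine mem_formStab.mpr ⟨fun a b => ?_, fun a => Bool.eq_iff_iff.mpr ?_⟩
  · rw [actHom_apply, actHom_apply, actHom_apply]
    refine M.img_eq n ?_
    show cj (n : G) (M.chi ((a : ℕ) ^^^ (b : ℕ))) = M.chi ((M.img n a : ℕ) ^^^ (M.img n b : ℕ))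
    rw [M.chi_mul a.2 b.2, map_mul, M.img_spec, M.img_spec, ← M.chi_mul (M.img n a).2 (M.img n b).2]
  · rw [decM_coord, decM_coord]
    exact ((M.normalizer_preserves hO n.2 a.2 (M.img n a).2 (M.img_spec n a)).2).symm

theorem mem_stdA_of_actHom {n : ↥(Subgroup.normalizer (M.stdA : Set G))} (h : M.actHom n = 1) :
    (n : G) ∈ M.stdA := by
  refine M.isTen_stdA.mem_of_commute fun x hx => ?_
  obtain ⟨a, ha, rfl⟩ := M.mem_stdA.mp hx
  have h1 := M.img_spec n ⟨a, ha⟩
  rw [show M.img n ⟨a, ha⟩ = ⟨a, ha⟩ from Equiv.ext_iff.mp h ⟨a, ha⟩, cj_apply] at h1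
  exact (mul_inv_eq_iff_eq_mul.mp h1).symm

/-- The complement. -/
theorem exists_split (hO : M.Outer) :
    ∃ B : Subgroup G, B ≤ Subgroup.normalizer (M.stdA : Set G) ∧ B ⊓ M.stdA = ⊥ ∧
      B ⊔ M.stdA = Subgroup.normalizer (M.stdA : Set G) ∧
      Nonempty (↥B ≃* Matrix.SpecialLinearGroup (Fin 5) (ZMod 2)) := by
  set N := Subgroup.normalizer (M.stdA : Set G) with hN
  have hAN : M.stdA ≤ N := Subgroup.le_normalizer
  set K := M.stdA.subgroupOf N with hK
  set U := M.uSub.subgroupOf N with hU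
  set A' := M.bSub.subgroupOf N with hA'
  have hUN : M.uSub ≤ N := inf_le_left
  have hBU : M.bSub ≤ M.uSub := M.bSub_le
  have hAU : M.stdA ≤ M.uSub := le_inf hAN M.stdA_le
  have : K.Normal := Subgroup.normal_in_normalizer
  have : IsMulCommutative ↥K :=
    ⟨⟨fun a b => Subtype.ext (Subtype.ext (M.stdA_comm a.2 b.2))⟩⟩
  have cK : Nat.card ↥K = 2 ^ 10 := by
    rw [Nat.card_congr (Subgroup.subgroupOfEquivOfLe hAN).toEquiv, M.card_stdA]
  have cU : Nat.card ↥U = 1024 * 322560 := by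
    rw [Nat.card_congr (Subgroup.subgroupOfEquivOfLe hUN).toEquiv, M.card_uSub]
  have cN : Nat.card ↥N = 1024 * 9999360 := M.card_normalizer hO
  have hidx : U.index = 31 := by
    have := U.card_mul_index
    rw [cU, cN] at this
    omega
  have hd : A' ⊓ K = ⊥ := by
    rw [eq_bot_iff]
    rintro x ⟨h1, h2⟩
    exact Subtype.ext (M.bSub_disjoint h1 h2)
  have hs : K ⊔ A' = U := by
    refine Subgroup.eq_of_le_of_card_ge (sup_le (fun x hx => hAU hx) (fun x hx => hBU hx)) ?_
    have hdisj : Disjoint A' K := disjoint_iff.mpr hd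
    have hinj : Function.Injective fun p : ↥A' × ↥K => ((p.1 : ↥N) * (p.2 : ↥N) : ↥N) :=
      Subgroup.mul_injective_of_disjoint hdisj
    calc Nat.card ↥U = Nat.card (↥A' × ↥K) := by
          rw [Nat.card_prod, Nat.card_congr (Subgroup.subgroupOfEquivOfLe (hBU.trans hUN)).toEquiv,
            M.card_bSub, cK, cU]
          norm_num
      _ ≤ Nat.card ↥(K ⊔ A') := by
          refine Nat.card_le_card_of_injective (fun p => ⟨(p.1 : ↥N) * (p.2 : ↥N),
            mul_mem (le_sup_right (a := K) p.1.2) (le_sup_left (b := A') p.2.2)⟩) ?_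
          intro p q h
          exact hinj (congrArg Subtype.val h)
  obtain ⟨H, hH⟩ := Cores.Gaschutz.exists_complement (U := U) (A := A')
    (fun x hx => hAU hx) (by rw [cK, hidx]; norm_num) hd hs
  have cH : Nat.card ↥H = 9999360 := by
    have := hH.card_mul_card
    rw [cK, cN] at this
    omega
  -- the action of the complement
  have hinjH : Function.Injective (M.actHom.comp H.subtype) := by
    rw [injective_iff_map_eq_one]
    intro h hh
    have : (h : ↥N) ∈ K := M.mem_stdA_of_actHom hh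
    exact Subtype.ext (Subgroup.disjoint_def.mp hH.disjoint this h.2)
  have hr : (M.actHom.comp H.subtype).range = formStab := by
    refine Subgroup.eq_of_le_of_card_ge ?_ ?_
    · rintro _ ⟨h, rfl⟩
      exact M.actHom_mem hO _
    · rw [Nat.card_congr (MonoidHom.ofInjective hinjH).symm.toEquiv, cH]
      exact card_formStab_le
  let e : ↥(H.map N.subtype) ≃* Matrix.SpecialLinearGroup (Fin 5) (ZMod 2) :=
    (H.equivMapOfInjective N.subtype N.subtype_injective).symm.trans
      ((MonoidHom.ofInjective hinjH).trans ((MulEquiv.subgroupCongr (hr.trans range_sqHom.symm)).trans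
        (MonoidHom.ofInjective sqHom_injective).symm))
  refine ⟨H.map N.subtype, Subgroup.map_subtype_le _, ?_, ?_, ⟨e⟩⟩
  · rw [eq_bot_iff]
    rintro x ⟨⟨y, hy, rfl⟩, hxA⟩
    have := Subgroup.disjoint_def.mp hH.disjoint (show y ∈ K from hxA) hy
    rw [this]
    rfl
  · refine le_antisymm (sup_le (Subgroup.map_subtype_le _) hAN) ?_
    intro x hx
    have : (⟨x, hx⟩ : ↥N) ∈ K ⊔ H := by rw [hH.sup_eq_top]; trivial
    have := Subgroup.mem_map_of_mem N.subtype this
    rw [Subgroup.map_sup, hK, Subgroup.map_subgroupOf_eq_of_le hAN] at this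
    rwa [sup_comm] at this

/-- The statement on the subgroups of order `2^10`. -/
theorem type_two_ten (hO : M.Outer) :
    (∃ A : Subgroup G, Cfsg.IsElementaryAbelian 2 A ∧ Nat.card ↥A = 2 ^ 10 ∧
      Subgroup.centralizer (A : Set G) = A) ∧
    (∀ A A' : Subgroup G, Cfsg.IsElementaryAbelian 2 A → Nat.card ↥A = 2 ^ 10 →
      Subgroup.centralizer (A : Set G) = A → Cfsg.IsElementaryAbelian 2 A' → Nat.card ↥A' = 2 ^ 10 →
      Subgroup.centralizer (A' : Set G) = A' → ∃ g : G, A' = A.map (MulAut.conj g).toMonoidHom) ∧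
    ∀ A : Subgroup G, Cfsg.IsElementaryAbelian 2 A → Nat.card ↥A = 2 ^ 10 →
      Subgroup.centralizer (A : Set G) = A →
      (∃ B : Subgroup G, B ≤ Subgroup.normalizer (A : Set G) ∧ B ⊓ A = ⊥ ∧
        B ⊔ A = Subgroup.normalizer (A : Set G) ∧
        Nonempty (↥B ≃* Matrix.SpecialLinearGroup (Fin 5) (ZMod 2))) ∧
      ∀ W : Subgroup G, W ≤ A → Subgroup.normalizer (A : Set G) ≤ Subgroup.normalizer (W : Set G) →
        W = ⊥ ∨ W = A := by
  refine ⟨⟨M.stdA, M.stdA_elementary, M.card_stdA, M.centralizer_stdA⟩, ?_, ?_⟩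
  · intro A A' h1 h2 h3 h4 h5 h6
    obtain ⟨g, hg⟩ := M.exists_conj_std ⟨h1, h2, h3⟩
    obtain ⟨g', hg'⟩ := M.exists_conj_std ⟨h4, h5, h6⟩
    refine ⟨g'⁻¹ * g, ?_⟩
    rw [show (MulAut.conj (g'⁻¹ * g)).toMonoidHom = cj (g'⁻¹ * g) from rfl, ← map_cj_map, hg, ← hg',
      map_cj_map, inv_mul_cancel, map_cj_one]
  intro A h1 h2 h3
  obtain ⟨g, hg⟩ := M.exists_conj_std ⟨h1, h2, h3⟩
  have hgA : M.stdA.map (cj g⁻¹) = A := by rw [← hg, map_cj_map, inv_mul_cancel, map_cj_one]
  have hn : (Subgroup.normalizer (M.stdA : Set G)).map (cj g⁻¹) = Subgroup.normalizer (A : Set G) := by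
    rw [← hgA]
    exact Subgroup.map_equiv_normalizer_eq M.stdA (MulAut.conj g⁻¹)
  constructor
  · obtain ⟨B, hB, hd, hs, ⟨e⟩⟩ := M.exists_split hO
    refine ⟨B.map (cj g⁻¹), hn ▸ Subgroup.map_mono hB, ?_, ?_, ⟨((B.equivMapOfInjective (cj g⁻¹)
      (MulAut.conj g⁻¹).injective).symm.trans e)⟩⟩
    · rw [← hgA, ← Subgroup.map_inf _ _ _ (MulAut.conj g⁻¹).injective, hd, Subgroup.map_bot]
    · rw [← hn, ← hs, ← hgA, Subgroup.map_sup]
  · intro W hW hN
    have hW' : W.map (cj g) ≤ M.stdA := hg ▸ Subgroup.map_mono hW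
    rcases M.irreducible hO hW' (by
      have h := Subgroup.map_mono (f := cj g) hN
      rw [← hn, map_cj_map, mul_inv_cancel, map_cj_one] at h
      exact h.trans_eq (Subgroup.map_equiv_normalizer_eq W (MulAut.conj g))) with h | h
    · left
      exact (Subgroup.map_eq_bot_iff_of_injective _ (MulAut.conj g).injective).mp h
    · right
      rw [← hgA, ← h, map_cj_map, inv_mul_cancel, map_cj_one]

/-- The statement on the orbits. -/
theorem two_ten_orbits (hO : M.Outer) (A : Subgroup G) (h1 : Cfsg.IsElementaryAbelian 2 A)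
    (h2 : Nat.card ↥A = 2 ^ 10) (h3 : Subgroup.centralizer (A : Set G) = A) :
    ∃ a b : G, a ∈ A ∧ b ∈ A ∧
      Set.ncard {v : G | ∃ n ∈ Subgroup.normalizer (A : Set G), n * a * n⁻¹ = v} = 155 ∧
      Set.ncard {v : G | ∃ n ∈ Subgroup.normalizer (A : Set G), n * b * n⁻¹ = v} = 868 := by
  obtain ⟨g, hg⟩ := M.exists_conj_std ⟨h1, h2, h3⟩
  have hgA : M.stdA.map (cj g⁻¹) = A := by rw [← hg, map_cj_map, inv_mul_cancel, map_cj_one]
  have hn : (Subgroup.normalizer (M.stdA : Set G)).map (cj g⁻¹) = Subgroup.normalizer (A : Set G) := by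
    rw [← hgA]
    exact Subgroup.map_equiv_normalizer_eq M.stdA (MulAut.conj g⁻¹)
  obtain ⟨a, b, ha, hb, h155, h868⟩ := M.orbits_two hO
  have key : ∀ x : G, {v : G | ∃ n ∈ Subgroup.normalizer (A : Set G), n * cj g⁻¹ x * n⁻¹ = v} =
      cj g⁻¹ '' orb (Subgroup.normalizer (M.stdA : Set G)) x := by
    intro x
    rw [← hn]
    ext v
    constructor
    · rintro ⟨_, ⟨m, hm, rfl⟩, rfl⟩
      exact ⟨m * x * m⁻¹, ⟨m, hm, rfl⟩, by rw [map_mul, map_mul, map_inv]⟩
    · rintro ⟨_, ⟨m, hm, rfl⟩, rfl⟩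
      exact ⟨_, ⟨m, hm, rfl⟩, by rw [map_mul, map_mul, map_inv]⟩
  have hinj : Function.Injective (cj g⁻¹) := (MulAut.conj g⁻¹).injective
  refine ⟨cj g⁻¹ (M.chi a), cj g⁻¹ (M.chi b), hgA ▸ ⟨_, M.chi_mem ?_, rfl⟩, hgA ▸ ⟨_, M.chi_mem ?_, rfl⟩,
    ?_, ?_⟩
  · exact (coord_lt (Or.inr (Or.inl ha))).1
  · exact (coord_lt (Or.inl hb)).1
  · rw [key, Set.ncard_image_of_injective _ hinj, h155]
  · rw [key, Set.ncard_image_of_injective _ hinj, h868]

end Model

end Cfsg.Agent.Lib.J4Ten
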