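import Cfsg.Agent.Lib.J4Ten.Model

/-!
# Every self-centralising elementary `2^10` is conjugate to the standard one
-/

set_option autoImplicit false
set_option linter.unusedSectionVars false

namespace Cfsg.Agent.Lib.J4Ten

open Cfsg Cfsg.Agent.Lib.Computation Cfsg.Agent.Lib.Golay Cfsg.Agent.Lib.J4Big.Cocode
open scoped Pointwise

variable {G : Type*} [Group G]

theorem mem_map_cj {A : Subgroup G} {g x : G} : x ∈ A.map (cj g) ↔ g⁻¹ * x * g ∈ A := by
  constructor
  · rintro ⟨a, ha, rfl⟩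
    simpa [cj, mul_assoc] using ha
  · intro h
    exact ⟨_, h, by simp [cj, mul_assoc]⟩

theorem mem_normalizer_of_map_eq {A : Subgroup G} {g : G} (h : A.map (cj g) = A) :
    g ∈ Subgroup.normalizer (A : Set G) := by
  refine Subgroup.mem_normalizer_iff.mpr fun x => ⟨fun hx => h ▸ ⟨x, hx, rfl⟩, fun hx => ?_⟩
  rw [← h, mem_map_cj] at hx
  simpa [mul_assoc] using hx

theorem map_cj_of_mem {A : Subgroup G} {g : G} (h : g ∈ Subgroup.normalizer (A : Set G)) :
    A.map (cj g) = A := by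
  ext x
  rw [mem_map_cj, Subgroup.mem_normalizer_iff.mp h (g⁻¹ * x * g)]
  simp [mul_assoc]

/-- The hypotheses on a subgroup. -/
structure IsTen (A : Subgroup G) : Prop where
  elem : Cfsg.IsElementaryAbelian 2 A
  card : Nat.card ↥A = 2 ^ 10
  self : Subgroup.centralizer (A : Set G) = A

theorem IsTen.sq {A : Subgroup G} (h : IsTen A) {a : G} (ha : a ∈ A) : a * a = 1 := by
  rw [← pow_two]; exact h.elem.2 a ha

theorem IsTen.comm {A : Subgroup G} (h : IsTen A) {a b : G} (ha : a ∈ A) (hb : b ∈ A) :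
    a * b = b * a := congrArg Subtype.val (h.elem.1.1.1 ⟨a, ha⟩ ⟨b, hb⟩)

theorem IsTen.mem_of_commute {A : Subgroup G} (h : IsTen A) {x : G}
    (hx : ∀ a ∈ A, a * x = x * a) : x ∈ A := by
  have : x ∈ Subgroup.centralizer (A : Set G) := Subgroup.mem_centralizer_iff.mpr hx
  rwa [h.self] at this

theorem elementary_map {A : Subgroup G} (h : Cfsg.IsElementaryAbelian 2 A) (g : G) :
    Cfsg.IsElementaryAbelian 2 (A.map (cj g)) := by
  refine ⟨⟨⟨fun a b => Subtype.ext ?_⟩⟩, ?_⟩
  · obtain ⟨x, hx, hxe⟩ := a.2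
    obtain ⟨y, hy, hye⟩ := b.2
    rw [Subgroup.coe_mul, Subgroup.coe_mul, ← hxe, ← hye, ← map_mul, ← map_mul,
      show x * y = y * x from congrArg Subtype.val (h.1.1.1 ⟨x, hx⟩ ⟨y, hy⟩)]
  · rintro _ ⟨x, hx, rfl⟩
    rw [← map_pow, h.2 x hx, map_one]

theorem card_map_cj (A : Subgroup G) (g : G) : Nat.card ↥(A.map (cj g)) = Nat.card ↥A :=
  Subgroup.card_map_of_injective (MulAut.conj g).injective

theorem IsTen.map {A : Subgroup G} (h : IsTen A) (g : G) : IsTen (A.map (cj g)) := by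
  refine ⟨elementary_map h.elem g, by rw [card_map_cj, h.card], le_antisymm (fun x hx => ?_) ?_⟩
  · rw [mem_map_cj]
    refine h.mem_of_commute fun a ha => ?_
    have := Subgroup.mem_centralizer_iff.mp hx (cj g a) ⟨a, ha, rfl⟩
    simp only [cj_apply] at this
    calc a * (g⁻¹ * x * g) = g⁻¹ * (g * a * g⁻¹ * x) * g := by group
      _ = g⁻¹ * (x * (g * a * g⁻¹)) * g := by rw [this]
      _ = _ := by group
  · rintro _ ⟨a, ha, rfl⟩
    refine Subgroup.mem_centralizer_iff.mpr ?_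
    rintro _ ⟨b, hb, rfl⟩
    rw [← map_mul, ← map_mul, h.comm hb ha]

namespace Model

variable {z : G} (M : Model z)

theorem isTen_stdA : IsTen M.stdA := ⟨M.stdA_elementary, M.card_stdA, M.centralizer_stdA⟩

variable [Finite G]

theorem card_V : Nat.card ↥M.V = 2 ^ 11 := by
  have : (M.V : Set G) = M.ψ '' Set.Iio 2048 := by
    ext v
    refine ⟨fun hv => ?_, ?_⟩
    · obtain ⟨a, ha, rfl⟩ := M.frame.surj v hv
      exact ⟨a, ha, rfl⟩
    · rintro ⟨a, -, rfl⟩
      exact M.frame.mem a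
  have hinj : Set.InjOn M.ψ (Set.Iio 2048) := fun a ha b hb h => M.frame.inj a b ha hb h
  rw [← SetLike.coe_sort_coe, Nat.card_coe_set_eq, this, hinj.ncard_image, ← Finset.coe_Iio,
    Set.ncard_coe_finset, Nat.card_Iio]
  norm_num

theorem V_elementary : Cfsg.IsElementaryAbelian 2 M.V :=
  ⟨⟨⟨fun a b => Subtype.ext (M.commV a.2 b.2)⟩⟩, fun v hv => by
    rw [pow_two]; exact M.frame.sq v hv⟩

theorem isPGroup_V : IsPGroup 2 ↥M.V := IsPGroup.of_card (n := 11) M.card_V

/-- A 2-subgroup is conjugate into the normaliser of `V`. -/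
theorem exists_conj_into {A : Subgroup G} (hA : IsPGroup 2 ↥A) :
    ∃ g : G, A.map (cj g) ≤ Subgroup.normalizer (M.V : Set G) := by
  have := Fact.mk Nat.prime_two
  obtain ⟨T, hT⟩ := hA.exists_le_sylow
  obtain ⟨T', hT'⟩ := M.isPGroup_V.exists_le_sylow
  obtain ⟨g, hg⟩ := MulAction.exists_smul_eq G T T'
  have hTT : (T' : Subgroup G) = (T : Subgroup G).map (cj g) := by rw [← hg]; rfl
  refine ⟨g, le_trans (Subgroup.map_mono hT) (hTT ▸ fun t ht => mem_normalizer_of_map_eq ?_)⟩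
  refine (M.unique T').unique ⟨?_, elementary_map M.V_elementary t, by rw [card_map_cj, M.card_V]⟩
    ⟨hT', M.V_elementary, M.card_V⟩
  rintro _ ⟨v, hv, rfl⟩
  exact mul_mem (mul_mem ht (hT' hv)) (inv_mem ht)

/-- A self-centralising `2^10` in the normaliser whose image lies in the listed Sylow subgroup is
the standard one up to translation. -/
theorem eq_std_of_image {A : Subgroup G} (hA : IsTen A)
    (hAN : A ≤ Subgroup.normalizer (M.V : Set G))
    (hinv : ∀ a ∈ A, ∀ σ : Equiv.Perm GolayPt, Rel M.ψ a σ → σ ≠ 1 →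
      ∃ c ∈ Data.invC, gperm c = σ) :
    ∃ w ∈ M.V, A.map (cj w) = M.stdA := by
  classical
  choose φ hφV hφR using fun a : ↥A => M.decomp_rel (hAN a.2)
  let f : ↥A →* Equiv.Perm GolayPt :=
    { toFun := fun a => (φ a : Equiv.Perm GolayPt)
      map_one' := M.frame.rel_unique (hφR 1) IsFrame.rel_one
      map_mul' := fun a b => M.frame.rel_unique (hφR (a * b)) (IsFrame.rel_mul (hφR a) (hφR b)) }
  let Fx : Equiv.Perm GolayPt → ℕ → Prop := fun σ v => ∀ h : σ ∈ Cfsg.M24, Commute (M.lift ⟨σ, h⟩) (M.ψ v)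
  -- an element of `A` commutes with a vector as the lift of its image does
  have hlift : ∀ (a : ↥A) (v : ℕ), Fx (f a) v ↔ Commute (a : G) (M.ψ v) := by
    intro a v
    have hc : Commute ((M.lift (φ a))⁻¹ * (a : G)) (M.ψ v) := M.commV (hφV a) (M.frame.mem v)
    constructor
    · intro h
      have h' : Commute (M.lift (φ a)) (M.ψ v) := h (φ a).2
      have := h'.mul_left hc
      rwa [mul_inv_cancel_left] at this
    · intro h _
      show Commute (M.lift (φ a)) (M.ψ v)
      have := h.mul_left hc.inv_left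
      rwa [mul_inv_rev, inv_inv, mul_inv_cancel_left] at this
  have hfixA : ∀ v, M.ψ v ∈ A ↔ ∀ u ∈ f.range, Fx u v := by
    intro v
    constructor
    · rintro hv _ ⟨a, rfl⟩
      exact (hlift a v).mpr (hA.comm a.2 hv)
    · exact fun h => hA.mem_of_commute fun a ha => ((hlift ⟨a, ha⟩ v).mp (h _ ⟨⟨a, ha⟩, rfl⟩)).eq
  have hker : Nat.card ↥f.ker = {v | v < 2048 ∧ ∀ u ∈ f.range, Fx u v}.ncard := by
    have hkV : ∀ a : ↥A, a ∈ f.ker ↔ (a : G) ∈ M.V := by
      intro a
      rw [MonoidHom.mem_ker]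
      constructor
      · intro h
        refine M.mem_V_of_rel (hAN a.2) ?_
        have := hφR a
        rwa [show (φ a : Equiv.Perm GolayPt) = 1 from h] at this
      · exact fun h => M.frame.rel_unique (hφR a) (M.rel_of_mem h)
    have himg : ((fun a : ↥A => (a : G)) '' (f.ker : Set ↥A)) =
        M.ψ '' {v | v < 2048 ∧ ∀ u ∈ f.range, Fx u v} := by
      ext x
      constructor
      · rintro ⟨a, ha, rfl⟩
        obtain ⟨v, hv, hve⟩ := M.frame.surj _ ((hkV a).mp ha)
        exact ⟨v, ⟨hv, (hfixA v).mp (hve ▸ a.2)⟩, hve⟩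
      · rintro ⟨v, ⟨hv, h⟩, rfl⟩
        exact ⟨⟨_, (hfixA v).mpr h⟩, (hkV _).mpr (M.frame.mem v), rfl⟩
    have hinj : Set.InjOn M.ψ {v | v < 2048 ∧ ∀ u ∈ f.range, Fx u v} := fun a ha b hb h =>
      M.frame.inj a b ha.1 hb.1 h
    rw [← hinj.ncard_image, ← himg, Set.ncard_image_of_injective _ Subtype.val_injective,
      ← Nat.card_coe_set_eq, SetLike.coe_sort_coe]
  have hsq : ∀ u ∈ f.range, u * u = 1 := by
    rintro _ ⟨a, rfl⟩
    rw [← map_mul, show a * a = 1 from Subtype.ext (hA.sq a.2), map_one]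
  have hM24 : ∀ u ∈ f.range, u ∈ Cfsg.M24 := by
    rintro _ ⟨a, rfl⟩
    exact (φ a).2
  have hU : f.range = octadFix oct := by
    refine eq_octadFix (Fx := Fx) hsq ?_ ?_ ?_ ?_ ?_
    · rintro _ ⟨a, rfl⟩ hne
      exact hinv a a.2 _ (hφR a) hne
    · intro c hc hcU v hv
      have hM := hM24 _ hcU
      rw [← M.commute_psi_iff hc (M.lift_rel ⟨gperm c, hM⟩) hv]
      exact ⟨fun h => h hM, fun h _ => h⟩
    · intro v h
      rw [show (⟨1, h⟩ : ↥Cfsg.M24) = 1 from rfl, map_one]
      exact Commute.one_left _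
    · intro σ hσ τ hτ v h1 h2 h
      rw [show (⟨σ * τ, h⟩ : ↥Cfsg.M24) = ⟨σ, hM24 σ hσ⟩ * ⟨τ, hM24 τ hτ⟩ from rfl, map_mul]
      exact (h1 _).mul_left (h2 _)
    · rw [← hker, mul_comm, ← Subgroup.index_ker, Subgroup.card_mul_index, hA.card]
      norm_num
  -- the fixed space is in `A`
  have hC : ∀ v, cMask.testBit v = true → M.ψ v ∈ A := by
    intro v hv
    obtain ⟨k, hk, rfl⟩ := cMask_exists hv
    refine (hfixA _).mpr fun u hu hM => ?_
    rw [hU] at hu
    obtain ⟨i, hi, hie⟩ := eq_rM (σ := ⟨u, hM⟩) hu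
    rw [← hie]
    exact M.rhat_comm_cV hi k
  have hpre : ∀ i < 16, ∃ v < 2048, M.rhat i * M.ψ v ∈ A := by
    intro i hi
    obtain ⟨a, ha⟩ : (rM i : Equiv.Perm GolayPt) ∈ f.range := hU ▸ rM_mem hi
    have hi' : φ a = rM i := Subtype.ext ha
    have := hφV a
    rw [hi'] at this
    obtain ⟨v, hv, hve⟩ := M.frame.surj _ this
    refine ⟨v, hv, ?_⟩
    rw [hve, rhat, mul_inv_cancel_left]
    exact a.2
  have hfixr : ∀ {i v : ℕ}, i < 16 → v < 2048 → M.rhat i * M.ψ v ∈ A → actC (rC i) v = v := by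
    intro i v hi hv hmem
    have h2 := hA.sq hmem
    have h3 : M.rhat i * M.rhat i = 1 := by
      rw [rhat, ← map_mul, ← rM_xor hi hi, Nat.xor_self, rM_zero, map_one]
    refine (M.commute_psi_iff (rC_spec hi).1 (M.rel_rhat hi) hv).mp ?_
    show _ = _
    calc M.rhat i * M.ψ v = (M.rhat i * M.ψ v)⁻¹ := (inv_eq_of_mul_eq_one_right h2).symm
      _ = _ := by rw [mul_inv_rev, M.psi_inv, inv_eq_of_mul_eq_one_right h3]
  -- normalise the element over `r₁`
  obtain ⟨v1, hv1, hA1⟩ := hpre 1 (by norm_num)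
  have hfix1 := hfixr (by norm_num) hv1 hA1
  obtain ⟨w, hw, k, hk, hvk⟩ := fixed_split (i := 1) (by norm_num) (by norm_num) hv1 hfix1
  refine ⟨M.ψ w, M.frame.mem w, ?_⟩
  set A' := A.map (cj (M.ψ w)) with hA'
  have hAT : IsTen A' := hA.map _
  have hC' : ∀ v, cMask.testBit v = true → M.ψ v ∈ A' := by
    intro v hv
    refine mem_map_cj.mpr ?_
    rw [M.psi_inv, M.commV (M.frame.mem w) (M.frame.mem v), mul_assoc,
      M.frame.sq _ (M.frame.mem w), mul_one]
    exact hC v hv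
  have h1' : M.rhat 1 ∈ A' := by
    have hmem : cj (M.ψ w) (M.rhat 1 * M.ψ v1) ∈ A' := ⟨_, hA1, rfl⟩
    have hact := M.conj_psi (rC_spec (i := 1) (by norm_num)).1 (M.rel_rhat (i := 1) (by norm_num)) hw
    have e : cj (M.ψ w) (M.rhat 1 * M.ψ v1) = M.rhat 1 * M.ψ (cV k) := by
      have hr2 : (M.rhat 1)⁻¹ = M.rhat 1 := by
        refine inv_eq_of_mul_eq_one_right ?_
        rw [rhat, ← map_mul, ← rM_xor (by norm_num) (by norm_num), Nat.xor_self, rM_zero, map_one]
      have hact' : M.rhat 1 * M.ψ w * M.rhat 1 = M.ψ (actC (rC 1) w) := by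
        rw [← hact, hr2]
      have hsq1 : M.rhat 1 * M.rhat 1 = 1 := by
        nth_rewrite 1 [← hr2]; exact inv_mul_cancel _
      rw [cj_apply, M.psi_inv]
      calc M.ψ w * (M.rhat 1 * M.ψ v1) * M.ψ w
          = M.rhat 1 * ((M.rhat 1 * M.ψ w * M.rhat 1) * (M.ψ v1 * M.ψ w)) := by
            rw [← mul_assoc (M.rhat 1) (M.rhat 1 * M.ψ w * M.rhat 1),
              ← mul_assoc (M.rhat 1), ← mul_assoc (M.rhat 1), hsq1, one_mul]
            simp only [mul_assoc]
        _ = M.rhat 1 * M.ψ (cV k) := by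
            rw [hact', M.psi_mul hv1 hw, M.psi_mul (actC_lt _ _) (Nat.xor_lt_two_pow (n := 11) hv1 hw)]
            congr 2
            rw [hvk]
            apply Nat.eq_of_testBit_eq
            intro j
            simp only [Nat.testBit_xor]
            cases (actC (rC 1) w).testBit j <;> cases w.testBit j <;> cases (cV k).testBit j <;> rfl
    rw [e] at hmem
    have := mul_mem hmem (hC' _ (testBit_cMask_cV (k := k)))
    rwa [mul_assoc, M.frame.sq _ (M.frame.mem _), mul_one] at this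
  have hb : ∀ b ∈ [2, 4, 8], M.rhat b ∈ A' := by
    intro b hb
    have hb16 : b < 16 := by
      simp only [List.mem_cons, List.not_mem_nil, or_false] at hb; omega
    obtain ⟨v, hv, hAb⟩ := hpre b hb16
    have hmem : cj (M.ψ w) (M.rhat b * M.ψ v) ∈ A' := ⟨_, hAb, rfl⟩
    -- it is again a lift times a vector
    obtain ⟨u, hu, hue⟩ := M.frame.surj ((M.rhat b)⁻¹ * cj (M.ψ w) (M.rhat b * M.ψ v)) (by
      have hn := (Subgroup.mem_normalizer_iff.mp (inv_mem (M.lift_mem (rM b))) (M.ψ w)).mp (M.frame.mem w)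
      rw [cj_apply, show (M.rhat b)⁻¹ * (M.ψ w * (M.rhat b * M.ψ v) * (M.ψ w)⁻¹) =
        (M.rhat b)⁻¹ * M.ψ w * (M.rhat b)⁻¹⁻¹ * (M.ψ v * (M.ψ w)⁻¹) by group]
      exact mul_mem hn (mul_mem (M.frame.mem v) (inv_mem (M.frame.mem w))))
    have hmem' : M.rhat b * M.ψ u ∈ A' := by rw [hue, mul_inv_cancel_left]; exact hmem
    have h1 : actC (rC 1) u = u := by
      refine (M.commute_psi_iff (rC_spec (by norm_num)).1 (M.rel_rhat (by norm_num)) hu).mp ?_
      have hcb : Commute (M.rhat 1) (M.rhat b) :=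
        M.stdA_comm (M.rhat_mem_stdA (by norm_num)) (M.rhat_mem_stdA hb16)
      have := hcb.inv_right.mul_right (hAT.comm h1' hmem' : Commute (M.rhat 1) _)
      rwa [inv_mul_cancel_left] at this
    have h2 : actC (rC b) u = u := by
      refine (M.commute_psi_iff (rC_spec hb16).1 (M.rel_rhat hb16) hu).mp ?_
      have hsq := hAT.sq hmem'
      have h3 : (M.rhat b)⁻¹ = M.rhat b := by
        refine inv_eq_of_mul_eq_one_right ?_
        rw [rhat, ← map_mul, ← rM_xor hb16 hb16, Nat.xor_self, rM_zero, map_one]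
      show _ = _
      calc M.rhat b * M.ψ u = (M.rhat b * M.ψ u)⁻¹ := (inv_eq_of_mul_eq_one_right hsq).symm
        _ = _ := by rw [mul_inv_rev, M.psi_inv, h3]
    have hm : cMask.testBit u = true := by
      have hp := List.all_eq_true.mp fix_pair b hb
      rw [Nat.beq_eq] at hp
      rw [← hp, Nat.testBit_and, Bool.and_eq_true, testBit_fixC, testBit_fixC]
      exact ⟨⟨hu, h1⟩, hu, h2⟩
    have := mul_mem hmem' (hC' u hm)
    rwa [mul_assoc, M.frame.sq _ (M.frame.mem _), mul_one] at this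
  have hr : ∀ i < 16, M.rhat i ∈ A' := by
    intro i hi
    have hx : ∀ a b, a < 16 → b < 16 → M.rhat a ∈ A' → M.rhat b ∈ A' → M.rhat (a ^^^ b) ∈ A' := by
      intro a b ha hb' h1 h2
      rw [rhat, rM_xor ha hb', map_mul]
      exact mul_mem h1 h2
    have h0 : M.rhat 0 ∈ A' := by rw [rhat, rM_zero, map_one]; exact one_mem _
    have h2 := hb 2 (by simp)
    have h4 := hb 4 (by simp)
    have h8 := hb 8 (by simp)
    have h3 : M.rhat (1 ^^^ 2) ∈ A' := hx 1 2 (by norm_num) (by norm_num) h1' h2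
    have l4 : ∀ a < 4, M.rhat a ∈ A' := by
      intro a ha; interval_cases a <;> assumption
    have l8 : ∀ a < 8, M.rhat a ∈ A' := by
      intro a ha
      rcases Nat.lt_or_ge a 4 with h | h
      · exact l4 a h
      · have e : a = (a - 4) ^^^ 4 := by interval_cases a <;> rfl
        rw [e]; exact hx _ _ (by omega) (by norm_num) (l4 _ (by omega)) h4
    rcases Nat.lt_or_ge i 8 with h | h
    · exact l8 i h
    · have e : i = (i - 8) ^^^ 8 := by interval_cases i <;> rfl
      rw [e]; exact hx _ _ (by omega) (by norm_num) (l8 _ (by omega)) h8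
  refine (Subgroup.eq_of_le_of_card_ge ?_ (by rw [hAT.card, M.card_stdA])).symm
  rintro _ ⟨a, ha, rfl⟩
  exact mul_mem (hC' _ testBit_cMask_cV) (hr _ (by
    have : a < 1024 := ha
    omega))
where
  fixed_split {i v : ℕ} (hi : i < 16) (h0 : i ≠ 0) (hv : v < 2048) (h : actC (rC i) v = v) :
      ∃ w < 2048, ∃ k < 64, v = actC (rC i) w ^^^ w ^^^ cV k := by
    have hf : (fixC (rC i)).testBit v = true := testBit_fixC.mpr ⟨hv, h⟩
    have hm := fix_one
    simp only [List.all_eq_true, List.mem_range, Bool.or_eq_true, Nat.beq_eq] at hm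
    rw [(hm i hi).resolve_left h0, testBit_idMask] at hf
    refine spanL_induction (Q := fun v => ∃ w < 2048, ∃ k < 64, v = actC (rC i) w ^^^ w ^^^ cV k)
      ⟨0, by norm_num, 0, by norm_num, by simp [cV_zero, actC, combine_zero]⟩ ?_ ?_ v hf
    · rintro _ _ ⟨w, hw, k, hk, rfl⟩ ⟨w', hw', k', hk', rfl⟩
      refine ⟨w ^^^ w', Nat.xor_lt_two_pow (n := 11) hw hw', k ^^^ k',
        Nat.xor_lt_two_pow (n := 6) hk hk', ?_⟩
      rw [actC_xor, cV_xor]
      apply Nat.eq_of_testBit_eq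
      intro j
      simp only [Nat.testBit_xor]
      cases (actC (rC i) w).testBit j <;> cases (actC (rC i) w').testBit j <;>
        cases w.testBit j <;> cases w'.testBit j <;> cases (cV k).testBit j <;>
        cases (cV k').testBit j <;> rfl
    · intro a ha
      rcases List.mem_append.mp ha with h' | h'
      · obtain ⟨b, hb, rfl⟩ := List.mem_map.mp h'
        rw [List.mem_range] at hb
        refine ⟨2 ^ b, lt_of_lt_of_le (Nat.pow_lt_pow_right (by norm_num) hb) (by norm_num), 0,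
          by norm_num, ?_⟩
        rw [cV_zero, Nat.xor_zero]
        congr 1
        have hcol : (cols (rC i)).getD b 0 = colC (rC i) b := by
          rw [List.getD_eq_getElem _ _ (by rw [cols_length]; exact hb)]
          simp [cols]
        have hp : ∀ (l : List ℕ) (b : ℕ), b < l.length → combine l (2 ^ b) = l.getD b 0 := by
          intro l
          induction l with
          | nil => intro b h; simp at h
          | cons r l ih =>
            intro b h
            cases b with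
            | zero => simp [combine, combine_zero]
            | succ b =>
              rw [combine, if_neg (by omega), show 2 ^ (b + 1) / 2 = 2 ^ b by omega,
                ih b (by simpa using h), Nat.zero_xor, List.getD_cons_succ]
        rw [actC, hp _ b (by rw [cols_length]; exact hb), hcol]
      · obtain ⟨j, hj, rfl⟩ := List.getElem_of_mem h'
        have hb6 : ∀ j < 6, Data.cB.getD j 0 = cV (2 ^ j) := by decide +kernel
        have hlen : Data.cB.length = 6 := by decide +kernel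
        refine ⟨0, by norm_num, 2 ^ j, lt_of_lt_of_le (Nat.pow_lt_pow_right (by norm_num)
          (hlen ▸ hj)) (by norm_num), ?_⟩
        rw [← hb6 j (hlen ▸ hj), List.getD_eq_getElem _ _ hj, actC, combine_zero, Nat.xor_zero,
          Nat.zero_xor]

/-- One inside the normaliser of `V` is conjugate to the standard one there. -/
theorem exists_norm_std {A1 : Subgroup G} (hA1 : IsTen A1)
    (hg : A1 ≤ Subgroup.normalizer (M.V : Set G)) :
    ∃ n ∈ Subgroup.normalizer (M.V : Set G), A1.map (cj n) = M.stdA := by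
  have := Fact.mk Nat.prime_two
  obtain ⟨P, hPM, hPc, hPi⟩ := exists_sylow
  have hc : Nat.card ↥(P.subgroupOf Cfsg.M24) = 2 ^ (Nat.card ↥Cfsg.M24).factorization 2 := by
    rw [Nat.card_congr (Subgroup.subgroupOfEquivOfLe hPM).toEquiv, hPc, card_M24,
      show (244823040 : ℕ) = 2 ^ 10 * 239085 by norm_num,
      Nat.factorization_mul (by norm_num) (by norm_num), Finsupp.add_apply,
      Nat.Prime.factorization_pow Nat.prime_two,
      Nat.factorization_eq_zero_of_not_dvd (by norm_num : ¬ 2 ∣ 239085)]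
    simp
  let Ps : Sylow 2 ↥Cfsg.M24 := Sylow.ofCard (P.subgroupOf Cfsg.M24) hc
  let Um : Subgroup ↥Cfsg.M24 :=
    { carrier := {σ | ∃ a ∈ A1, Rel M.ψ a (σ : Equiv.Perm GolayPt)}
      one_mem' := ⟨1, one_mem _, IsFrame.rel_one⟩
      mul_mem' := by
        rintro σ τ ⟨a, ha, hr⟩ ⟨b, hb, hr'⟩
        exact ⟨a * b, mul_mem ha hb, IsFrame.rel_mul hr hr'⟩
      inv_mem' := by
        rintro σ ⟨a, ha, hr⟩
        have h2 : (σ : Equiv.Perm GolayPt) * σ = 1 := M.frame.rel_unique
          (hA1.sq ha ▸ IsFrame.rel_mul hr hr) IsFrame.rel_one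
        refine ⟨a, ha, ?_⟩
        rw [Subgroup.coe_inv, inv_eq_of_mul_eq_one_right h2]
        exact hr }
  have hUp : IsPGroup 2 ↥Um := by
    rintro ⟨σ, a, ha, hr⟩
    refine ⟨1, Subtype.ext (Subtype.ext ?_)⟩
    simp only [pow_one, pow_two, Subgroup.coe_mul, Subgroup.coe_one]
    exact M.frame.rel_unique (hA1.sq ha ▸ IsFrame.rel_mul hr hr) IsFrame.rel_one
  obtain ⟨S, hS⟩ := hUp.exists_le_sylow
  obtain ⟨τ, hτ⟩ := MulAction.exists_smul_eq ↥Cfsg.M24 S Ps
  have hτm : (Ps : Subgroup ↥Cfsg.M24) = (S : Subgroup ↥Cfsg.M24).map (MulAut.conj τ).toMonoidHom := by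
    rw [← hτ]; rfl
  obtain ⟨w, hwV, hw⟩ := M.eq_std_of_image (hA1.map (M.lift τ)) (by
    rintro _ ⟨a, ha, rfl⟩
    exact mul_mem (mul_mem (M.lift_mem τ) (hg ha)) (inv_mem (M.lift_mem τ))) (by
    rintro _ ⟨a, ha, rfl⟩ σ hr hne
    obtain ⟨ρ, -, hρ⟩ := M.decomp_rel (hg ha)
    have hρU : ρ ∈ Um := ⟨a, ha, hρ⟩
    have hmem : τ * ρ * τ⁻¹ ∈ (Ps : Subgroup ↥Cfsg.M24) := hτm ▸ ⟨ρ, hS hρU, rfl⟩
    have hσ : σ = ((τ * ρ * τ⁻¹ : ↥Cfsg.M24) : Equiv.Perm GolayPt) := by
      refine M.frame.rel_unique hr ?_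
      rw [cj_apply, ← map_inv, Subgroup.coe_mul, Subgroup.coe_mul]
      exact IsFrame.rel_mul (IsFrame.rel_mul (M.lift_rel τ) hρ) (M.lift_rel τ⁻¹)
    refine hPi σ (hσ ▸ hmem) ?_ hne
    refine M.frame.rel_unique (n := cj (M.lift τ) a * cj (M.lift τ) a) (IsFrame.rel_mul hr hr) ?_
    rw [← map_mul, hA1.sq ha, map_one]
    exact IsFrame.rel_one)
  exact ⟨w * M.lift τ, mul_mem (M.V_le hwV) (M.lift_mem τ), by rw [← map_cj_map]; exact hw⟩

/-- Every self-centralising elementary `2^10` is conjugate to the standard one. -/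
theorem exists_conj_std {A : Subgroup G} (hA : IsTen A) : ∃ g : G, A.map (cj g) = M.stdA := by
  obtain ⟨g, hg⟩ := M.exists_conj_into (IsPGroup.of_card (n := 10) hA.card)
  obtain ⟨n, -, hn⟩ := M.exists_norm_std (hA.map g) hg
  exact ⟨n * g, by rw [← map_cj_map]; exact hn⟩

end Model

end Cfsg.Agent.Lib.J4Ten
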